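import Cfsg.Agent.TypeM.Two
import Cfsg.Agent.UGT.End

/-!
# UGT, END nodes: groups of type `MT n` and groups without outer automorphisms (helper514)

* `endInner_of_mt`: if `X` has one class of involutions and `C_X(t) = 2.A_n`, `n ≥ 5`, then
  `O(C_X(s)) = 1` for all involutions `s` of `X`.
* `endOuter_of_inner`, `endOdd_of_inner`: vacuous if all automorphisms of `X` are inner.
-/

set_option autoImplicit false

open Cfsg Subgroup
open Cfsg.Agent.SporRec.TwoAn Cfsg.Agent.TypeM.Two
open Cfsg.Agent.UGT.End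

namespace Cfsg.Agent.UGT.End.TwoAn

universe u

section Cover

variable {n : ℕ} {C : Type*} [Group C]

/-- the projection onto the alternating group -/
def toAlt (K : Cover (Fin n) C) : C →* alternatingGroup (Fin n) :=
  K.π.codRestrict _ fun x => by rw [← K.range_eq]; exact ⟨x, rfl⟩

theorem toAlt_surjective (K : Cover (Fin n) C) : Function.Surjective (toAlt K) := by
  rintro ⟨σ, hσ⟩
  rw [← K.range_eq] at hσ
  obtain ⟨x, hx⟩ := hσ
  exact ⟨x, Subtype.ext hx⟩

theorem toAlt_eq_one (K : Cover (Fin n) C) {x : C} (h : toAlt K x = 1) : x = 1 ∨ x = K.z :=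
  (K.ker x).1 (congrArg Subtype.val h)

/-- a normal subgroup of odd order of `2.A_n` is trivial -/
theorem eq_bot_of_odd [Finite C] (hn : 5 ≤ n) (K : Cover (Fin n) C) {W : Subgroup C} (hW : W.Normal)
    (hodd : Odd (Nat.card W)) : W = ⊥ := by
  have hs : IsSimpleGroup (alternatingGroup (Fin n)) := alternatingGroup.isSimpleGroup (by simpa using hn)
  have h1 : (W.map (toAlt K)).Normal := hW.map _ (toAlt_surjective K)
  have h2 : Nat.card (W.map (toAlt K)) ∣ Nat.card W := Subgroup.card_map_dvd _ _
  have h3 : W.map (toAlt K) = ⊥ := by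
    rcases h1.eq_bot_or_eq_top with h | h
    · exact h
    · exfalso
      rw [h, Subgroup.card_top] at h2
      have h4 : 2 ∣ Nat.card (alternatingGroup (Fin n)) := by
        have hc : Equiv.swap (⟨0, by omega⟩ : Fin n) ⟨1, by omega⟩ * Equiv.swap (⟨2, by omega⟩ : Fin n) ⟨3, by omega⟩ ∈
            alternatingGroup (Fin n) := by
          rw [Equiv.Perm.mem_alternatingGroup, map_mul, Equiv.Perm.sign_swap (by simp),
            Equiv.Perm.sign_swap (by simp)]
          rfl
        have hd : orderOf (⟨_, hc⟩ : alternatingGroup (Fin n)) = 2 := by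
          rw [Subgroup.orderOf_mk]
          apply orderOf_eq_prime
          · rw [pow_two]
            have hcomm : Commute (Equiv.swap (⟨0, by omega⟩ : Fin n) ⟨1, by omega⟩)
                (Equiv.swap (⟨2, by omega⟩ : Fin n) ⟨3, by omega⟩) := by
              apply Equiv.Perm.Disjoint.commute
              rw [Equiv.Perm.disjoint_iff_disjoint_support, Equiv.Perm.support_swap (by simp),
                Equiv.Perm.support_swap (by simp)]
              simp
            rw [mul_assoc, ← mul_assoc (Equiv.swap (⟨2, by omega⟩ : Fin n) ⟨3, by omega⟩), ← hcomm.eq,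
              mul_assoc (Equiv.swap (⟨0, by omega⟩ : Fin n) ⟨1, by omega⟩), Equiv.swap_mul_self, mul_one,
              Equiv.swap_mul_self]
          · intro h
            have h7 := congrArg (fun p : Equiv.Perm (Fin n) => p (⟨0, by omega⟩ : Fin n)) h
            simp only [Equiv.Perm.mul_apply, Equiv.Perm.one_apply] at h7
            rw [Equiv.swap_apply_of_ne_of_ne (a := (⟨2, by omega⟩ : Fin n)) (b := ⟨3, by omega⟩) (x := ⟨0, by omega⟩)
              (by simp) (by simp), Equiv.swap_apply_left] at h7
            simp at h7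
        rw [← hd]
        exact orderOf_dvd_natCard _
      have h5 := h4.trans h2
      rw [Nat.odd_iff] at hodd
      omega
  rw [eq_bot_iff]
  intro x hx
  have h4 : toAlt K x = 1 := by
    have : toAlt K x ∈ W.map (toAlt K) := ⟨x, hx, rfl⟩
    rw [h3] at this
    exact this
  rcases toAlt_eq_one K h4 with h | h
  · exact h
  · exfalso
    have h5 : orderOf (⟨x, hx⟩ : W) = 2 := by
      rw [Subgroup.orderOf_mk, h]
      exact orderOf_eq_prime K.z_pow_two K.z_ne
    have h6 := orderOf_dvd_natCard (⟨x, hx⟩ : W)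
    rw [h5] at h6
    rw [Nat.odd_iff] at hodd
    omega

theorem core_eq_bot [Finite C] (hn : 5 ≤ n) (K : Cover (Fin n) C) : pPrimeCore 2 C = ⊥ :=
  eq_bot_of_odd hn K inferInstance (Nat.coprime_two_right.1 (Lib.Cores.pPrimeCore_coprime 2))

end Cover

/-- **END, inner involutions, type `2.A_n`.** -/
theorem endInner_of_mt {n : ℕ} (hn : 5 ≤ n) {X : Type u} [Group X] [Finite X] (L : MT n X) :
    EndInner X := by
  have h0 : centralizerPPrimeCore 2 L.t = ⊥ := by
    unfold centralizerPPrimeCore
    rw [core_eq_bot hn L.K, Subgroup.map_bot]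
  intro s hs
  obtain ⟨h1, h2⟩ := MT.sq_of_orderOf hs
  obtain ⟨g, hg⟩ := L.one s h1 h2
  have h3 := map_core' (MulAut.conj g) 2 L.t
  rw [h0, Subgroup.map_bot, MulAut.conj_apply, hg] at h3
  exact h3.symm

section inner

variable {X : Type u} [Group X]

/-- if all automorphisms of `X` are inner and `N ≅ X` is normal with trivial centralizer then `N` is everything -/
theorem eq_top_of_inner (h : ∀ φ : MulAut X, φ ∈ (MulAut.conj : X →* MulAut X).range) {G : Type*}
    [Group G] {N : Subgroup G} (hN : N.Normal) (e : X ≃* ↥N) (hc : centralizer (N : Set G) = ⊥) : N = ⊤ := by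
  rw [eq_top_iff]
  intro g _
  obtain ⟨y, hy⟩ := h ((e.trans (MulAut.conjNormal g : MulAut N)).trans e.symm)
  have h1 : ∀ x ∈ N, (e y : G) * x * (e y : G)⁻¹ = g * x * g⁻¹ := by
    intro x hx
    have h2 := congrArg (fun φ : MulAut X => (e (φ (e.symm ⟨x, hx⟩)) : G)) hy
    simpa [MulAut.conj_apply, MulAut.conjNormal_apply] using h2
  have h3 : (e y : G)⁻¹ * g ∈ centralizer (N : Set G) := by
    rw [mem_centralizer_iff]
    intro x hx
    have h4 := h1 x hx
    have h5 : x * ((e y : G)⁻¹ * g) = (e y : G)⁻¹ * ((e y : G) * x * (e y : G)⁻¹) * g := by group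
    rw [h5, h4]
    group
  rw [hc, mem_bot] at h3
  have h6 : g = (e y : G) := by
    rw [inv_mul_eq_one] at h3
    exact h3.symm
  rw [h6]
  exact (e y).2

theorem endOuter_of_inner (h : ∀ φ : MulAut X, φ ∈ (MulAut.conj : X →* MulAut X).range) : EndOuter X := by
  intro G _ _ N hN ⟨e⟩ hc hi x hx
  exact absurd (by rw [eq_top_of_inner h hN e hc]; exact mem_top x) hx

theorem endOdd_of_inner (h : ∀ φ : MulAut X, φ ∈ (MulAut.conj : X →* MulAut X).range) : EndOdd X := by
  intro G _ _ N hN ⟨e⟩ hc x hx D _ _ _ hD _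
  rw [eq_top_of_inner h hN e hc, inf_top_eq] at hD
  exact hD

end inner

end Cfsg.Agent.UGT.End.TwoAn
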