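import Cfsg.Agent.TypeM.OutLyFin
import Cfsg.Agent.UGT.End.TwoAn

/-!
# UGT, END(Ly) (helper514)

`O(C_G(t)) = 1` for every involution `t` of every group `G` with `F*(G) ≅ Ly`: one class of
involutions with centralizer `2.A_11`, and all automorphisms of `Ly` are inner.
-/

set_option autoImplicit false

open Cfsg Subgroup
open Cfsg.Agent.UGT.End Cfsg.Agent.UGT.End.TwoAn

namespace Cfsg.Agent.UGT.End.Ly

universe u

theorem endInner {X : Type u} [Group X] (h : Cfsg.Spor.IsoLy X) : EndInner X := by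
  obtain ⟨hfin, -, -, ⟨L⟩⟩ := Cfsg.Agent.TypeM.FactsLy.facts h
  exact endInner_of_mt (by norm_num) L

theorem endOuter {X : Type u} [Group X] (h : Cfsg.Spor.IsoLy X) : EndOuter X :=
  endOuter_of_inner (Cfsg.Agent.TypeM.OutLyFin.inner h)

theorem endOdd {X : Type u} [Group X] (h : Cfsg.Spor.IsoLy X) : EndOdd X :=
  endOdd_of_inner (Cfsg.Agent.TypeM.OutLyFin.inner h)

/-- **END(Ly).** -/
theorem lb {X : Type u} [Group X] (h : Cfsg.Spor.IsoLy X) : LB X :=
  LB.of_pieces (endInner h) (endOuter h) (endOdd h)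

end Cfsg.Agent.UGT.End.Ly
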