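import Cfsg.Agent.UGT.End.McLOuter
import Cfsg.Agent.TypeM.FactsMcL

/-!
# END(McL)

* `fixCore`: `X ≅ McL`, `φ ∈ Aut(X)`, `φ² = 1`: the fixed point group has no nontrivial normal subgroup of odd order;
* `inner`, `outer`: the two halves, with `centralizerPPrimeCore` and `fixSub`;
* `core_eq_bot`: `F*(G) ≅ McL`: `O(C_G(t)) = 1` for every involution `t` of `G`.
-/

set_option autoImplicit false

namespace Cfsg.Agent.UGT.End.McL

open Subgroup Cfsg

theorem fixCore {X : Type*} [Group X] (h : Spor.IsoMcL X) : OfFix.FixCore X := by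
  obtain ⟨hfin, hs, hcard, ⟨L⟩⟩ := TypeM.FactsMcL.facts h
  exact McLOuter.fixCore L hcard

theorem inner {X : Type*} [Group X] (h : Spor.IsoMcL X) (a : X) (ha : orderOf a = 2) :
    centralizerPPrimeCore 2 a = ⊥ := by
  have hfin := (TypeM.FactsMcL.facts h).1
  exact OfFix.inner_core (fixCore h) a ha

/-- the fixed points of `t` -/
theorem outer {X : Type*} [Group X] (h : Spor.IsoMcL X) (t : MulAut X) (ht : t * t = 1) (W : Subgroup X)
    (hW : ∀ w ∈ W, t w = w) (hn : ∀ g, t g = g → ∀ w ∈ W, g * w * g⁻¹ ∈ W) (hodd : Odd (Nat.card W)) : W = ⊥ :=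
  fixCore h t ht W hodd hW hn

/-- `McL` is locally balanced. -/
theorem locallyBalanced {X : Type*} [Group X] (h : Spor.IsoMcL X) : IsLocallyBalanced X := by
  obtain ⟨hfin, hs, hcard, ⟨L⟩⟩ := TypeM.FactsMcL.facts h
  exact OfFix.locallyBalanced (fun x hx => McLOuter.eq_one_of_central L hx)
    (fun α hα => McLOuter.inner_of_odd L hcard α hα) (fixCore h)

/-- **END(McL)** -/
theorem core_eq_bot {G : Type*} [Group G] [Finite G] (h : Spor.IsoMcL ↥(generalizedFittingSubgroup G)) (t : G)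
    (ht : orderOf t = 2) : centralizerPPrimeCore 2 t = ⊥ := by
  obtain ⟨-, hs, hcard, ⟨L⟩⟩ := TypeM.FactsMcL.facts h
  refine OfFix.core_eq_bot hs ?_ (fun α hα => McLOuter.inner_of_odd L hcard α hα) (fixCore h) t ht
  intro hc
  have h1 := McLOuter.eq_one_of_central L (x := L.t) fun y => hc.is_comm.comm _ _
  exact L.t_ne h1

end Cfsg.Agent.UGT.End.McL
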