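import Mathlib
import Cfsg.Prelude.Def_Local
import Cfsg.Agent.Lib.GenFitting

/-!
# Groups all of whose automorphisms are inner, as `F*(G)`

If `F*(G)` is simple, nonabelian and every automorphism of `F*(G)` is inner, then `G = F*(G)`.
-/

set_option autoImplicit false

open Subgroup Cfsg

namespace Cfsg.Agent.UGT.End.Inner

/-- A group with trivial centre containing its centralizer, all of whose automorphisms are inner, is the
whole group. -/
theorem eq_top {G : Type*} [Group G] (X : Subgroup G) [X.Normal]
    (hc : centralizer (X : Set G) ≤ X)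
    (hinn : ∀ φ : MulAut ↥X, ∃ g : ↥X, φ = MulAut.conj g) : X = ⊤ := by
  rw [eq_top_iff]
  intro g _
  obtain ⟨x, hx⟩ := hinn (MulAut.conjNormal g)
  have h1 : (x : G)⁻¹ * g ∈ centralizer (X : Set G) := by
    rw [mem_centralizer_iff]
    intro y hy
    have h2 := congrArg (fun φ : MulAut ↥X => ((φ ⟨y, hy⟩ : ↥X) : G)) hx
    simp only [MulAut.conjNormal_apply, MulAut.conj_apply, coe_mul, coe_inv] at h2
    calc y * ((x : G)⁻¹ * g) = (x : G)⁻¹ * ((x : G) * y * (x : G)⁻¹) * g := by group
      _ = (x : G)⁻¹ * (g * y * g⁻¹) * g := by rw [← h2]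
      _ = (x : G)⁻¹ * g * y := by group
  have h3 := X.mul_mem x.2 (hc h1)
  rwa [mul_inv_cancel_left] at h3

/-- If every automorphism of `F*(G)` is inner and `F*(G)` contains its centralizer, `F*(G) = G`. -/
theorem gen_eq_top {G : Type*} [Group G] [Finite G]
    (hinn : ∀ φ : MulAut ↥(generalizedFittingSubgroup G), ∃ g : ↥(generalizedFittingSubgroup G),
      φ = MulAut.conj g) : generalizedFittingSubgroup G = ⊤ := by
  have : (generalizedFittingSubgroup G).Normal := Cfsg.Agent.Lib.GenFitting.genFitting_normal
  exact eq_top _ Cfsg.Agent.Lib.GenFitting.centralizer_genFitting_le hinn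

/-- The same, as an isomorphism. -/
noncomputable def equivOfInner {G : Type*} [Group G] [Finite G]
    (hinn : ∀ φ : MulAut ↥(generalizedFittingSubgroup G), ∃ g : ↥(generalizedFittingSubgroup G),
      φ = MulAut.conj g) : G ≃* ↥(generalizedFittingSubgroup G) :=
  (topEquiv.symm).trans (MulEquiv.subgroupCongr (gen_eq_top hinn).symm)

end Cfsg.Agent.UGT.End.Inner
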