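import Mathlib
import Cfsg.Prelude.Def_Spor_Mathieu
import Cfsg.Agent.Schreier.MEleven
import Cfsg.Agent.SignalizersComponents.BalEndM11
import Cfsg.Agent.UGT.End.Inner

/-!
# END(M₁₁)

If `F*(G)` is isomorphic to `M₁₁` then `G = F*(G)` and `O(C_G(t)) = 1` for every involution `t` of `G`.
-/

set_option autoImplicit false

open Subgroup Cfsg

namespace Cfsg.Agent.UGT.End.MEleven

/-- `M₁₁` is simple of order 7920. -/
theorem isM11 {X : Type*} [Group X] (h : Spor.IsoM11 X) : IsM11 X := by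
  obtain ⟨e⟩ := h
  have h1 : IsM11 _ := Cfsg.Agent.Schreier.MEleven.isM11
  let f := e.trans Cfsg.Agent.Schreier.MEleven.equiv.symm
  refine ⟨?_, ?_⟩
  · have := h1.1
    exact f.isSimpleGroup
  · rw [Nat.card_congr f.toEquiv, h1.2]

/-- Every automorphism of `M₁₁` is inner. -/
theorem inner {X : Type*} [Group X] [Finite X] (h : Spor.IsoM11 X) (φ : MulAut X) :
    ∃ g : X, φ = MulAut.conj g :=
  Cfsg.Agent.SectRankFour.AutM11.exists_conj (isM11 h) φ

/-- If `F*(G) ≅ M₁₁` then `G ≅ M₁₁`. -/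
theorem isoM11 {G : Type*} [Group G] [Finite G] (h : Spor.IsoM11 ↥(generalizedFittingSubgroup G)) :
    Spor.IsoM11 G := by
  have e := Inner.equivOfInner (G := G) (inner h)
  obtain ⟨f⟩ := h
  exact ⟨e.trans f⟩

/-- **END(M₁₁)**: if `F*(G) ≅ M₁₁`, involution centralizers of `G` are core-free. -/
theorem core_eq_bot {G : Type*} [Group G] [Finite G]
    (h : Spor.IsoM11 ↥(generalizedFittingSubgroup G)) (t : G) (ht : orderOf t = 2) :
    centralizerPPrimeCore 2 t = ⊥ :=
  Cfsg.Agent.SignalizersComponents.BalEndM11.core_eq_bot_M11 (isoM11 h) ht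

end Cfsg.Agent.UGT.End.MEleven
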