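import Cfsg.Agent.UGT.End.Alt
import Cfsg.Agent.UGT.Iface
import Cfsg.Agent.S0254

/-!
# UGT, the end `F*(G) = A_m`, `m` even: no minimal counterexample

`end_alt : MinCex G → Even m → ¬ IsAlt m F*(G)`.
-/

set_option autoImplicit false

open Equiv Equiv.Perm Subgroup Cfsg
open Cfsg.Agent.UGT.Iface Cfsg.Agent.FixBN.BRelative

namespace Cfsg.Agent.UGT.EndAlt

universe u

theorem not_simple_four {K : Type*} [Group K] (hs : IsSimpleGroup K) (hna : ¬ IsMulCommutative K)
    (e : K ≃* ↥(alternatingGroup (Fin 4))) : False := by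
  have h4 : Nat.card (Fin 4) = 4 := by rw [Nat.card_eq_fintype_card, Fintype.card_fin]
  have hn := alternatingGroup.normal_kleinFour h4
  have hV := alternatingGroup.kleinFour_isKleinFour h4
  have : IsSimpleGroup ↥(alternatingGroup (Fin 4)) := (e.isSimpleGroup_congr).1 hs
  rcases hn.eq_bot_or_eq_top with h | h
  · have h1 := hV.card_four
    rw [h, Subgroup.card_bot] at h1
    omega
  · apply hna
    refine ⟨⟨fun a b => e.injective ?_⟩⟩
    rw [map_mul, map_mul]
    have h2 := hV.isMulCommutative
    have ha : e a ∈ alternatingGroup.kleinFour (Fin 4) := by rw [h]; exact mem_top _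
    have hb : e b ∈ alternatingGroup.kleinFour (Fin 4) := by rw [h]; exact mem_top _
    exact congrArg Subtype.val (h2.is_comm.comm ⟨_, ha⟩ ⟨_, hb⟩)

theorem not_two {K : Type*} [Group K] (hna : ¬ IsMulCommutative K) {m : ℕ} (hm : m ≤ 2)
    (e : K ≃* ↥(alternatingGroup (Fin m))) : False := by
  apply hna
  have hc : Nat.card ↥(alternatingGroup (Fin m)) ≤ 1 := by
    have h1 : Nat.card ↥(alternatingGroup (Fin m)) ≤ 1 := by
      interval_cases m
      · rw [Nat.card_eq_fintype_card]; decide
      · rw [Nat.card_eq_fintype_card]; decide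
      · rw [Nat.card_eq_fintype_card]; decide
    exact h1
  have := Finite.card_le_one_iff_subsingleton.1 hc
  exact ⟨⟨fun a b => e.injective (Subsingleton.elim _ _)⟩⟩

theorem inU_six {K : Type*} [Group K] (e : K ≃* ↥(alternatingGroup (Fin 6))) : InU K := by
  have : Fact (Nat.Prime 3) := ⟨Nat.prime_three⟩
  have hF : Fintype (GaloisField 3 2) := Fintype.ofFinite _
  have h9 : Fintype.card (GaloisField 3 2) = 9 := by
    rw [← Nat.card_eq_fintype_card, GaloisField.card 3 2 (by norm_num)]; norm_num
  obtain ⟨f⟩ := S0254.result (F := GaloisField 3 2) h9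
  refine Or.inl ⟨3, Nat.prime_three, by norm_num, Or.inl ⟨GaloisField 3 2, inferInstance, hF,
    inferInstance, 2, le_rfl, fun _ => by rw [h9]; norm_num, ⟨e.trans f.symm⟩⟩⟩

theorem end_alt {G : Type u} [Group G] [Finite G] (hG : MinCex G) {m : ℕ} (hm : Even m) :
    ¬ IsAlt m ↥(generalizedFittingSubgroup G) := by
  rintro ⟨e⟩
  by_cases h8 : 8 ≤ m
  · obtain ⟨t, ht, hne⟩ := hG.unbal
    exact hne (core_eq_bot hm h8 e hG.simple hG.nonab ht)
  · obtain ⟨k, hk⟩ := hm
    have hk4 : k < 4 := by omega
    interval_cases k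
    · subst hk; exact not_two hG.nonab (by norm_num) e
    · subst hk; exact not_two hG.nonab (by norm_num) e
    · subst hk; exact not_simple_four hG.simple hG.nonab e
    · subst hk; exact hG.notU (inU_six e)

end Cfsg.Agent.UGT.EndAlt
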