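import Cfsg.Agent.WeakTI.BenderAct
import Cfsg.Agent.SuzukiRankOne.PSUModel
import Cfsg.Agent.ClassicalGeometry.PSL2Basic

/-!
# The rank-one facts for `PSL₂(q)`, `q` even
-/

set_option autoImplicit false

namespace Cfsg.Agent.UGT.End.PSLTwoFacts

open Subgroup Pointwise Matrix
open Cfsg.Agent.LieRecognition Cfsg.Agent.LieRecognition.RankOneAbstract
  Cfsg.Agent.WeakTI.BenderAct Cfsg.Agent.SuzukiRankOne.PSUModel
open MulAction (stabilizer)

variable {F : Type*} [Field F]

local notation "SL2" => Matrix.SpecialLinearGroup (Fin 2) F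

/-- upper triangular matrices -/
def bor (F : Type*) [Field F] : Subgroup (Matrix.SpecialLinearGroup (Fin 2) F) where
  carrier := {g | g.1 1 0 = 0}
  mul_mem' := by
    intro g h hg hh
    show (g.1 * h.1) 1 0 = 0
    rw [Matrix.mul_apply, Fin.sum_univ_two, show g.1 1 0 = 0 from hg, show h.1 1 0 = 0 from hh]
    ring
  one_mem' := by
    show (1 : Matrix (Fin 2) (Fin 2) F) 1 0 = 0
    simp
  inv_mem' := by
    intro g hg
    show (g⁻¹).1 1 0 = 0
    rw [Matrix.SpecialLinearGroup.SL2_inv_expl]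
    show -g.1 1 0 = 0
    rw [show g.1 1 0 = 0 from hg, neg_zero]

/-- unitriangular matrices -/
def uni (F : Type*) [Field F] : Subgroup (Matrix.SpecialLinearGroup (Fin 2) F) where
  carrier := {g | g.1 1 0 = 0 ∧ g.1 0 0 = 1 ∧ g.1 1 1 = 1}
  mul_mem' := by
    rintro g h ⟨hg, hg', hg''⟩ ⟨hh, hh', hh''⟩
    refine ⟨?_, ?_, ?_⟩
    · show (g.1 * h.1) 1 0 = 0
      rw [Matrix.mul_apply, Fin.sum_univ_two, hg, hh]
      ring
    · show (g.1 * h.1) 0 0 = 1
      rw [Matrix.mul_apply, Fin.sum_univ_two, hg', hh, hh']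
      ring
    · show (g.1 * h.1) 1 1 = 1
      rw [Matrix.mul_apply, Fin.sum_univ_two, hg, hg'', hh'']
      ring
  one_mem' := by
    refine ⟨?_, ?_, ?_⟩ <;> simp
  inv_mem' := by
    rintro g ⟨hg, hg', hg''⟩
    refine ⟨?_, ?_, ?_⟩
    · rw [Matrix.SpecialLinearGroup.SL2_inv_expl]
      show -g.1 1 0 = 0
      rw [hg, neg_zero]
    · rw [Matrix.SpecialLinearGroup.SL2_inv_expl]
      exact hg''
    · rw [Matrix.SpecialLinearGroup.SL2_inv_expl]
      exact hg'

theorem mem_bor {g : SL2} : g ∈ bor F ↔ g.1 1 0 = 0 := Iff.rfl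

theorem mem_uni {g : SL2} : g ∈ uni F ↔ g.1 1 0 = 0 ∧ g.1 0 0 = 1 ∧ g.1 1 1 = 1 := Iff.rfl

/-- the matrices `x ↦ (1, x; 0, 1)` -/
def um (x : F) : SL2 := ⟨!![1, x; 0, 1], by simp [Matrix.det_fin_two]⟩

theorem um_mem (x : F) : um x ∈ uni F := ⟨rfl, rfl, rfl⟩

theorem eq_um {g : SL2} (hg : g ∈ uni F) : g = um (g.1 0 1) := by
  obtain ⟨h1, h2, h3⟩ := hg
  apply Subtype.ext
  ext i j
  fin_cases i <;> fin_cases j
  · exact h2
  · rfl
  · exact h1
  · exact h3

theorem um_mul (x y : F) : (um x : SL2) * um y = um (x + y) := by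
  apply Subtype.ext
  show !![1, x; 0, 1] * !![1, y; 0, 1] = !![1, x + y; 0, 1]
  ext i j
  fin_cases i <;> fin_cases j <;> simp [Matrix.mul_apply, Fin.sum_univ_two, add_comm]

theorem um_inj {x y : F} (h : (um x : SL2) = um y) : x = y :=
  congrArg (fun g : SL2 => g.1 0 1) h

theorem card_uni : Nat.card (uni F) = Nat.card F :=
  Nat.card_congr
    { toFun := fun g => g.1.1 0 1
      invFun := fun x => ⟨um x, um_mem x⟩
      left_inv := fun g => Subtype.ext (eq_um g.2).symm
      right_inv := fun _ => rfl }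

variable [CharP F 2]

/-- the Weyl element -/
def wel (F : Type*) [Field F] [CharP F 2] : Matrix.SpecialLinearGroup (Fin 2) F :=
  ⟨!![0, 1; 1, 0], by
    rw [Matrix.det_fin_two]
    simp [CharTwo.neg_eq]⟩

theorem wel_mul_self : wel F * wel F = 1 := by
  apply Subtype.ext
  show !![(0 : F), 1; 1, 0] * !![0, 1; 1, 0] = 1
  ext i j
  fin_cases i <;> fin_cases j <;> simp [Matrix.mul_apply, Fin.sum_univ_two]

theorem wel_inv : (wel F)⁻¹ = wel F := inv_eq_of_mul_eq_one_left wel_mul_self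

theorem wel_conj (g : SL2) : ((wel F)⁻¹ * g * wel F).1 = !![g.1 1 1, g.1 1 0; g.1 0 1, g.1 0 0] := by
  rw [wel_inv]
  show !![(0 : F), 1; 1, 0] * g.1 * !![0, 1; 1, 0] = _
  ext i j
  fin_cases i <;> fin_cases j <;>
    simp [Matrix.mul_apply, Fin.sum_univ_two, Matrix.vecMul, dotProduct]

theorem data : Data (bor F) (uni F) (wel F) where
  w_not_mem := fun h => one_ne_zero (α := F) h
  le := fun g hg => hg.1
  norm := by
    intro h hh s hs
    rw [eq_um hs]
    set x := s.1 0 1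
    rw [mem_bor] at hh
    have hd : h.1 0 0 * h.1 1 1 = 1 := by
      have := h.2
      rw [Matrix.det_fin_two, hh, mul_zero, sub_zero] at this
      exact this
    have key : h * um x = um (h.1 0 0 * x * h.1 0 0) * h := by
      apply Subtype.ext
      show h.1 * !![1, x; 0, 1] = !![1, h.1 0 0 * x * h.1 0 0; 0, 1] * h.1
      ext i j
      fin_cases i <;> fin_cases j <;> simp [Matrix.mul_apply, Fin.sum_univ_two, hh]
      linear_combination (-(h.1 0 0 * x)) * hd
    rw [key, mul_inv_cancel_right]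
    exact um_mem _
  bruhat := by
    intro g hg
    have hg0 : g.1 1 0 ≠ 0 := hg
    refine ⟨um (g.1 0 0 / g.1 1 0), um_mem _, ?_⟩
    have h1 : (um (g.1 0 0 / g.1 1 0) : SL2)⁻¹ = um (-(g.1 0 0 / g.1 1 0)) := by
      apply inv_eq_of_mul_eq_one_right
      rw [um_mul, add_neg_cancel]
      apply Subtype.ext
      show !![1, (0 : F); 0, 1] = 1
      ext i j
      fin_cases i <;> fin_cases j <;> simp
    rw [mem_bor, _root_.mul_inv_rev, wel_inv, h1]
    show (!![(0 : F), 1; 1, 0] * !![1, -(g.1 0 0 / g.1 1 0); 0, 1] * g.1) 1 0 = 0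
    simp [Matrix.mul_apply, Fin.sum_univ_two]
    field_simp
    ring
  inter := by
    intro s hs h
    rw [mem_bor, wel_conj] at h
    have h1 : s.1 0 1 = 0 := h
    rw [eq_um hs, h1]
    apply Subtype.ext
    show !![1, (0 : F); 0, 1] = 1
    ext i j
    fin_cases i <;> fin_cases j <;> simp

/-- the diagonal matrices -/
def tor (F : Type*) [Field F] : Subgroup (Matrix.SpecialLinearGroup (Fin 2) F) where
  carrier := {g | g.1 1 0 = 0 ∧ g.1 0 1 = 0}
  mul_mem' := by
    rintro g h ⟨hg, hg'⟩ ⟨hh, hh'⟩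
    refine ⟨?_, ?_⟩
    · show (g.1 * h.1) 1 0 = 0
      rw [Matrix.mul_apply, Fin.sum_univ_two, hg, hh]
      ring
    · show (g.1 * h.1) 0 1 = 0
      rw [Matrix.mul_apply, Fin.sum_univ_two, hg', hh']
      ring
  one_mem' := by
    refine ⟨?_, ?_⟩ <;> simp
  inv_mem' := by
    rintro g ⟨hg, hg'⟩
    rw [Set.mem_ofPred_eq, Matrix.SpecialLinearGroup.SL2_inv_expl]
    refine ⟨?_, ?_⟩
    · show -g.1 1 0 = 0
      rw [hg, neg_zero]
    · show -g.1 0 1 = 0
      rw [hg', neg_zero]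

/-- the diagonal entry -/
def torHom (F : Type*) [Field F] : tor F →* F where
  toFun g := g.1.1 0 0
  map_one' := by
    show (1 : Matrix (Fin 2) (Fin 2) F) 0 0 = 1
    simp
  map_mul' := by
    rintro ⟨g, hg, hg'⟩ ⟨h, hh, hh'⟩
    show (g.1 * h.1) 0 0 = g.1 0 0 * h.1 0 0
    rw [Matrix.mul_apply, Fin.sum_univ_two, hg', zero_mul, add_zero]

omit [CharP F 2] in
theorem torHom_inj : Function.Injective (torHom F) := by
  rintro ⟨g, hg, hg'⟩ ⟨h, hh, hh'⟩ hgh
  have h0 : g.1 0 0 = h.1 0 0 := hgh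
  have hdg : g.1 0 0 * g.1 1 1 = 1 := by
    have := g.2
    rw [Matrix.det_fin_two, hg, mul_zero, sub_zero] at this
    exact this
  have hdh : h.1 0 0 * h.1 1 1 = 1 := by
    have := h.2
    rw [Matrix.det_fin_two, hh, mul_zero, sub_zero] at this
    exact this
  have h1 : g.1 1 1 = h.1 1 1 := by
    rw [← h0] at hdh
    have h2 : g.1 0 0 ≠ 0 := left_ne_zero_of_mul_eq_one hdg
    exact mul_left_cancel₀ h2 (hdg.trans hdh.symm)
  apply Subtype.ext
  apply Subtype.ext
  ext i j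
  fin_cases i <;> fin_cases j
  · exact h0
  · exact hg'.trans hh'.symm
  · exact hg.trans hh.symm
  · exact h1

variable [Finite F]

theorem odd_card_tor : Odd (Nat.card (tor F)) := by
  have h1 : Nat.card (tor F) ∣ Nat.card Fˣ := by
    let f : tor F →* Fˣ := (torHom F).toHomUnits
    have hf : Function.Injective f := by
      intro g h hgh
      apply torHom_inj
      exact congrArg Units.val hgh
    exact Subgroup.card_dvd_of_injective f hf
  refine Odd.of_dvd_nat ?_ h1
  rw [Nat.card_units]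
  have := Fintype.ofFinite F
  rw [Nat.card_eq_fintype_card]
  have h2 : Even (Fintype.card F) := by
    rw [← Nat.not_odd_iff_even]
    intro h
    exact (Cfsg.Agent.ClassicalGeometry.PSL2Basic.two_ne_zero_iff_odd F).mpr h (CharTwo.two_eq_zero)
  exact Nat.Even.sub_odd Fintype.card_pos h2 odd_one

theorem even_card : Even (Nat.card F) := by
  have := Fintype.ofFinite F
  rw [Nat.card_eq_fintype_card, ← Nat.not_odd_iff_even]
  intro h
  exact (Cfsg.Agent.ClassicalGeometry.PSL2Basic.two_ne_zero_iff_odd F).mpr h (CharTwo.two_eq_zero)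

omit [Finite F] in
theorem mem_tor_iff (g : SL2) : g ∈ tor F ↔ g ∈ bor F ∧ (wel F)⁻¹ * g * wel F ∈ bor F := by
  rw [mem_bor, mem_bor, wel_conj]
  exact Iff.rfl

theorem facts : Facts SL2 (SL2 ⧸ bor F) (QuotientGroup.mk 1) (wel F) (uni F) 1 := by
  have hsq : ∀ x ∈ uni F, x * x = 1 := by
    intro x hx
    rw [eq_um hx, um_mul, CharTwo.add_self_eq_zero]
    apply Subtype.ext
    show !![1, (0 : F); 0, 1] = 1
    ext i j
    fin_cases i <;> fin_cases j <;> simp
  refine ⟨setup_of_data data wel_mul_self ?_ (T := tor F) mem_tor_iff odd_card_tor, ?_, ?_, ?_, ?_⟩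
  · rw [card_uni]; exact even_card
  · intro x hx
    rw [hsq x hx, mul_one]
  · intro x hx _ y hy
    rw [eq_um hx, eq_um hy, um_mul, um_mul, add_comm]
  · intro x hx y hy
    have key : ∀ x : SL2, x ∈ stabilizer SL2 (QuotientGroup.mk 1 : SL2 ⧸ bor F) ⊓
        stabilizer SL2 (wel F • (QuotientGroup.mk 1 : SL2 ⧸ bor F)) → x ∈ tor F := by
      intro x hx
      obtain ⟨h1, h2⟩ := mem_inf.mp hx
      rw [stab_one] at h1
      rw [mem_stab_smul] at h2
      exact (mem_tor_iff x).mpr ⟨h1, h2⟩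
    have h1 : (⟨x, key x hx⟩ : tor F) * ⟨y, key y hy⟩ = ⟨y, key y hy⟩ * ⟨x, key x hx⟩ := by
      apply torHom_inj
      rw [map_mul, map_mul, mul_comm]
    exact congrArg Subtype.val h1
  · rw [pow_one]
    refine Nat.card_congr (Equiv.subtypeEquivRight fun x => ?_)
    exact ⟨fun h => ⟨h, hsq x h⟩, fun h => h.1⟩

theorem card_inv : Nat.card {x : SL2 // x ∈ uni F ∧ x * x = 1} = Nat.card F := by
  have h := (facts (F := F)).card
  rw [pow_one, card_uni] at h
  exact h.symm

omit [Finite F] in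
/-- `PSL₂ ≃ SL₂` in characteristic 2 -/
theorem exists_equiv : Nonempty (Matrix.ProjectiveSpecialLinearGroup (Fin 2) F ≃* SL2) := by
  have h1 : Subgroup.center SL2 = ⊥ := by
    rw [eq_bot_iff]
    intro A hA
    rcases Cfsg.Agent.ClassicalGeometry.PSL2Basic.mem_center_SL2_iff.mp hA with h | h
    · exact h
    · rw [Cfsg.Agent.ClassicalGeometry.PSL2Basic.neg_one_eq_one_SL2 CharTwo.two_eq_zero] at h
      exact h
  exact ⟨(QuotientGroup.quotientMulEquivOfEq h1).trans QuotientGroup.quotientBot⟩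

end Cfsg.Agent.UGT.End.PSLTwoFacts
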