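import Cfsg.Agent.UGT.End.UThreeFour
import Cfsg.Agent.UGT.End.PSLTwoFacts
import Cfsg.Agent.WeakTI.BenderModel

/-!
# END (E1): `PSL₂(2^n)`, `Sz(q)`, `PSU₃(2^n)`

`X` normal in the finite group `G` with `C_G(X) = 1`, `X` simple and isomorphic to `PSL₂(2^n)`, `n ≥ 3`, `Sz(q)`
or `PSU₃(2^n)`, `n ≥ 2`: `O(C_G(x)) = 1` for all involutions `x` of `G`.
-/

set_option autoImplicit false

namespace Cfsg.Agent.UGT.End.EOne

open Subgroup Pointwise
open Cfsg.Agent.WeakTI.BenderAct Cfsg.Agent.UGT.End.RankOneTI Cfsg.Agent.UGT.End.RankOneFacts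
open MulAction (stabilizer)

/-- `PSL₂(2^n)`, `n ≥ 3`, `Sz(q)`, `PSU₃(2^n)`, `n ≥ 2` -/
def E1 (K : Type*) [Group K] : Prop :=
  (∃ (F : Type) (_ : Field F) (_ : Fintype F), (∃ n : ℕ, 3 ≤ n ∧ Fintype.card F = 2 ^ n) ∧
      Nonempty (K ≃* Matrix.ProjectiveSpecialLinearGroup (Fin 2) F)) ∨
    Cfsg.Lie.IsoSuzuki K ∨
    (∃ (F : Type) (_ : Field F) (_ : Fintype F) (n : ℕ), 2 ≤ n ∧
      Fintype.card F = (2 ^ n) ^ 2 ∧ Nonempty (K ≃* Cfsg.PSU 3 F (2 ^ n)))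

theorem charTwo {F : Type} [Field F] [Fintype F] {n : ℕ} (hF : Fintype.card F = 2 ^ n) : CharP F 2 := by
  have : Fact (Nat.Prime 2) := ⟨Nat.prime_two⟩
  exact charP_of_card_eq_prime_pow hF

theorem fixFour_congr {X Y : Type*} [Group X] [Group Y] (e : X ≃* Y) (h : FixFour X) : FixFour Y := by
  have : Fact (Nat.Prime 2) := ⟨Nat.prime_two⟩
  intro φ hφ S hS
  let φ₁ : MulAut X := (MulAut.congr e).symm φ
  have hap : ∀ x, e (φ₁ x) = φ (e x) := by
    intro x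
    show e (e.symm (φ (e x))) = φ (e x)
    rw [e.apply_symm_apply]
  have hφ₁ : φ₁ * φ₁ = 1 := by
    simp only [φ₁]
    rw [← map_mul, hφ, map_one]
  have hinj : Function.Injective e.toMonoidHom := e.injective
  have hran : (S : Subgroup Y) ≤ e.toMonoidHom.range := by
    intro y _
    exact ⟨e.symm y, e.apply_symm_apply y⟩
  let S₁ : Sylow 2 X := S.comapOfInjective e.toMonoidHom hinj hran
  have hmem : ∀ x, x ∈ S₁ ↔ e x ∈ S := fun x => Iff.rfl
  have hS₁ : φ₁ • S₁ = S₁ := by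
    have hle : ∀ x ∈ (S₁ : Subgroup X), φ₁ x ∈ (S₁ : Subgroup X) := by
      intro x hx
      have h1 : e (φ₁ x) ∈ S := by
        rw [hap]
        have := mem_smul_sylow (φ := φ) (S := S) hx
        rw [hS] at this
        exact this
      exact h1
    apply Sylow.ext
    rw [Sylow.pointwise_smul_def]
    ext x
    rw [Subgroup.mem_pointwise_smul_iff_inv_smul_mem]
    have hinv : φ₁⁻¹ = φ₁ := inv_eq_of_mul_eq_one_left hφ₁
    rw [hinv]
    constructor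
    · intro hx
      have h1 := hle _ hx
      have h2 : φ₁ (φ₁ • x) = x := by
        show φ₁ (φ₁ x) = x
        rw [← MulAut.mul_apply, hφ₁, MulAut.one_apply]
      rwa [h2] at h1
    · intro hx
      exact hle x hx
  obtain ⟨u, v, hu, hv, hu1, hv1, huv, huu, hvv, hc, h2, h3⟩ := h φ₁ hφ₁ S₁ hS₁
  refine ⟨e u, e v, hu, hv, ?_, ?_, ?_, ?_, ?_, ?_, ?_, ?_⟩
  · rwa [Ne, MulEquiv.map_eq_one_iff]
  · rwa [Ne, MulEquiv.map_eq_one_iff]
  · exact fun h4 => huv (e.injective h4)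
  · rw [← map_mul, huu, map_one]
  · rw [← map_mul, hvv, map_one]
  · rw [← map_mul, hc, map_mul]
  · rw [← hap, h2]
  · rw [← hap, h3]

theorem of_facts {X Ω : Type*} [Group X] [Finite X] [IsSimpleGroup X] [MulAction X Ω] {a : Ω} {t : X}
    {Q : Subgroup X} {i : ℕ} (h : Facts X Ω a t Q i) (h8 : 8 ≤ Nat.card {x : X // x ∈ Q ∧ x * x = 1}) :
    TISyl X ∧ FixFour X :=
  ⟨tiSyl h, fixFour h h8⟩

theorem of_psl {X : Type*} [Group X] [Finite X] [IsSimpleGroup X] {F : Type} [Field F] [Fintype F]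
    {n : ℕ} (hn : 3 ≤ n) (hF : Fintype.card F = 2 ^ n)
    (e : X ≃* Matrix.ProjectiveSpecialLinearGroup (Fin 2) F) : TISyl X ∧ FixFour X := by
  have := charTwo hF
  obtain ⟨f⟩ := PSLTwoFacts.exists_equiv (F := F)
  have h := (PSLTwoFacts.facts (F := F)).comap (e.trans f)
  refine @of_facts X _ _ _ _ (MulAction.compHom _ (e.trans f).toMonoidHom) _ _ _ _ h ?_
  have h1 : Nat.card {x : X // x ∈ (PSLTwoFacts.uni F).comap (e.trans f).toMonoidHom ∧ x * x = 1} =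
      Nat.card F := by
    rw [← PSLTwoFacts.card_inv (F := F)]
    refine Nat.card_congr ((e.trans f).toEquiv.subtypeEquiv fun x => ?_)
    refine and_congr Iff.rfl ?_
    show x * x = 1 ↔ (e.trans f) x * (e.trans f) x = 1
    rw [← map_mul, MulEquiv.map_eq_one_iff]
  rw [h1, Nat.card_eq_fintype_card, hF]
  calc 8 = 2 ^ 3 := rfl
    _ ≤ 2 ^ n := Nat.pow_le_pow_right (by norm_num) hn

/-- the number of elements of order at most 2 from the order of `Q` -/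
theorem card_inv_of {X Ω : Type*} [Group X] [MulAction X Ω] {a : Ω} {t : X}
    {Q : Subgroup X} {i m : ℕ} (h : Facts X Ω a t Q i) (hi : i ≠ 0) (hQ : Nat.card Q = m ^ i) :
    Nat.card {x : X // x ∈ Q ∧ x * x = 1} = m := by
  have h1 := h.card
  rw [hQ] at h1
  exact (Nat.pow_left_injective hi h1).symm

theorem of_suzuki {X : Type*} [Group X] [Finite X] [IsSimpleGroup X] (h : Cfsg.Lie.IsoSuzuki X) :
    TISyl X ∧ FixFour X := by
  obtain ⟨F, iF, iFin, m, hm, hF, ⟨e⟩⟩ := h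
  have H := Cfsg.Agent.LieRecognition.SzMatrix.good hF
  have h1 := (Cfsg.Agent.WeakTI.BenderModel.facts_sz H).comap e
  refine @of_facts X _ _ _ _ (MulAction.compHom _ e.toMonoidHom) _ _ _ _ h1 ?_
  have h2 : Nat.card (H.unip.comap e.toMonoidHom) = Nat.card F ^ 2 := by
    rw [← H.card_unip]
    exact Nat.card_congr (e.toEquiv.subtypeEquiv fun y => Iff.rfl)
  rw [@card_inv_of X _ _ (MulAction.compHom _ e.toMonoidHom) _ _ _ _ (Nat.card F) h1 two_ne_zero h2,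
    Nat.card_eq_fintype_card, hF]
  calc 8 = 2 ^ 3 := rfl
    _ ≤ 2 ^ (2 * m + 1) := Nat.pow_le_pow_right (by norm_num) (by omega)

theorem of_psu {X : Type*} [Group X] [Finite X] [IsSimpleGroup X] {F : Type} [Field F] [Fintype F]
    {n : ℕ} (hn : 2 ≤ n) (hF : Fintype.card F = (2 ^ n) ^ 2) (e : X ≃* Cfsg.PSU 3 F (2 ^ n)) :
    TISyl X ∧ FixFour X := by
  have hF2 : Fintype.card F = 2 ^ (n * 2) := by rw [hF, pow_mul]
  have hch := charTwo hF2
  have hF' : Nat.card F = (2 ^ n) ^ 2 := by rw [Nat.card_eq_fintype_card, hF]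
  let σ : F →+* F := iterateFrobenius F 2 n
  have hs : ∀ x, σ x = x ^ (2 ^ n) := fun x => iterateFrobenius_def 2 n x
  have hσ : Fact (∀ x, σ (σ x) = x) := ⟨by
    intro x
    rw [hs, hs, ← pow_mul, ← pow_two, ← hF]
    exact FiniteField.pow_card x⟩
  obtain ⟨H, S, w, ψ, h, ht1, ht2⟩ := PSUCoord.exists_coord (F := F) (σ := σ) (by omega) hs hF'
  have hcS : Nat.card S = (2 ^ n) ^ 3 := by
    rw [← Nat.card_congr ψ.toEquiv, Cfsg.Agent.LieRecognition.HermHeis.card_heis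
      (Nat.one_lt_two_pow (by omega)) hs hF']
  have hfin : Finite (Cfsg.PSU 3 F (2 ^ n)) := Finite.of_equiv _ e.toEquiv
  have h' := h.comap e
  have htis := @tiSyl X _ _ (MulAction.compHom _ e.toMonoidHom) _ _ _ _ _ _ h'
  rcases hn.lt_or_eq with hn3 | rfl
  · refine ⟨htis, @fixFour X _ _ (MulAction.compHom _ e.toMonoidHom) _ _ _ _ _ h' ?_⟩
    have h2 : Nat.card (S.comap e.toMonoidHom) = (2 ^ n) ^ 3 := by
      rw [← hcS]
      exact Nat.card_congr (e.toEquiv.subtypeEquiv fun y => Iff.rfl)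
    rw [@card_inv_of X _ _ (MulAction.compHom _ e.toMonoidHom) _ _ _ _ (2 ^ n) h' (by norm_num) h2]
    calc 8 = 2 ^ 3 := rfl
      _ ≤ 2 ^ n := Nat.pow_le_pow_right (by norm_num) hn3
  · refine ⟨htis, fixFour_congr e.symm ?_⟩
    refine UThreeFour.fixFour_of_coord (σ := σ) (by rw [hF]; norm_num) (fun x => by rw [hs]; norm_num)
      h ψ ?_ ?_
    · intro α h0
      obtain ⟨y, h1, h2, h3⟩ := ht1 α h0
      refine ⟨y, mem_inf.mpr ⟨?_, ?_⟩, h3⟩
      · rw [Cfsg.Agent.SuzukiRankOne.PSUModel.stab_one]; exact h1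
      · rw [Cfsg.Agent.SuzukiRankOne.PSUModel.mem_stab_smul]; exact h2
    · intro y hy
      obtain ⟨h1, h2⟩ := mem_inf.mp hy
      rw [Cfsg.Agent.SuzukiRankOne.PSUModel.stab_one] at h1
      rw [Cfsg.Agent.SuzukiRankOne.PSUModel.mem_stab_smul] at h2
      exact ht2 y h1 h2

theorem E1.pieces {X : Type*} [Group X] [Finite X] [IsSimpleGroup X] (h : E1 X) :
    TISyl X ∧ FixFour X := by
  rcases h with ⟨F, i1, i2, ⟨n, hn, hF⟩, ⟨e⟩⟩ | h | ⟨F, i1, i2, n, hn, hF, ⟨e⟩⟩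
  · exact of_psl hn hF e
  · exact of_suzuki h
  · exact of_psu hn hF e

theorem E1.congr {X Y : Type*} [Group X] [Group Y] (f : X ≃* Y) (h : E1 X) : E1 Y := by
  rcases h with ⟨F, i1, i2, hF, ⟨e⟩⟩ | ⟨F, i1, i2, m, hm, hF, ⟨e⟩⟩ | ⟨F, i1, i2, n, hn, hF, ⟨e⟩⟩
  · exact Or.inl ⟨F, i1, i2, hF, ⟨f.symm.trans e⟩⟩
  · exact Or.inr (Or.inl ⟨F, i1, i2, m, hm, hF, ⟨f.symm.trans e⟩⟩)
  · exact Or.inr (Or.inr ⟨F, i1, i2, n, hn, hF, ⟨f.symm.trans e⟩⟩)

/-- **END (E1)** -/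
theorem core_eq_bot {G : Type*} [Group G] [Finite G] {N : Subgroup G} (hN : N.Normal)
    (hs : IsSimpleGroup ↥N) (h : E1 ↥N) (hc : centralizer (N : Set G) = ⊥) {x : G}
    (hx : orderOf x = 2) : Cfsg.centralizerPPrimeCore 2 x = ⊥ := by
  obtain ⟨h1, h2⟩ := h.pieces
  refine RankOneTI.core_eq_bot (X := N) ?_ h1 h2 (by rw [← pow_two, ← hx, pow_orderOf_eq_one])
  intro g hg
  have h3 : g ∈ centralizer (N : Set G) := by
    rw [mem_centralizer_iff]
    intro y hy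
    exact (hg y hy).symm
  rw [hc, mem_bot] at h3
  exact h3

end Cfsg.Agent.UGT.End.EOne
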