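import Cfsg.Agent.UGT.End
import Cfsg.Agent.UGT.End.EOne
import Cfsg.Agent.GH.Defs
import Cfsg.Agent.S0252
import Cfsg.Agent.S0253

/-!
# Node END for `PSL₂(2^n)`, `Sz(q)`, `PSU₃(2^n)`

* `lb_of_e1`, `lb_of_psl`, `lb_of_suzuki`, `lb_of_psu`, `lb_of_l28`, `lb_of_l216`, `lb_of_sz8`, `lb_of_u34`
* `IsBender`, `not_bender`: `F*(G)` is not on Bender's list for `G` a minimal counterexample.
-/

set_option autoImplicit false

open Cfsg Subgroup
open Cfsg.Agent.SignalizersComponents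
open Cfsg.Agent.SignalizersComponents.IntrinsicBasic
open Cfsg.Agent.SignalizersComponents.PLayerAut
open Cfsg.Agent.FixBN.BTheorem Cfsg.Agent.FixBN.BRelative
open Cfsg.Agent.UGT.Triple Cfsg.Agent.UGT.Iface Cfsg.Agent.UGT.Trich

namespace Cfsg.Agent.UGT.End.EOneLB

open Cfsg.Agent.UGT.End.EOne

universe u

local notation "Fs" => generalizedFittingSubgroup

theorem lb_of_e1 {X : Type u} [Group X] (hs : IsSimpleGroup X) (h : E1 X) : LB X := by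
  intro G _ _ N hN hX hc x hx
  obtain ⟨f⟩ := hX
  exact core_eq_bot hN (simple_congr f hs) (h.congr f) hc hx

theorem lb_of_psl {X : Type u} [Group X] (hs : IsSimpleGroup X) {F : Type} [Field F] [Fintype F] {n : ℕ}
    (hn : 3 ≤ n) (hF : Fintype.card F = 2 ^ n)
    (e : X ≃* Matrix.ProjectiveSpecialLinearGroup (Fin 2) F) : LB X :=
  lb_of_e1 hs (Or.inl ⟨F, inferInstance, inferInstance, ⟨n, hn, hF⟩, ⟨e⟩⟩)

theorem lb_of_suzuki {X : Type u} [Group X] (hs : IsSimpleGroup X) (h : Cfsg.Lie.IsoSuzuki X) : LB X :=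
  lb_of_e1 hs (Or.inr (Or.inl h))

theorem lb_of_psu {X : Type u} [Group X] (hs : IsSimpleGroup X) {F : Type} [Field F] [Fintype F] {n : ℕ}
    (hn : 2 ≤ n) (hF : Fintype.card F = (2 ^ n) ^ 2) (e : X ≃* Cfsg.PSU 3 F (2 ^ n)) : LB X :=
  lb_of_e1 hs (Or.inr (Or.inr ⟨F, inferInstance, inferInstance, n, hn, hF, ⟨e⟩⟩))

theorem e1_of_l28 {X : Type u} [Group X] (h : Cfsg.Agent.GH.Defs.IsL28 X) : E1 X := by
  obtain ⟨F, i1, i2, hF, e⟩ := h
  exact Or.inl ⟨F, i1, i2, ⟨3, le_rfl, by rw [hF]; norm_num⟩, e⟩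

theorem e1_of_l216 {X : Type u} [Group X] (h : Cfsg.Agent.GH.Defs.IsL216 X) : E1 X := by
  obtain ⟨F, i1, i2, hF, e⟩ := h
  exact Or.inl ⟨F, i1, i2, ⟨4, by norm_num, by rw [hF]; norm_num⟩, e⟩

theorem e1_of_sz8 {X : Type u} [Group X] (h : Cfsg.Agent.GH.Defs.IsSz8 X) : E1 X := by
  obtain ⟨F, i1, i2, hF, e⟩ := h
  exact Or.inr (Or.inl ⟨F, i1, i2, 1, le_rfl, by rw [hF]; norm_num, e⟩)

theorem e1_of_u34 {X : Type u} [Group X] (h : Cfsg.Agent.GH.Defs.IsU34 X) : E1 X := by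
  obtain ⟨F, i1, i2, hF, ⟨e⟩⟩ := h
  exact Or.inr (Or.inr ⟨F, i1, i2, 2, le_rfl, by rw [hF]; norm_num, ⟨e⟩⟩)

theorem lb_of_l28 {X : Type u} [Group X] (hs : IsSimpleGroup X) (h : Cfsg.Agent.GH.Defs.IsL28 X) :
    LB X := lb_of_e1 hs (e1_of_l28 h)

theorem lb_of_l216 {X : Type u} [Group X] (hs : IsSimpleGroup X) (h : Cfsg.Agent.GH.Defs.IsL216 X) :
    LB X := lb_of_e1 hs (e1_of_l216 h)

theorem lb_of_sz8 {X : Type u} [Group X] (hs : IsSimpleGroup X) (h : Cfsg.Agent.GH.Defs.IsSz8 X) :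
    LB X := lb_of_e1 hs (e1_of_sz8 h)

theorem lb_of_u34 {X : Type u} [Group X] (hs : IsSimpleGroup X) (h : Cfsg.Agent.GH.Defs.IsU34 X) :
    LB X := lb_of_e1 hs (e1_of_u34 h)

/-- Bender's list, as in `StrongEmb.Strong.result` -/
def IsBender (K : Type*) [Group K] : Prop :=
  (∃ (F : Type) (_ : Field F) (_ : Fintype F), (∃ n : ℕ, 2 ≤ n ∧ Fintype.card F = 2 ^ n) ∧
      Nonempty (K ≃* Matrix.ProjectiveSpecialLinearGroup (Fin 2) F)) ∨
    Cfsg.Lie.IsoSuzuki K ∨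
    (∃ (F : Type) (_ : Field F) (_ : Fintype F) (n : ℕ), 2 ≤ n ∧
      Fintype.card F = (2 ^ n) ^ 2 ∧ Nonempty (K ≃* Cfsg.PSU 3 F (2 ^ n)))

/-- `A₅ = PSL₂(5)` is on the list of S1311 -/
theorem inU_of_alt5 {K : Type u} [Group K] (e : K ≃* ↥(alternatingGroup (Fin 5))) : InU K := by
  have : Fact (Nat.Prime 5) := ⟨by norm_num⟩
  obtain ⟨f⟩ := Cfsg.Agent.S0253.result (F := ZMod 5) (ZMod.card 5)
  refine Or.inl ⟨5, by norm_num, by norm_num, Or.inl ⟨ZMod 5, inferInstance, inferInstance,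
    inferInstance, 2, le_rfl, ?_, ⟨e.trans f.symm⟩⟩⟩
  intro _
  rw [ZMod.card]
  norm_num

theorem inU_of_psl4 {K : Type u} [Group K] {F : Type} [Field F] [Fintype F] (hF : Fintype.card F = 4)
    (e : K ≃* Matrix.ProjectiveSpecialLinearGroup (Fin 2) F) : InU K := by
  obtain ⟨f⟩ := Cfsg.Agent.S0252.result hF
  exact inU_of_alt5 (e.trans f)

theorem IsBender.e1_or {K : Type u} [Group K] (h : IsBender K) : E1 K ∨ InU K := by
  rcases h with ⟨F, i1, i2, ⟨n, hn, hF⟩, ⟨e⟩⟩ | h | h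
  · rcases hn.lt_or_eq with hn3 | rfl
    · exact Or.inl (Or.inl ⟨F, i1, i2, ⟨n, hn3, hF⟩, ⟨e⟩⟩)
    · exact Or.inr (inU_of_psl4 (by rw [hF]; norm_num) e)
  · exact Or.inl (Or.inr (Or.inl h))
  · exact Or.inl (Or.inr (Or.inr h))

/-- **Node END for Bender's list.** -/
theorem not_bender {G : Type u} [Group G] [Finite G] (h : MinCex G) : ¬ IsBender ↥(Fs G) := by
  intro hB
  rcases hB.e1_or with h1 | h1
  · exact not_minCex h (lb_of_e1 h.simple h1)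
  · exact h.notU h1

end Cfsg.Agent.UGT.End.EOneLB
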