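import Mathlib
import Cfsg.Agent.J3Type.OneClass

set_option autoImplicit false

/-!
# Automorphisms of a group with an involution centraliser `2^{1+4}_-.A₅`

`K` is a group, `z` an involution of `K` whose centraliser has a model `(Q, z, v, ρ)`, `n` an element
of `K` with `z ↦ v₀ ↦ z v₀` and `K = ⟨C(z), n⟩` (`HypK`).

* `exists_sp` : an automorphism fixing `z` acts on the `v i` as a signed permutation, of sign `Σ s`;
* `HypK.eq_of_fix` : an automorphism fixing `C(z)` elementwise is `1` or `conj z`;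
* `HypK.inner_of_even` : an automorphism fixing `z`, of even signed permutation, is inner;
* `HypK.two_fix` : an automorphism `τ` with `τ² = 1`, `τ z = z` fixes an involution `b ≠ z` of `C(z)`.
-/

namespace Cfsg.Agent.UGT.End.ModelAut

open Cfsg.Agent.J2Type.Model Cfsg.Agent.J2Type.SPFacts Cfsg.Agent.J2Type.CStruct
open Cfsg.Agent.J3Type.OneClass
open Subgroup

section perm

theorem perm_two : ∀ σ : Equiv.Perm (Fin 5), Equiv.Perm.sign σ = -1 → σ * σ = 1 →
    ∃ (i : Fin 5) (σ' : Equiv.Perm (Fin 5)), Equiv.Perm.sign σ' = 1 ∧ σ' * σ' = 1 ∧ σ' ≠ 1 ∧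
      σ i = i ∧ σ' i = i ∧ σ * σ' = σ' * σ ∧ ∀ a, σ a = a ∨ σ a = σ' a := by
  decide +kernel

theorem perm_pair : ∀ σ : Equiv.Perm (Fin 5),
    (∀ i j : Fin 5, i ≠ 0 → j ≠ 0 → i ≠ j → ∀ k, (k = i ∨ k = j) ↔ (σ k = i ∨ σ k = j)) → σ = 1 := by
  decide +kernel

theorem cyc4 : ¬ (τ3 ^ 4 = 1) := by decide +kernel

end perm

section C

variable {C : Type*} [Group C] {Q : Subgroup C} {z : C} {v : Fin 5 → C} {ρ : C →* SP}

theorem pow_four (M : IsModel Q z v ρ) {q : C} (hq : q ∈ Q) : q ^ 4 = 1 := by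
  have h4 : ∀ x : C, (x * x) * (x * x) = 1 → x ^ 4 = 1 := by
    intro x h
    rw [show 4 = 2 + 2 from rfl, pow_add, pow_two, h]
  apply h4
  rcases M.cover q hq with ⟨a, h1⟩ | ⟨a, i, h1⟩ | ⟨a, i, j, hij, h1⟩
  · rw [h1, zp_sq M, mul_one]
  · rw [h1, sq_zp_mul M, M.v_sq, mul_one]
  · rw [h1, sq_zp_mul M, vv_sq M hij.ne, M.z_sq]

/-- the permutation part -/
def perm (ρ : C →* SP) : C →* Equiv.Perm (Fin 5) where
  toFun c := (ρ c).σ
  map_one' := by rw [map_one]; rfl
  map_mul' a b := by rw [map_mul]; rfl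

theorem perm_mem (M : IsModel Q z v ρ) (c : C) : perm ρ c ∈ alternatingGroup (Fin 5) :=
  Equiv.Perm.mem_alternatingGroup.mpr ((M.range (ρ c)).1 ⟨c, rfl⟩).1

/-- the permutation part, into `A₅` -/
def permA (M : IsModel Q z v ρ) : C →* alternatingGroup (Fin 5) :=
  (perm ρ).codRestrict _ (perm_mem M)

theorem permA_surj (M : IsModel Q z v ρ) : Function.Surjective (permA M) := by
  rintro ⟨σ, hσ⟩
  obtain ⟨c, hc⟩ := (M.range ⟨σ, fun _ => 0⟩).2 ⟨Equiv.Perm.mem_alternatingGroup.mp hσ, by simp⟩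
  refine ⟨c, Subtype.ext ?_⟩
  change (ρ c).σ = σ
  rw [hc]

theorem permA_eq_one (M : IsModel Q z v ρ) (c : C) : permA M c = 1 ↔ c ∈ Q := by
  rw [M.mem_Q]
  constructor
  · intro h; exact congrArg Subtype.val h
  · intro h; exact Subtype.ext h

/-- automorphisms preserve `Q` -/
theorem map_Q (M : IsModel Q z v ρ) (τ : MulAut C) : ∀ q ∈ Q, τ q ∈ Q := by
  have hQn : Q.Normal := by
    have : Q = (permA M).ker := by
      ext c
      rw [MonoidHom.mem_ker, permA_eq_one]
    rw [this]; infer_instance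
  obtain ⟨P, hP⟩ : ∃ P, P = (Q.map τ.toMonoidHom).map (permA M) := ⟨_, rfl⟩
  have hPn : P.Normal := by
    rw [hP]
    exact (hQn.map _ τ.surjective).map _ (permA_surj M)
  have hP4 : ∀ p ∈ P, p ^ 4 = 1 := by
    intro p hp
    rw [hP] at hp
    obtain ⟨_, ⟨q, hq, rfl⟩, rfl⟩ := hp
    rw [← map_pow, ← map_pow, pow_four M hq, map_one, map_one]
  rcases hPn.eq_bot_or_eq_top with h | h
  · intro q hq
    rw [← permA_eq_one M]
    have h1 : permA M (τ q) ∈ P := by
      rw [hP]; exact ⟨_, ⟨q, hq, rfl⟩, rfl⟩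
    rwa [h, mem_bot] at h1
  · exfalso
    have h1 : Equiv.Perm.sign τ3 = 1 := by decide +kernel
    have h2 := hP4 ⟨τ3, Equiv.Perm.mem_alternatingGroup.mpr h1⟩ (by rw [h]; trivial)
    exact cyc4 (congrArg Subtype.val h2)

/-- the signed permutation of an automorphism fixing `z` -/
theorem exists_sp (M : IsModel Q z v ρ) (τ : MulAut C) (hz : τ z = z) :
    ∃ g : SP, (∀ i, τ (v i) = zp z (g.s i) * v (g.σ i)) ∧
      ∑ i, g.s i + (if Equiv.Perm.sign g.σ = 1 then 0 else 1) = 0 := by
  have h1 : ∀ i, ∃ (a : ZMod 2) (j : Fin 5), τ (v i) = zp z a * v j := by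
    intro i
    have h2 := map_Q M τ (v i) (M.v_mem i)
    have h3 : τ (v i) * τ (v i) = 1 := by rw [← map_mul, M.v_sq, map_one]
    have h4 : τ (v i) ≠ 1 := by
      intro h
      have h5 : v i = 1 := by
        apply τ.injective; rw [h, map_one]
      exact v_ne_one M i 0 (by rw [zp_zero, one_mul, h5])
    rcases invol_Q M h2 h3 h4 with h5 | h5
    · exfalso
      have h6 : v i = z := by apply τ.injective; rw [h5, hz]
      exact zv_ne_z M 0 i (by rw [zp_zero, one_mul, h6])
    · exact h5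
  choose A J hAJ using h1
  have hzp : ∀ a, τ (zp z a) = zp z a := by
    intro a
    rcases zmod2_cases a with rfl | rfl
    · rw [zp_zero, map_one]
    · rw [zp_one, hz]
  have hJ : Function.Injective J := by
    intro i k hik
    have e1 : τ (zp z (A i + A k) * v i) = τ (v k) := by
      rw [map_mul, hzp, hAJ i, hAJ k, hik, ← mul_assoc, ← zp_add z M.z_sq]
      congr 2
      rw [show A i + A k + A i = (A i + A i) + A k by ring, CharTwo.add_self_eq_zero, zero_add]
    have e2 := τ.injective e1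
    exact (M.v_inj (A i + A k) 0 i k (by rw [zp_zero, one_mul]; exact e2)).2
  obtain ⟨g, hg⟩ : ∃ g : SP, g = ⟨Equiv.ofBijective J (Finite.injective_iff_bijective.1 hJ), A⟩ :=
    ⟨_, rfl⟩
  have hg1 : ∀ i, g.σ i = J i := by intro i; rw [hg]; rfl
  have hg2 : ∀ i, g.s i = A i := by intro i; rw [hg]
  have hg3 : ∀ i, τ (v i) = zp z (g.s i) * v (g.σ i) := by
    intro i; rw [hg1, hg2]; exact hAJ i
  refine ⟨g, hg3, ?_⟩
  have h5 := congrArg τ M.v_prod
  rw [map_mul, map_mul, map_mul, map_mul, hg3, hg3, hg3, hg3, hg3, map_one τ] at h5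
  have h6 := prod_perm M.z_sq M.z_comm v M.v_anti M.v_prod g.σ
  have h7 : ∀ (a b : ZMod 2) (x y : C), (zp z a * x) * (zp z b * y) = zp z (a + b) * (x * y) := by
    intro a b x y
    calc (zp z a * x) * (zp z b * y) = zp z a * (x * zp z b) * y := by group
      _ = zp z a * (zp z b * x) * y := by rw [zp_comm' M]
      _ = (zp z a * zp z b) * (x * y) := by group
      _ = _ := by rw [← zp_add z M.z_sq]
  rw [h7, h7, h7, h7, h6, ← zp_add z M.z_sq, ← zp_zero z] at h5
  have h8 := zp_inj M h5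
  rw [Fin.sum_univ_five]
  exact h8

theorem tau_zp {τ : MulAut C} (hz : τ z = z) (a : ZMod 2) : τ (zp z a) = zp z a := by
  rcases zmod2_cases a with rfl | rfl
  · rw [zp_zero, map_one]
  · rw [zp_one, hz]

theorem zp_mul_mul (M : IsModel Q z v ρ) (a b : ZMod 2) (x y : C) :
    (zp z a * x) * (zp z b * y) = zp z (a + b) * (x * y) := by
  calc (zp z a * x) * (zp z b * y) = zp z a * (x * zp z b) * y := by group
    _ = zp z a * (zp z b * x) * y := by rw [zp_comm' M]
    _ = (zp z a * zp z b) * (x * y) := by group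
    _ = _ := by rw [← zp_add z M.z_sq]

theorem conj_zp_mul (M : IsModel Q z v ρ) (c : C) (a : ZMod 2) (x : C) :
    c * (zp z a * x) * c⁻¹ = zp z a * (c * x * c⁻¹) := by
  calc c * (zp z a * x) * c⁻¹ = (c * zp z a) * x * c⁻¹ := by group
    _ = (zp z a * c) * x * c⁻¹ := by rw [zp_comm' M]
    _ = _ := by group

theorem rho_tau (M : IsModel Q z v ρ) {τ : MulAut C} (hz : τ z = z) {g : SP}
    (hg : ∀ i, τ (v i) = zp z (g.s i) * v (g.σ i)) (c : C) : ρ (τ c) * g = g * ρ c := by
  have key : ∀ i, (ρ (τ c) * g).s i = (g * ρ c).s i ∧ (ρ (τ c) * g).σ i = (g * ρ c).σ i := by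
    intro i
    apply M.v_inj
    have h1 : τ c * τ (v i) * (τ c)⁻¹ = zp z ((ρ (τ c) * g).s i) * v ((ρ (τ c) * g).σ i) := by
      rw [hg, conj_zp_mul M, M.conj, ← mul_assoc, ← zp_add z M.z_sq]
      rfl
    have h2 : τ c * τ (v i) * (τ c)⁻¹ = zp z ((g * ρ c).s i) * v ((g * ρ c).σ i) := by
      rw [← map_mul, ← map_inv, ← map_mul, M.conj, map_mul, tau_zp hz, hg, ← mul_assoc,
        ← zp_add z M.z_sq]
      rfl
    rw [← h1, h2]
  apply SP.ext
  · apply Equiv.ext; intro i; exact (key i).2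
  · funext i; exact (key i).1

/-- fixing `z` and the `v i` means fixing `Q` -/
theorem fix_Q (M : IsModel Q z v ρ) {τ : MulAut C} (hz : τ z = z) (hv : ∀ i, τ (v i) = v i) :
    ∀ q ∈ Q, τ q = q := by
  intro q hq
  rcases M.cover q hq with ⟨a, h1⟩ | ⟨a, i, h1⟩ | ⟨a, i, j, hij, h1⟩
  · rw [h1, tau_zp hz]
  · rw [h1, map_mul, tau_zp hz, hv]
  · rw [h1, map_mul, map_mul, tau_zp hz, hv, hv]

/-- an automorphism fixing `z` and the `v i` is trivial -/
theorem fix_all (M : IsModel Q z v ρ) {τ : MulAut C} (hz : τ z = z) (hv : ∀ i, τ (v i) = v i) :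
    ∀ c, τ c = c := by
  have hQ := fix_Q M hz hv
  have h1 : ∀ c, ∃ a, τ c = zp z a * c := by
    intro c
    have h2 := rho_tau M hz (g := 1) (by
      intro i; rw [hv, one_s, one_σ, zp_zero, one_mul]; rfl) c
    rw [mul_one, one_mul] at h2
    exact eq_of_rho_eq M h2
  let F : Subgroup C :=
    { carrier := {c | τ c = c}
      mul_mem' := by
        intro a b ha hb
        change τ (a * b) = a * b
        rw [map_mul, show τ a = a from ha, show τ b = b from hb]
      one_mem' := map_one τ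
      inv_mem' := by
        intro a ha
        change τ a⁻¹ = a⁻¹
        rw [map_inv, show τ a = a from ha] }
  have hQF : Q ≤ F := hQ
  have h3 : alternatingGroup (Fin 5) ≤ F.map (perm ρ) := by
    rw [← Equiv.Perm.closure_three_cycles_eq_alternating, closure_le]
    intro t ht
    have ht' : t.IsThreeCycle := ht
    obtain ⟨x, hx⟩ := (M.range ⟨t, fun _ => 0⟩).2 ⟨ht'.sign, by simp⟩
    have hxt : perm ρ x = t := by
      change (ρ x).σ = t
      rw [hx]
    refine ⟨x, ?_, hxt⟩
    change τ x = x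
    obtain ⟨a, ha⟩ := h1 x
    have hx3 : x ^ 3 ∈ Q := by
      rw [M.mem_Q]
      change perm ρ (x ^ 3) = 1
      rw [map_pow, hxt, ← ht'.orderOf]
      exact pow_orderOf_eq_one t
    have h4 := hQ _ hx3
    rw [map_pow, ha] at h4
    have h5 : (zp z a * x) ^ 3 = zp z a * x ^ 3 := by
      have e3 : ∀ y : C, y ^ 3 = (y * y) * y := by
        intro y; rw [pow_succ, pow_two]
      rw [e3, e3, sq_zp_mul M, ← mul_assoc, zp_comm' M, mul_assoc]
    rw [h5] at h4
    have h6 : zp z a = 1 := by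
      have h7 : zp z a * x ^ 3 = 1 * x ^ 3 := by rw [h4, one_mul]
      exact mul_right_cancel h7
    rw [ha, h6, one_mul]
  intro c
  obtain ⟨f, hf, hfc⟩ := h3 (perm_mem M c)
  have h4 : c * f⁻¹ ∈ Q := by
    rw [M.mem_Q]
    change perm ρ (c * f⁻¹) = 1
    rw [map_mul, map_inv, hfc, mul_inv_cancel]
  have h5 : c * f⁻¹ * f ∈ F := F.mul_mem (hQF h4) hf
  rw [inv_mul_cancel_right] at h5
  exact h5

/-- an automorphism fixing `z` whose signed permutation is even is inner -/
theorem inner_C (M : IsModel Q z v ρ) {τ : MulAut C} (hz : τ z = z) {g : SP}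
    (hg : ∀ i, τ (v i) = zp z (g.s i) * v (g.σ i)) {c0 : C} (hc : ρ c0 = g) :
    ∀ c, τ c = c0 * c * c0⁻¹ := by
  have h1 : ∀ c, ((MulAut.conj c0)⁻¹ * τ) c = c := by
    apply fix_all M
    · rw [MulAut.mul_apply, hz, MulAut.conj_inv_apply, mul_assoc, ← M.z_comm, inv_mul_cancel_left]
    · intro i
      rw [MulAut.mul_apply, hg, MulAut.conj_inv_apply, ← hc]
      have h2 := M.conj c0 i
      rw [← h2]; group
  intro c
  have h2 := h1 c
  rw [MulAut.mul_apply, MulAut.conj_inv_apply] at h2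
  calc τ c = c0 * (c0⁻¹ * τ c * c0) * c0⁻¹ := by group
    _ = _ := by rw [h2]

end C

section K

variable {K : Type*} [Group K] {z : K} {Q : Subgroup (centralizer ({z} : Set K))}
  {v : Fin 5 → centralizer ({z} : Set K)} {ρ : centralizer ({z} : Set K) →* SP} {n : K}

/-- `K = ⟨C(z), n⟩`, where `C(z)` has a model and `n` maps `z` to `v₀` and `v₀` to `z v₀`. -/
structure HypK (z : K) (Q : Subgroup (centralizer ({z} : Set K)))
    (v : Fin 5 → centralizer ({z} : Set K)) (ρ : centralizer ({z} : Set K) →* SP) (n : K) :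
    Prop where
  model : IsModel Q (zc z) v ρ
  nz : n * z * n⁻¹ = (v 0 : K)
  nv : n * (v 0 : K) * n⁻¹ = z * (v 0 : K)
  gen : closure ({c : K | c * z = z * c} ∪ {n}) = ⊤

/-- the restriction to `C(z)` of an automorphism fixing `z` -/
def res (τ : MulAut K) (hz : τ z = z) : MulAut (centralizer ({z} : Set K)) where
  toFun c := ⟨τ c, mem_centralizer_singleton_iff.2 (by
    have h := congrArg τ (mem_centralizer_singleton_iff.1 c.2)
    rwa [map_mul, map_mul, hz] at h)⟩
  invFun c := ⟨τ.symm c, mem_centralizer_singleton_iff.2 (by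
    have h := congrArg τ.symm (mem_centralizer_singleton_iff.1 c.2)
    have h2 : τ.symm z = z := by rw [MulEquiv.symm_apply_eq, hz]
    rwa [map_mul, map_mul, h2] at h)⟩
  left_inv c := Subtype.ext (τ.symm_apply_apply _)
  right_inv c := Subtype.ext (τ.apply_symm_apply _)
  map_mul' a b := Subtype.ext (map_mul τ (a : K) (b : K))

theorem res_coe (τ : MulAut K) (hz : τ z = z) (c : centralizer ({z} : Set K)) :
    (res τ hz c : K) = τ c := rfl

theorem res_zc (τ : MulAut K) (hz : τ z = z) : res τ hz (zc z) = zc z := Subtype.ext hz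

theorem HypK.zz (H : HypK z Q v ρ n) : z * z = 1 := congrArg Subtype.val H.model.z_sq

theorem HypK.z_ne (H : HypK z Q v ρ n) : z ≠ 1 := fun h => H.model.z_ne (Subtype.ext h)

theorem HypK.vv (H : HypK z Q v ρ n) (i : Fin 5) : (v i : K) * v i = 1 :=
  congrArg Subtype.val (H.model.v_sq i)

theorem v_comm_z (i : Fin 5) : (v i : K) * z = z * v i := mem_centralizer_singleton_iff.1 (v i).2

theorem HypK.anti (H : HypK z Q v ρ n) {i j : Fin 5} (h : i ≠ j) :
    (v i : K) * v j = z * (v j * v i) := congrArg Subtype.val (H.model.v_anti i j h)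

theorem HypK.v_ne_one (H : HypK z Q v ρ n) (i : Fin 5) : (v i : K) ≠ 1 := by
  intro h
  exact Cfsg.Agent.J2Type.CStruct.v_ne_one H.model i 0 (by rw [zp_zero, one_mul]; exact Subtype.ext h)

theorem HypK.v_ne_z (H : HypK z Q v ρ n) (i : Fin 5) : (v i : K) ≠ z := by
  intro h
  exact Cfsg.Agent.J2Type.CStruct.zv_ne_z H.model 0 i (by rw [zp_zero, one_mul]; exact Subtype.ext h)

/-- `n (z v₀) n⁻¹ = z` -/
theorem HypK.nzv (H : HypK z Q v ρ n) : n * (z * v 0) * n⁻¹ = z := by
  calc n * (z * v 0) * n⁻¹ = (n * z * n⁻¹) * (n * v 0 * n⁻¹) := by group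
    _ = v 0 * (z * v 0) := by rw [H.nz, H.nv]
    _ = (v 0 * z) * v 0 := by group
    _ = (z * v 0) * v 0 := by rw [v_comm_z]
    _ = z := by rw [mul_assoc, H.vv, mul_one]

/-- an element commuting with `v 0` and all `v i * v j` (`i, j ≠ 0`) lies in `⟨z, v₀⟩` -/
theorem mem_four {C : Type*} [Group C] {Q : Subgroup C} {z : C} {v : Fin 5 → C} {ρ : C →* SP}
    (M : IsModel Q z v ρ) {w : C} (h0 : w * v 0 = v 0 * w)
    (h : ∀ i j : Fin 5, i ≠ 0 → j ≠ 0 → i ≠ j → w * (v i * v j) = (v i * v j) * w) :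
    ∃ a : ZMod 2, w = zp z a ∨ w = zp z a * v 0 := by
  have hs0 : (ρ w).s 0 = 0 ∧ (ρ w).σ 0 = 0 := by
    apply M.v_inj
    rw [← M.conj, zp_zero, one_mul, h0, mul_inv_cancel_right]
  have hrho : ∀ i j k : Fin 5, (ρ (v i * v j)).σ = 1 ∧
      (ρ (v i * v j)).s k = (if k = j then 0 else 1) + (if k = i then 0 else 1) := by
    intro i j k
    rw [map_mul, rho_v M, rho_v M]
    exact ⟨rfl, rfl⟩
  have hσ : (ρ w).σ = 1 := by
    apply perm_pair
    intro i j hi hj hij k
    have h1 := congrArg ρ (h i j hi hj hij)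
    rw [map_mul, map_mul ρ _ w] at h1
    have h2 := congrFun (congrArg SP.s h1) k
    rw [mul_s, mul_s, (hrho i j k).1, (hrho i j k).2, (hrho i j _).2] at h2
    change _ + (ρ w).s k = _ at h2
    rw [add_comm ((ρ w).s k)] at h2
    have h3 := add_right_cancel h2
    have h4 : ∀ i j k l : Fin 5, i ≠ j →
        ((if k = j then (0 : ZMod 2) else 1) + (if k = i then 0 else 1) =
          (if l = j then 0 else 1) + (if l = i then 0 else 1)) →
        ((k = i ∨ k = j) ↔ (l = i ∨ l = j)) := by decide +kernel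
    exact h4 i j k _ hij h3
  have hs : ∀ i j : Fin 5, i ≠ 0 → j ≠ 0 → i ≠ j → (ρ w).s i = (ρ w).s j := by
    intro i j hi hj hij
    have h1 : w * (v i * v j) * w⁻¹ = v i * v j := by rw [h i j hi hj hij, mul_inv_cancel_right]
    have h2 : w * (v i * v j) * w⁻¹ = zp z ((ρ w).s i + (ρ w).s j) * (v i * v j) := by
      calc w * (v i * v j) * w⁻¹ = (w * v i * w⁻¹) * (w * v j * w⁻¹) := by group
        _ = _ := by rw [M.conj, M.conj, hσ, zp_mul_mul M]; rfl
    have h3 : zp z ((ρ w).s i + (ρ w).s j) * (v i * v j) = zp z 0 * (v i * v j) := by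
      rw [← h2, h1, zp_zero, one_mul]
    have h4 := zp_inj M (mul_right_cancel h3)
    have h5 : ∀ a b : ZMod 2, a + b = 0 → a = b := by decide
    exact h5 _ _ h4
  have h6 : ρ w = 1 ∨ ρ w = ρ (v 0) := by
    rcases zmod2_cases ((ρ w).s 1) with h7 | h7
    · left
      apply SP.ext
      · exact hσ
      · funext k
        rw [one_s]
        by_cases hk0 : k = 0
        · rw [hk0, hs0.1]
        · by_cases hk1 : k = 1
          · rw [hk1, h7]
          · rw [hs k 1 hk0 (by decide) hk1, h7]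
    · right
      rw [rho_v M]
      apply SP.ext
      · exact hσ
      · funext k
        by_cases hk0 : k = 0
        · rw [hk0, hs0.1]; rfl
        · have : (if k = 0 then (0 : ZMod 2) else 1) = 1 := if_neg hk0
          change _ = (if k = 0 then (0 : ZMod 2) else 1)
          rw [this]
          by_cases hk1 : k = 1
          · rw [hk1, h7]
          · rw [hs k 1 hk0 (by decide) hk1, h7]
  rcases h6 with h7 | h7
  · rcases (M.ker w).1 h7 with h8 | h8
    · exact ⟨0, Or.inl (by rw [zp_zero, h8])⟩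
    · exact ⟨1, Or.inl (by rw [zp_one, h8])⟩
  · obtain ⟨a, ha⟩ := eq_of_rho_eq M h7
    exact ⟨a, Or.inr ha⟩

/-- two automorphisms agreeing on `C(z)` and `n` are equal -/
theorem HypK.eq_one_of (H : HypK z Q v ρ n) {τ : MulAut K} (h1 : ∀ c : K, c * z = z * c → τ c = c)
    (h2 : τ n = n) : τ = 1 := by
  let F : Subgroup K :=
    { carrier := {c | τ c = c}
      mul_mem' := by
        intro a b ha hb
        change τ (a * b) = a * b
        rw [map_mul, show τ a = a from ha, show τ b = b from hb]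
      one_mem' := map_one τ
      inv_mem' := by
        intro a ha
        change τ a⁻¹ = a⁻¹
        rw [map_inv, show τ a = a from ha] }
  have h3 : closure ({c : K | c * z = z * c} ∪ {n}) ≤ F := by
    rw [closure_le]
    rintro x (hx | hx)
    · exact h1 x hx
    · rw [Set.mem_singleton_iff] at hx
      rw [hx]; exact h2
  rw [H.gen] at h3
  apply MulEquiv.ext
  intro x
  exact h3 (mem_top x)

/-- **(B)** an automorphism fixing `C(z)` elementwise is trivial or conjugation by `z` -/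
theorem HypK.eq_of_fix (H : HypK z Q v ρ n) {τ : MulAut K}
    (hC : ∀ c : K, c * z = z * c → τ c = c) : τ = 1 ∨ τ = MulAut.conj z := by
  have hz : τ z = z := hC z rfl
  have hv : ∀ i, τ (v i : K) = v i := fun i => hC _ (v_comm_z i)
  -- `w = n⁻¹ τ(n)`
  obtain ⟨w, hw⟩ : ∃ w, w = n⁻¹ * τ n := ⟨_, rfl⟩
  have hn : τ n = n * w := by rw [hw, mul_inv_cancel_left]
  have hcomm : ∀ x : K, x * z = z * x → (n * x * n⁻¹) * z = z * (n * x * n⁻¹) → w * x = x * w := by
    intro x h1 h2
    have h3 := hC _ h2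
    rw [map_mul, map_mul, map_inv, hC x h1, hn] at h3
    have h4 : n * w * x * (n * w)⁻¹ = n * (w * x * w⁻¹) * n⁻¹ := by group
    rw [h4] at h3
    have h5 := mul_left_cancel (mul_right_cancel h3)
    rwa [mul_inv_eq_iff_eq_mul] at h5
  have hwz : w * z = z * w := by
    apply hcomm z rfl
    rw [H.nz]; exact v_comm_z 0
  have hw0 : w * v 0 = v 0 * w := by
    apply hcomm _ (v_comm_z 0)
    rw [H.nv, mul_assoc, v_comm_z 0]
  have hwij : ∀ i j : Fin 5, i ≠ 0 → j ≠ 0 → i ≠ j → w * (v i * v j) = (v i * v j) * w := by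
    intro i j hi hj _
    have e1 : ((v i : K) * v j) * z = z * (v i * v j) := by
      rw [mul_assoc, v_comm_z j, ← mul_assoc, v_comm_z i, mul_assoc]
    have e2 : ((v i : K) * v j) * v 0 = v 0 * (v i * v j) := by
      calc ((v i : K) * v j) * v 0 = v i * (v j * v 0) := by group
        _ = v i * (z * (v 0 * v j)) := by rw [H.anti hj]
        _ = (v i * z) * v 0 * v j := by group
        _ = (z * v i) * v 0 * v j := by rw [v_comm_z]
        _ = z * (v i * v 0) * v j := by group
        _ = z * (z * (v 0 * v i)) * v j := by rw [H.anti hi]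
        _ = (z * z) * (v 0 * (v i * v j)) := by group
        _ = _ := by rw [H.zz, one_mul]
    apply hcomm _ e1
    have e3 : ((v i : K) * v j) * (z * v 0) = (z * v 0) * (v i * v j) := by
      rw [← mul_assoc, e1, mul_assoc, e2, mul_assoc]
    have e4 : z = n * (z * v 0) * n⁻¹ := H.nzv.symm
    calc (n * (v i * v j) * n⁻¹) * z = (n * (v i * v j) * n⁻¹) * (n * (z * v 0) * n⁻¹) := by
          rw [H.nzv]
      _ = n * ((v i * v j) * (z * v 0)) * n⁻¹ := by group
      _ = n * ((z * v 0) * (v i * v j)) * n⁻¹ := by rw [e3]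
      _ = (n * (z * v 0) * n⁻¹) * (n * (v i * v j) * n⁻¹) := by group
      _ = _ := by rw [H.nzv]
  obtain ⟨wc, hwc⟩ : ∃ wc : centralizer ({z} : Set K), (wc : K) = w :=
    ⟨⟨w, mem_centralizer_singleton_iff.2 hwz⟩, rfl⟩
  have hfour := mem_four H.model (w := wc) (Subtype.ext (by
      change (wc : K) * v 0 = v 0 * wc
      rw [hwc]; exact hw0)) (by
      intro i j hi hj hij
      apply Subtype.ext
      change (wc : K) * (v i * v j) = (v i * v j) * wc
      rw [hwc]; exact hwij i j hi hj hij)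
  -- `w ∈ {1, z, v₀, z v₀}`
  have hw4 : w = 1 ∨ w = z ∨ w = v 0 ∨ w = z * v 0 := by
    obtain ⟨a, ha⟩ := hfour
    rcases zmod2_cases a with rfl | rfl
    · rcases ha with h | h
      · left; rw [← hwc, h, zp_zero]; rfl
      · right; right; left; rw [← hwc, h, zp_zero, one_mul]
    · rcases ha with h | h
      · right; left; rw [← hwc, h, zp_one]
      · right; right; right; rw [← hwc, h, zp_one]; rfl
  have hz' : z⁻¹ = z := inv_eq_of_mul_eq_one_left H.zz
  have hv' : (v 0 : K)⁻¹ = v 0 := inv_eq_of_mul_eq_one_left (H.vv 0)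
  have hnz : n * z = v 0 * n := mul_inv_eq_iff_eq_mul.1 H.nz
  have hnv : n * v 0 = z * v 0 * n := mul_inv_eq_iff_eq_mul.1 H.nv
  have hnzv : n * (z * v 0) = z * n := mul_inv_eq_iff_eq_mul.1 H.nzv
  have hc0 : (v 0 : K) * z = z * v 0 := v_comm_z 0
  have hv1 : (v 0 : K) * v 1 * (v 0 : K)⁻¹ = z * v 1 := by
    rw [mul_inv_eq_iff_eq_mul, H.anti (by decide : (0 : Fin 5) ≠ 1), mul_assoc]
  have hne1 : (z : K) * v 1 ≠ v 1 := by
    intro h
    apply H.z_ne
    have h2 : z * (v 1 : K) = 1 * v 1 := by rw [h, one_mul]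
    exact mul_right_cancel h2
  -- `conj a ∘ τ` fixes `n`, where `a ∈ V`; then `a ∈ ⟨z⟩`
  have key : ∀ a : K, (∀ x : K, x * z = z * x → x * v 0 = v 0 * x → a * x = x * a) →
      a * τ n * a⁻¹ = n → a * v 1 * a⁻¹ ≠ z * v 1 := by
    intro a hax han h
    obtain ⟨q, hq⟩ : ∃ q : K, q = v 1 := ⟨_, rfl⟩
    have hqz : q * z = z * q := hq ▸ v_comm_z 1
    have hq' : q⁻¹ = q := by rw [hq]; exact inv_eq_of_mul_eq_one_left (H.vv 1)
    have hqv : q * v 0 * q⁻¹ = z * v 0 := by
      rw [mul_inv_eq_iff_eq_mul, hq, H.anti (by decide : (1 : Fin 5) ≠ 0), mul_assoc]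
    have hh : (n * q * n * q⁻¹) * z = z * (n * q * n * q⁻¹) := by
      have e1 : (n * q * n * q⁻¹) * z * (n * q * n * q⁻¹)⁻¹ =
          n * (q * (n * (q⁻¹ * z * q) * n⁻¹) * q⁻¹) * n⁻¹ := by group
      have e2 : q⁻¹ * z * q = z := by rw [mul_assoc, ← hqz, inv_mul_cancel_left]
      rw [e2, H.nz, hqv, H.nzv] at e1
      exact mul_inv_eq_iff_eq_mul.1 e1
    have hh0 : (n * q * n * q⁻¹) * v 0 = v 0 * (n * q * n * q⁻¹) := by
      have e1 : (n * q * n * q⁻¹) * v 0 * (n * q * n * q⁻¹)⁻¹ =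
          n * (q * (n * (q⁻¹ * v 0 * q) * n⁻¹) * q⁻¹) * n⁻¹ := by group
      have e2 : q⁻¹ * v 0 * q = z * v 0 := by
        have := hqv
        rw [hq'] at this ⊢
        exact this
      have e3 : q * z * q⁻¹ = z := by rw [hqz, mul_inv_cancel_right]
      rw [e2, H.nzv, e3, H.nz] at e1
      exact mul_inv_eq_iff_eq_mul.1 e1
    have h1 := hC _ hh
    rw [map_mul, map_mul, map_mul, map_inv, show τ q = q from hq ▸ hv 1] at h1
    have h2 : a * (n * q * n * q⁻¹) * a⁻¹ = n * q * n * q⁻¹ := by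
      rw [hax _ hh hh0, mul_inv_cancel_right]
    have h3 : a * (τ n * q * τ n * q⁻¹) * a⁻¹ =
        (a * τ n * a⁻¹) * (a * q * a⁻¹) * (a * τ n * a⁻¹) * (a * q * a⁻¹)⁻¹ := by group
    rw [h1, h2, han, show a * q * a⁻¹ = z * q from hq ▸ h] at h3
    -- `n q n q⁻¹ = n (z q) n (z q)⁻¹`
    have h4 : n * q * n * q⁻¹ = n * (z * (q * n * q⁻¹) * z⁻¹) := by rw [h3]; group
    have h5 : q * n * q⁻¹ = z * (q * n * q⁻¹) * z⁻¹ := by
      have h6 : n * q * n * q⁻¹ = n * (q * n * q⁻¹) := by group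
      rw [h6] at h4
      exact mul_left_cancel h4
    have h6 : n * z = z * n := by
      have h7 : (q * n * q⁻¹) * z = z * (q * n * q⁻¹) := by
        calc (q * n * q⁻¹) * z = z * (q * n * q⁻¹) * z⁻¹ * z := by rw [← h5]
          _ = _ := by rw [inv_mul_cancel_right]
      have h8 : q⁻¹ * z = z * q⁻¹ := by rw [hq', hqz]
      have h9 : q * (n * z) * q⁻¹ = q * (z * n) * q⁻¹ := by
        calc q * (n * z) * q⁻¹ = q * n * (z * q⁻¹) := by group
          _ = q * n * (q⁻¹ * z) := by rw [h8]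
          _ = (q * n * q⁻¹) * z := by group
          _ = z * (q * n * q⁻¹) := h7
          _ = (z * q) * n * q⁻¹ := by group
          _ = (q * z) * n * q⁻¹ := by rw [hqz]
          _ = _ := by group
      exact mul_left_cancel (mul_right_cancel h9)
    apply H.v_ne_z 0
    rw [← H.nz, h6, mul_inv_cancel_right]
  have hfin : ∀ a : K, (∀ x : K, x * z = z * x → a * x = x * a) → a * τ n * a⁻¹ = n →
      τ = (MulAut.conj a)⁻¹ := by
    intro a ha han
    have h1 : MulAut.conj a * τ = 1 := by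
      apply H.eq_one_of
      · intro c hc
        rw [MulAut.mul_apply, MulAut.conj_apply, hC c hc, ha c hc, mul_inv_cancel_right]
      · rw [MulAut.mul_apply, MulAut.conj_apply, han]
    exact eq_inv_of_mul_eq_one_right h1
  rcases hw4 with h | h | h | h
  · -- `w = 1`
    left
    have h1 := hfin 1 (fun x _ => by rw [one_mul, mul_one]) (by rw [hn, h]; group)
    rw [h1, map_one, inv_one]
  · -- `w = z`, `a = z v₀`
    exfalso
    refine key (z * v 0) (fun x h1 h2 => ?_) ?_ ?_
    · rw [mul_assoc, ← h2, ← mul_assoc, ← h1, mul_assoc]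
    · rw [hn, h, mul_inv_eq_iff_eq_mul, hnz, hnzv, ← mul_assoc, mul_assoc z, H.vv, mul_one]
    · calc (z * v 0) * v 1 * (z * (v 0 : K))⁻¹ = z * (v 0 * v 1 * (v 0 : K)⁻¹) * z⁻¹ := by group
        _ = z * (z * v 1) * z⁻¹ := by rw [hv1]
        _ = z * (v 1 * z) * z⁻¹ := by rw [v_comm_z]
        _ = _ := by group
  · -- `w = v₀`, `a = z`
    right
    have h1 := hfin z (fun x h1 => h1.symm) (by
      rw [hn, h, mul_inv_eq_iff_eq_mul, hnv, hnz, ← mul_assoc, ← mul_assoc, H.zz, one_mul])
    rw [h1, ← map_inv, hz']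
  · -- `w = z v₀`, `a = v₀`
    exfalso
    refine key (v 0) (fun x h1 h2 => h2.symm) ?_ hv1
    rw [hn, h, mul_inv_eq_iff_eq_mul, hnzv, hnv, ← mul_assoc, hc0]

/-- the signed permutation of an automorphism of `K` fixing `z` -/
theorem HypK.exists_sp (H : HypK z Q v ρ n) {τ : MulAut K} (hz : τ z = z) :
    ∃ g : SP, (∀ i, res τ hz (v i) = zp (zc z) (g.s i) * v (g.σ i)) ∧
      ∑ i, g.s i + (if Equiv.Perm.sign g.σ = 1 then 0 else 1) = 0 :=
  ModelAut.exists_sp H.model (res τ hz) (res_zc τ hz)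

/-- **(C)** an automorphism fixing `z` with an even signed permutation is inner -/
theorem HypK.inner_of_even (H : HypK z Q v ρ n) {τ : MulAut K} (hz : τ z = z) {g : SP}
    (hg : ∀ i, res τ hz (v i) = zp (zc z) (g.s i) * v (g.σ i))
    (hs : ∑ i, g.s i + (if Equiv.Perm.sign g.σ = 1 then 0 else 1) = 0)
    (h1 : Equiv.Perm.sign g.σ = 1) : ∃ k : K, k * z = z * k ∧ τ = MulAut.conj k := by
  rw [if_pos h1, add_zero] at hs
  obtain ⟨c0, hc0⟩ := (H.model.range g).2 ⟨h1, hs⟩
  have h2 := inner_C H.model (res_zc τ hz) hg hc0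
  have h3 : ∀ c : K, c * z = z * c → ((MulAut.conj (c0 : K))⁻¹ * τ) c = c := by
    intro c hc
    have h4 := congrArg Subtype.val (h2 ⟨c, mem_centralizer_singleton_iff.2 hc⟩)
    have h5 : τ c = c0 * c * (c0 : K)⁻¹ := h4
    rw [MulAut.mul_apply, MulAut.conj_inv_apply, h5]; group
  have hc0z : (c0 : K) * z = z * c0 := mem_centralizer_singleton_iff.1 c0.2
  rcases H.eq_of_fix h3 with h4 | h4
  · refine ⟨c0, hc0z, ?_⟩
    rw [inv_mul_eq_one] at h4
    exact h4.symm
  · refine ⟨c0 * z, by rw [← mul_assoc z, ← hc0z], ?_⟩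
    rw [map_mul, ← h4, mul_inv_cancel_left]

/-- a central element of `K` is trivial -/
theorem HypK.center (H : HypK z Q v ρ n) {c : K} (hc : ∀ x : K, c * x = x * c) : c = 1 := by
  have h1 : ∃ c' : centralizer ({z} : Set K), (c' : K) = c :=
    ⟨⟨c, mem_centralizer_singleton_iff.2 (hc z)⟩, rfl⟩
  obtain ⟨c', hc'⟩ := h1
  have h2 : ρ c' = 1 := by
    have h3 : ∀ i, (ρ c').s i = 0 ∧ (ρ c').σ i = i := by
      intro i
      apply H.model.v_inj
      rw [← H.model.conj, zp_zero, one_mul]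
      apply Subtype.ext
      change (c' : K) * v i * (c' : K)⁻¹ = v i
      rw [hc', hc, mul_inv_cancel_right]
    apply SP.ext
    · apply Equiv.ext; intro i; exact (h3 i).2
    · funext i; exact (h3 i).1
  rcases (H.model.ker c').1 h2 with h3 | h3
  · rw [← hc', h3]; rfl
  · exfalso
    apply H.v_ne_z 0
    rw [← H.nz]
    have h4 : c = z := by rw [← hc', h3]
    rw [← h4, ← hc, mul_inv_cancel_right]

/-- **(D)** an automorphism of order at most two fixing `z` fixes an involution of `C(z)` different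
from `z` -/
theorem HypK.two_fix (H : HypK z Q v ρ n) {u : centralizer ({z} : Set K)} (hu : u * u = 1)
    (huQ : u ∉ Q) {τ : MulAut K} (ht : τ * τ = 1) (hz : τ z = z) :
    ∃ b : K, b ≠ z ∧ b ≠ 1 ∧ b * b = 1 ∧ b * z = z * b ∧ τ b = b := by
  obtain ⟨g, hg, hgs⟩ := H.exists_sp hz
  have M := H.model
  by_cases h1 : Equiv.Perm.sign g.σ = 1
  · -- `τ` is inner
    obtain ⟨k, hkz, rfl⟩ := H.inner_of_even hz hg hgs h1
    have hkk : k * k = 1 := by
      apply H.center
      intro x
      have h2 := DFunLike.congr_fun ht x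
      rw [MulAut.mul_apply, MulAut.conj_apply, MulAut.conj_apply] at h2
      have h3 : k * (k * x * k⁻¹) * k⁻¹ = (k * k) * x * (k * k)⁻¹ := by group
      rw [h3] at h2
      exact mul_inv_eq_iff_eq_mul.1 h2
    by_cases hk1 : k = 1 ∨ k = z
    · refine ⟨v 0, H.v_ne_z 0, H.v_ne_one 0, H.vv 0, v_comm_z 0, ?_⟩
      rw [MulAut.conj_apply]
      rcases hk1 with rfl | rfl
      · group
      · rw [← v_comm_z, mul_inv_cancel_right]
    · rw [not_or] at hk1
      refine ⟨k, hk1.2, hk1.1, hkk, hkz, ?_⟩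
      rw [MulAut.conj_apply, mul_inv_cancel_right]
  · -- odd
    have hsq : ∀ i, g.s i + g.s (g.σ i) = 0 ∧ g.σ (g.σ i) = i := by
      intro i
      apply M.v_inj
      have h2 : res τ hz (res τ hz (v i)) = v i := by
        apply Subtype.ext
        change τ (τ (v i : K)) = v i
        rw [← MulAut.mul_apply, ht]; rfl
      rw [hg, map_mul, tau_zp (res_zc τ hz), hg, ← mul_assoc, ← zp_add (zc z) M.z_sq] at h2
      rw [h2, zp_zero, one_mul]
    have hsign : Equiv.Perm.sign g.σ = -1 := by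
      rcases Int.units_eq_one_or (Equiv.Perm.sign g.σ) with h | h
      · exact absurd h h1
      · exact h
    obtain ⟨i, σ', hσ', hσσ, hσ1, hi, hi', hcomm, hal⟩ := perm_two g.σ hsign
      (Equiv.ext fun i => (hsq i).2)
    by_cases hfix : ∃ j, g.σ j = j ∧ g.s j = 0
    · obtain ⟨j, hj, hj0⟩ := hfix
      refine ⟨v j, H.v_ne_z j, H.v_ne_one j, H.vv j, v_comm_z j, ?_⟩
      have h2 := congrArg Subtype.val (hg j)
      rw [hj, hj0, zp_zero, one_mul] at h2
      exact h2
    · push Not at hfix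
      have hfix1 : ∀ j, g.σ j = j → g.s j = 1 := by
        intro j hj
        rcases zmod2_cases (g.s j) with h | h
        · exact absurd h (hfix j hj)
        · exact h
      obtain ⟨u', hu'⟩ := (M.range ⟨σ', fun _ => 0⟩).2 ⟨hσ', by simp⟩
      have hu'' : (ρ u').σ = σ' := by rw [hu']
      have hus : ∀ j, (ρ u').s j = 0 := by intro j; rw [hu']
      have huu : u' * u' = 1 := by
        refine sq_of_rho_sq M hu huQ ?_ (by rw [hu'']; exact hσ1)
        rw [hu']
        apply SP.ext
        · exact hσσ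
        · funext j; rw [mul_s, one_s]; exact add_zero 0
      have hvi : u' * v i * u'⁻¹ = v i := by
        rw [M.conj, hus, hu'', hi', zp_zero, one_mul]
      -- `τ u' ≡ u'` modulo `z`
      have hρ : ρ (res τ hz u') = ρ u' := by
        have h2 := rho_tau M (res_zc τ hz) hg u'
        have h3 : g * ρ u' = ρ u' * g := by
          rw [hu']
          apply SP.ext
          · exact hcomm
          · funext a
            rw [mul_s, mul_s]
            change (0 : ZMod 2) + g.s (σ' a) = g.s a + 0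
            rw [zero_add, add_zero]
            rcases hal a with ha | ha
            · rw [hfix1 a ha]
              apply hfix1
              have h4 := congrArg (fun p : Equiv.Perm (Fin 5) => p a) hcomm
              change g.σ (σ' a) = σ' (g.σ a) at h4
              rw [h4, ha]
            · rw [← ha]
              have h4 := (hsq a).1
              have h5 : ∀ a b : ZMod 2, a + b = 0 → b = a := by decide
              exact h5 _ _ h4
        rw [h3] at h2
        exact mul_right_cancel h2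
      obtain ⟨a, ha⟩ := eq_of_rho_eq M hρ
      have hne : ∀ x : centralizer ({z} : Set K), ρ x = ρ u' ∨ ρ x = ρ (u' * v i) → (x : K) ≠ z ∧
          (x : K) ≠ 1 := by
        intro x hx
        have h2 : (ρ x).σ ≠ 1 := by
          rcases hx with hx | hx
          · rw [hx, hu'']; exact hσ1
          · rw [hx, map_mul, mul_σ, hu'', rho_v M]
            change σ' * 1 ≠ 1
            rw [mul_one]; exact hσ1
        constructor
        · intro h
          apply h2
          have h3 : x = zc z := Subtype.ext h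
          rw [h3, rho_z M]; rfl
        · intro h
          apply h2
          have h3 : x = 1 := Subtype.ext h
          rw [h3, map_one]; rfl
      have hcz : ∀ x : centralizer ({z} : Set K), (x : K) * z = z * x := fun x =>
        mem_centralizer_singleton_iff.1 x.2
      rcases zmod2_cases a with rfl | rfl
      · refine ⟨u', (hne u' (Or.inl rfl)).1, (hne u' (Or.inl rfl)).2, congrArg Subtype.val huu,
          hcz u', ?_⟩
        rw [zp_zero, one_mul] at ha
        exact congrArg Subtype.val ha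
      · refine ⟨(u' * v i : centralizer ({z} : Set K)), (hne _ (Or.inr rfl)).1,
          (hne _ (Or.inr rfl)).2, ?_, hcz _, ?_⟩
        · have h2 : (u' * v i) * (u' * v i) = 1 := by
            calc (u' * v i) * (u' * v i) = (u' * v i * u'⁻¹) * (u' * u') * v i := by group
              _ = 1 := by rw [hvi, huu, mul_one, M.v_sq]
          exact congrArg Subtype.val h2
        · have h2 : res τ hz (u' * v i) = u' * v i := by
            rw [map_mul, ha, hg, hi, hfix1 i hi, zp_mul_mul M]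
            rw [show (1 : ZMod 2) + 1 = 0 from rfl, zp_zero, one_mul]
          exact congrArg Subtype.val h2

end K

end Cfsg.Agent.UGT.End.ModelAut
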