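import Mathlib
import Cfsg.Agent.UGT.End
import Cfsg.Agent.UGT.LB.Crit
import Cfsg.Agent.UGT.TwoFix.Base
import Cfsg.Agent.UGT.End.ModelAut

set_option autoImplicit false

/-!
# END for groups with one class of involutions and centraliser `2^{1+4}_-.A₅`

* `act f : G →* MulAut K` for `f : K ≃* N`, `N ⊴ G`;
* `Good.conj`, `Rigid.conj`;
* `pieces_of_LB` : `LB X` gives back `EndInner X`, `EndOuter X`, `EndOdd X`;
* `HypK.lb` : `LB K` if `K` has one class of involutions and `TwoFix K`.
-/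

namespace Cfsg.Agent.UGT.End.ModelLB

open Cfsg.Agent.J2Type.Model Cfsg.Agent.J2Type.SPFacts Cfsg.Agent.J2Type.CStruct
open Cfsg.Agent.J3Type.OneClass Cfsg.Agent.UGT.LB.Crit Cfsg.Agent.UGT.End.ModelAut
open Subgroup

universe u

section act

variable {G : Type*} [Group G] {N : Subgroup G} [N.Normal] {K : Type*} [Group K]

/-- the conjugation action of `G` on the normal subgroup `N ≅ K` -/
def act (f : K ≃* ↥N) : G →* MulAut K :=
  (MulAut.congr f.symm).toMonoidHom.comp (MulAut.conjNormal (H := N))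

theorem act_apply (f : K ≃* ↥N) (g : G) (k : K) : (f (act f g k) : G) = g * f k * g⁻¹ := by
  have h : f (act f g k) = MulAut.conjNormal g (f k) := by
    change f (f.symm (MulAut.conjNormal g (f.symm.symm k))) = _
    rw [MulEquiv.apply_symm_apply]; rfl
  rw [h, MulAut.conjNormal_apply]

theorem act_fix_iff (f : K ≃* ↥N) (g : G) (k : K) : act f g k = k ↔ g * (f k : G) = f k * g := by
  constructor
  · intro h
    have h2 := act_apply f g k
    rw [h] at h2
    exact (mul_inv_eq_iff_eq_mul.1 h2.symm)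
  · intro h
    apply f.injective
    apply Subtype.ext
    rw [act_apply, h, mul_inv_cancel_right]

theorem act_eq_one (f : K ≃* ↥N) (hc : centralizer (N : Set G) = ⊥) {g : G} (h : act f g = 1) :
    g = 1 := by
  have h1 : g ∈ centralizer (N : Set G) := by
    rw [mem_centralizer_iff]
    intro y hy
    have h2 := (act_fix_iff f g (f.symm ⟨y, hy⟩)).1 (by rw [h]; rfl)
    rw [MulEquiv.apply_symm_apply] at h2
    exact h2.symm
  rwa [hc, mem_bot] at h1

end act

section crit

variable {G : Type*} [Group G] {N : Subgroup G} [hN : N.Normal] {z : G}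

theorem good_conj (h : Good N z) (g : G) : Good N (g * z * g⁻¹) := by
  obtain ⟨V, hV2, hVN, hVz, hVn, hVc⟩ := h.ex
  have hmem : ∀ x, x ∈ V.map (MulAut.conj g).toMonoidHom ↔ g⁻¹ * x * g ∈ V := by
    intro x
    constructor
    · rintro ⟨y, hy, rfl⟩
      change g⁻¹ * (g * y * g⁻¹) * g ∈ V
      have : g⁻¹ * (g * y * g⁻¹) * g = y := by group
      rwa [this]
    · intro hx
      refine ⟨_, hx, ?_⟩
      change g * (g⁻¹ * x * g) * g⁻¹ = x
      group
  have hcomm : ∀ x, x * (g * z * g⁻¹) = (g * z * g⁻¹) * x ↔ (g⁻¹ * x * g) * z = z * (g⁻¹ * x * g) := by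
    intro x
    have e1 : x * (g * z * g⁻¹) = g * ((g⁻¹ * x * g) * z) * g⁻¹ := by group
    have e2 : (g * z * g⁻¹) * x = g * (z * (g⁻¹ * x * g)) * g⁻¹ := by group
    rw [e1, e2]
    exact ⟨fun h => mul_left_cancel (mul_right_cancel h), fun h => by rw [h]⟩
  refine ⟨hN.conj_mem z h.mem g, ?_, ?_, V.map (MulAut.conj g).toMonoidHom, hV2.map _, ?_, ?_, ?_, ?_⟩
  · calc g * z * g⁻¹ * (g * z * g⁻¹) = g * (z * z) * g⁻¹ := by group
      _ = 1 := by rw [h.sq]; group
  · intro h1
    apply h.ne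
    have : z = g⁻¹ * (g * z * g⁻¹) * g := by group
    rw [this, h1]; group
  · rintro _ ⟨y, hy, rfl⟩
    exact hN.conj_mem y (hVN hy) g
  · intro x hx
    rw [hcomm]
    exact hVz _ ((hmem x).1 hx)
  · intro c hc x hx
    rw [hcomm] at hc
    rw [hmem] at hx ⊢
    have h1 := hVn _ hc _ hx
    have e : g⁻¹ * c * g * (g⁻¹ * x * g) * (g⁻¹ * c * g)⁻¹ = g⁻¹ * (c * x * c⁻¹) * g := by group
    rwa [e] at h1
  · intro c hcN hc hcV
    rw [hcomm] at hc
    rw [hmem]
    refine hVc _ ?_ hc ?_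
    · have := hN.conj_mem c hcN g⁻¹
      rwa [inv_inv] at this
    · intro x hx
      have h1 := hcV (g * x * g⁻¹) ⟨x, hx, rfl⟩
      have e1 : g⁻¹ * c * g * x = g⁻¹ * (c * (g * x * g⁻¹)) * g := by group
      have e2 : x * (g⁻¹ * c * g) = g⁻¹ * ((g * x * g⁻¹) * c) * g := by group
      rw [e1, e2, h1]

theorem rigid_conj (h : Rigid N z) (g : G) : Rigid N (g * z * g⁻¹) := by
  intro d hd hc
  have h1 : g⁻¹ * d * g = 1 := by
    apply h
    · have : g⁻¹ * d * g = MulAut.conj g⁻¹ d := by rw [MulAut.conj_apply, inv_inv]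
      rw [this, MulEquiv.orderOf_eq]
      exact hd
    · intro c hcN hcz
      have h2 := hc (g * c * g⁻¹) (hN.conj_mem c hcN g) (by
        calc g * c * g⁻¹ * (g * z * g⁻¹) = g * (c * z) * g⁻¹ := by group
          _ = g * (z * c) * g⁻¹ := by rw [hcz]
          _ = _ := by group)
      calc g⁻¹ * d * g * c = g⁻¹ * (d * (g * c * g⁻¹)) * g := by group
        _ = g⁻¹ * (g * c * g⁻¹ * d) * g := by rw [h2]
        _ = _ := by group
  calc d = g * (g⁻¹ * d * g) * g⁻¹ := by group
    _ = 1 := by rw [h1]; group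

end crit

section pieces

theorem LB.inner {X : Type u} [Group X] [Finite X] (hX : ∀ c : X, (∀ x, c * x = x * c) → c = 1)
    (h : LB X) : EndInner X := by
  intro t ht
  refine h X ⊤ inferInstance ⟨Subgroup.topEquiv.symm⟩ ?_ t ht
  rw [eq_bot_iff]
  intro c hc
  rw [mem_bot]
  apply hX
  intro x
  exact (mem_centralizer_iff.1 hc x (mem_top x)).symm

theorem LB.outer {X : Type u} [Group X] (h : LB X) : EndOuter X :=
  fun G _ _ N hN hX hc _ x _ hx => h G N hN hX hc x hx

theorem LB.odd {X : Type u} [Group X] (h : LB X) : EndOdd X := by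
  intro G _ _ N hN hX hc x hx D hD1 hD2 hD3 _ _
  have h1 := h G N hN hX hc x hx
  rw [eq_bot_iff, ← h1]
  unfold centralizerPPrimeCore
  intro d hd
  refine ⟨⟨d, hD1 hd⟩, ?_, rfl⟩
  have h2 : (D.subgroupOf (centralizer ({x} : Set G))).Normal := by
    constructor
    intro a ha g
    rw [mem_subgroupOf] at ha ⊢
    exact (mem_normalizer_iff.1 (hD2 g.2) a).1 ha
  refine Cfsg.Agent.Lib.Cores.le_pPrimeCore h2 ?_ (show (⟨d, hD1 hd⟩ : centralizer ({x} : Set G)) ∈
    D.subgroupOf (centralizer ({x} : Set G)) from hd)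
  rw [Nat.coprime_two_right]
  rw [Nat.card_congr (subgroupOfEquivOfLe hD1).toEquiv]
  exact hD3

end pieces

section K

variable {K : Type*} [Group K] {z : K} {Q : Subgroup (centralizer ({z} : Set K))}
  {v : Fin 5 → centralizer ({z} : Set K)} {ρ : centralizer ({z} : Set K) →* SP} {n : K}

theorem good (H : HypK z Q v ρ n) {G : Type*} [Group G] {N : Subgroup G} [hN : N.Normal]
    (f : K ≃* ↥N) : Good N (f z : G) := by
  have M := H.model
  obtain ⟨F, hF⟩ : ∃ F : K →* G, ∀ k, F k = f k := ⟨N.subtype.comp f.toMonoidHom, fun _ => rfl⟩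
  obtain ⟨F', hF'⟩ : ∃ F' : centralizer ({z} : Set K) →* G, ∀ k, F' k = f (k : K) :=
    ⟨F.comp (Subgroup.subtype _), fun k => hF _⟩
  have hinj : ∀ a b : K, (f a : G) = f b → a = b := fun a b h => f.injective (Subtype.ext h)
  refine ⟨(f z).2, ?_, ?_, Q.map F', ?_, ?_, ?_, ?_, ?_⟩
  · have := congrArg (fun x => (f x : G)) H.zz
    simpa using this
  · intro h
    apply H.z_ne
    apply hinj
    rw [h, map_one]; rfl
  · have hQ2 : IsPGroup 2 Q := by
      intro q
      exact ⟨2, Subtype.ext (pow_four M q.2)⟩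
    exact hQ2.map _
  · rintro _ ⟨q, hq, rfl⟩
    rw [hF']; exact (f _).2
  · rintro _ ⟨q, hq, rfl⟩
    have := congrArg (fun x => (f x : G)) (mem_centralizer_singleton_iff.1 q.2)
    rw [hF']
    simpa using this
  · rintro g hg _ ⟨q, hq, rfl⟩
    have hz : act f g z = z := (act_fix_iff f g z).2 hg
    refine ⟨res (act f g) hz q, map_Q M _ q hq, ?_⟩
    rw [hF', hF', res_coe, act_apply]
  · intro c hcN hcz hcV
    obtain ⟨k, hk⟩ : ∃ k : K, (f k : G) = c := ⟨f.symm ⟨c, hcN⟩, by rw [MulEquiv.apply_symm_apply]⟩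
    have hkz : k * z = z * k := by
      apply hinj
      rw [map_mul, map_mul]
      change (f k : G) * f z = f z * f k
      rw [hk]; exact hcz
    obtain ⟨k', hk'⟩ : ∃ k' : centralizer ({z} : Set K), (k' : K) = k :=
      ⟨⟨k, mem_centralizer_singleton_iff.2 hkz⟩, rfl⟩
    have hv : ∀ i, k' * v i = v i * k' := by
      intro i
      apply Subtype.ext
      apply hinj
      change (f ((k' : K) * v i) : G) = f ((v i : K) * k')
      rw [map_mul, map_mul]
      change (f (k' : K) : G) * f (v i : K) = f (v i : K) * f (k' : K)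
      rw [hk', hk]
      have := hcV _ ⟨v i, M.v_mem i, rfl⟩
      rwa [hF'] at this
    have h2 : ρ k' = 1 := by
      have h3 : ∀ i, (ρ k').s i = 0 ∧ (ρ k').σ i = i := by
        intro i
        apply M.v_inj
        rw [← M.conj, zp_zero, one_mul, hv, mul_inv_cancel_right]
      apply SP.ext
      · apply Equiv.ext; intro i; exact (h3 i).2
      · funext i; exact (h3 i).1
    refine ⟨k', ?_, ?_⟩
    · change k' ∈ Q
      rw [M.mem_Q, h2]; rfl
    · rw [hF', hk', hk]

theorem rigid (H : HypK z Q v ρ n) {G : Type*} [Group G] [Finite G] {N : Subgroup G}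
    [hN : N.Normal] (f : K ≃* ↥N) (hc : centralizer (N : Set G) = ⊥) : Rigid N (f z : G) := by
  intro d hd h
  have h1 : ∀ c : K, c * z = z * c → act f d c = c := by
    intro c hcz
    rw [act_fix_iff]
    refine h (f c) (f c).2 ?_
    have := congrArg (fun x => (f x : G)) hcz
    simpa using this
  have h2 : act f (d * d) = 1 := by
    rw [map_mul]
    rcases H.eq_of_fix h1 with h3 | h3
    · rw [h3, one_mul]
    · rw [h3, ← map_mul, H.zz, map_one]
  have h3 := act_eq_one f hc h2
  have h4 : orderOf d ∣ 2 := orderOf_dvd_of_pow_eq_one (by rw [pow_two, h3])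
  have h5 : orderOf d = 1 := by
    rcases (Nat.dvd_prime Nat.prime_two).1 h4 with h6 | h6
    · exact h6
    · rw [h6] at hd; exact absurd hd (by decide)
  exact orderOf_eq_one_iff.1 h5

end K

/-- **END** for groups with one class of involutions, involution centraliser `2^{1+4}_-.A₅` and
`TwoFix`. -/
theorem lb {K : Type u} [Group K] {z : K} {Q : Subgroup (centralizer ({z} : Set K))}
    {v : Fin 5 → centralizer ({z} : Set K)} {ρ : centralizer ({z} : Set K) →* SP} {n : K}
    (H : HypK z Q v ρ n) (one : ∀ t : K, t ≠ 1 → t * t = 1 → ∃ g : K, g * z * g⁻¹ = t)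
    (tf : TwoFix K) : LB K := by
  intro G _ _ N hN ⟨f⟩ hc x hx
  have hxx : x * x = 1 := by rw [← pow_two, ← hx, pow_orderOf_eq_one]
  obtain ⟨a, b, hab, ha, hb, hcomm, hta, htb⟩ := tf (act f x) (by rw [← map_mul, hxx, map_one])
  have sq : ∀ t : K, orderOf t = 2 → t * t = 1 := by
    intro t ht
    rw [← pow_two, ← ht, pow_orderOf_eq_one]
  have hne : ∀ t : K, orderOf t = 2 → t ≠ 1 := by
    intro t ht h
    rw [h, orderOf_one] at ht
    exact absurd ht (by norm_num)
  have main : ∀ t : K, t ≠ 1 → t * t = 1 → Good N (f t : G) ∧ Rigid N (f t : G) := by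
    intro t h1 h2
    obtain ⟨g, rfl⟩ := one t h1 h2
    have e : (f (g * z * g⁻¹) : G) = f g * f z * (f g : G)⁻¹ := by
      rw [map_mul, map_mul, map_inv]; rfl
    rw [e]
    exact ⟨good_conj (good H f) _, rigid_conj (rigid H f hc) _⟩
  have hab1 : a * b ≠ 1 := by
    intro h
    apply hab
    rw [mul_eq_one_iff_eq_inv] at h
    rw [h]; exact inv_eq_of_mul_eq_one_left (sq b hb)
  have hab2 : (a * b) * (a * b) = 1 := by
    calc (a * b) * (a * b) = a * (b * a) * b := by group
      _ = (a * a) * (b * b) := by rw [← hcomm]; group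
      _ = 1 := by rw [sq a ha, sq b hb, one_mul]
  have m1 := main a (hne a ha) (sq a ha)
  have m2 := main b (hne b hb) (sq b hb)
  have m3 := main (a * b) hab1 hab2
  have e : (f (a * b) : G) = f a * f b := by rw [map_mul]; rfl
  rw [e] at m3
  refine centralizer_core_eq_bot (N := N) (x := x) (z := (f a : G)) (w := (f b : G))
    ⟨m1.1, m2.1, m3.1, ?_, ?_, ?_⟩ m1.2 m2.2 m3.2 hxx
  · rw [← e, hcomm, map_mul]; rfl
  · exact (act_fix_iff f x a).1 hta
  · exact (act_fix_iff f x b).1 htb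

/-- an automorphism of order at most two mapping `z` to a conjugate fixes a conjugate of `z` if the
number of conjugates is odd -/
theorem exists_fixed_conj {K : Type*} [Group K] [Finite K] (z : K)
    (hodd : ¬ 2 ∣ Nat.card K / Nat.card (centralizer ({z} : Set K))) (τ : MulAut K)
    (hτ : τ * τ = 1) (hcl : ∃ g, g * z * g⁻¹ = τ z) : ∃ g, τ (g * z * g⁻¹) = g * z * g⁻¹ := by
  classical
  obtain ⟨g0, hg0⟩ := hcl
  have hcard := card_conj z
  have h2 : Nat.card {k : K // k * z = z * k} = Nat.card (centralizer ({z} : Set K)) := by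
    apply Nat.card_congr
    refine Equiv.subtypeEquivRight ?_
    intro k
    exact (mem_centralizer_singleton_iff).symm
  rw [h2] at hcard
  have hpos : 0 < Nat.card (centralizer ({z} : Set K)) := Nat.card_pos
  have h3 : Nat.card {y : K // ∃ k : K, k * z * k⁻¹ = y} =
      Nat.card K / Nat.card (centralizer ({z} : Set K)) := by
    rw [← hcard, Nat.mul_div_cancel _ hpos]
  rw [← h3] at hodd
  have hττ : ∀ x, τ (τ x) = x := by
    intro x
    rw [← MulAut.mul_apply, hτ]; rfl
  let S := {y : K // ∃ k : K, k * z * k⁻¹ = y}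
  let σ : Equiv.Perm S := Function.Involutive.toPerm
    (fun y => ⟨τ y, by
      obtain ⟨k, hk⟩ := y.2
      refine ⟨τ k * g0, ?_⟩
      rw [← hk, map_mul, map_mul, map_inv, ← hg0]; group⟩)
    (fun y => Subtype.ext (hττ _))
  have : Fintype S := Fintype.ofFinite _
  have : Fact (Nat.Prime 2) := ⟨Nat.prime_two⟩
  obtain ⟨y, hy⟩ := Equiv.Perm.exists_fixed_point_of_prime (p := 2) (n := 1)
    (by rwa [Nat.card_eq_fintype_card] at hodd) (σ := σ) (by
      rw [pow_one, pow_two]
      ext y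
      change τ (τ (y : K)) = y
      exact hττ _)
  obtain ⟨k, hk⟩ := y.2
  refine ⟨k, ?_⟩
  rw [hk]
  exact congrArg Subtype.val hy

/-- `TwoFix` from fixing a conjugate of `z` -/
theorem twoFix {K : Type*} [Group K] {z : K} {Q : Subgroup (centralizer ({z} : Set K))}
    {v : Fin 5 → centralizer ({z} : Set K)} {ρ : centralizer ({z} : Set K) →* SP} {n : K}
    (H : HypK z Q v ρ n) {u : centralizer ({z} : Set K)} (hu : u * u = 1) (huQ : u ∉ Q)
    (h : ∀ τ : MulAut K, τ * τ = 1 → ∃ g, τ (g * z * g⁻¹) = g * z * g⁻¹) : TwoFix K := by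
  intro t ht
  obtain ⟨g, hg⟩ := h t ht
  obtain ⟨t', ht'⟩ : ∃ t', t' = (MulAut.conj g)⁻¹ * t * MulAut.conj g := ⟨_, rfl⟩
  have h1 : t' * t' = 1 := by
    rw [ht']
    calc (MulAut.conj g)⁻¹ * t * MulAut.conj g * ((MulAut.conj g)⁻¹ * t * MulAut.conj g) =
        (MulAut.conj g)⁻¹ * (t * t) * MulAut.conj g := by group
      _ = 1 := by rw [ht]; group
  have hap : ∀ b, t' b = b → t (g * b * g⁻¹) = g * b * g⁻¹ := by
    intro b hb
    rw [ht', MulAut.mul_apply, MulAut.mul_apply, MulAut.conj_apply, MulAut.conj_inv_apply] at hb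
    have h2 : t (g * b * g⁻¹) = g * (g⁻¹ * t (g * b * g⁻¹) * g) * g⁻¹ := by group
    rw [h2, hb]
  have h2 : t' z = z := by
    rw [ht', MulAut.mul_apply, MulAut.mul_apply, MulAut.conj_apply, MulAut.conj_inv_apply, hg]
    group
  obtain ⟨b, hbz, hb1, hbb, hcomm, hfix⟩ := H.two_fix hu huQ h1 h2
  have hord : ∀ x : K, x ≠ 1 → x * x = 1 → orderOf (g * x * g⁻¹) = 2 := by
    intro x hx1 hxx
    have : g * x * g⁻¹ = MulAut.conj g x := rfl
    rw [this, MulEquiv.orderOf_eq]
    exact orderOf_eq_prime (by rw [pow_two, hxx]) hx1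
  refine ⟨g * z * g⁻¹, g * b * g⁻¹, ?_, hord z H.z_ne H.zz, hord b hb1 hbb, ?_, hap z h2,
    hap b hfix⟩
  · intro h3
    apply hbz
    exact (mul_left_cancel (mul_right_cancel h3)).symm
  · calc g * z * g⁻¹ * (g * b * g⁻¹) = g * (z * b) * g⁻¹ := by group
      _ = g * (b * z) * g⁻¹ := by rw [hcomm]
      _ = _ := by group

end Cfsg.Agent.UGT.End.ModelLB
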