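import Mathlib
import Cfsg.Agent.KFacts.J3
import Cfsg.Agent.UGT.End.ModelLB

set_option autoImplicit false

/-!
# END(J₃)

`TwoFix`, `EndInner`, `EndOuter`, `EndOdd` and `LB` for `J₃`.
-/

namespace Cfsg.Agent.UGT.End.J3

open Cfsg.Agent.UGT.End.ModelAut Cfsg.Agent.UGT.End.ModelLB Cfsg.Agent.KFacts.J3
open Subgroup

universe u

theorem hypK {K : Type*} [Group K] {z : K} {Q : Subgroup (centralizer ({z} : Set K))}
    {v : Fin 5 → centralizer ({z} : Set K)}
    {ρ : centralizer ({z} : Set K) →* Cfsg.Agent.J2Type.Model.SP} {n : K}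
    {u : centralizer ({z} : Set K)} (F : Facts z Q v ρ n u) : HypK z Q v ρ n :=
  ⟨F.model, F.nz, F.nv, F.gen⟩

theorem twoFix {K : Type*} [Group K] (h : Spor.IsoJ3 K) : TwoFix K := by
  obtain ⟨-, z, Q, v, ρ, n, u, F⟩ := exists_facts h
  have H := hypK F
  have : Finite K := Nat.finite_of_card_ne_zero (by rw [F.card_K]; norm_num)
  refine ModelLB.twoFix H F.u_sq F.u_not ?_
  intro τ hτ
  refine exists_fixed_conj z ?_ τ hτ ?_
  · rw [F.card_K, F.card_C]; norm_num
  · apply F.one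
    · intro h1
      apply H.z_ne
      apply τ.injective
      rw [h1, map_one]
    · rw [← map_mul, H.zz, map_one]

/-- **END(J₃)** -/
theorem lb {X : Type u} [Group X] (h : Spor.IsoJ3 X) : LB X := by
  obtain ⟨-, z, Q, v, ρ, n, u, F⟩ := exists_facts h
  exact ModelLB.lb (hypK F) F.one (twoFix h)

theorem endInner {X : Type u} [Group X] [Finite X] (h : Spor.IsoJ3 X) : EndInner X := by
  obtain ⟨-, z, Q, v, ρ, n, u, F⟩ := exists_facts h
  exact ModelLB.LB.inner (fun c hc => (hypK F).center hc) (lb h)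

theorem endOuter {X : Type u} [Group X] (h : Spor.IsoJ3 X) : EndOuter X :=
  ModelLB.LB.outer (lb h)

theorem endOdd {X : Type u} [Group X] (h : Spor.IsoJ3 X) : EndOdd X :=
  ModelLB.LB.odd (lb h)

end Cfsg.Agent.UGT.End.J3
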