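import Cfsg.Agent.UGT.End.Five
import Cfsg.Agent.UGT.End
import Cfsg.Agent.KFacts.J2.Basic

/-!
# The end of the Unbalanced Group Theorem for the Hall–Janko group

Every involution of a group `G` with `F*(G) = J₂` has a core-free centraliser.
-/

set_option autoImplicit false

namespace Cfsg.Agent.UGT.End.JTwo

open Subgroup Cfsg.Agent.J2Type.Model Cfsg.Agent.KFacts.J2.Basic

/-- The facts of `Five.lean` for a group of Hall–Janko type. -/
theorem hyp {X : Type*} [Group X] [Finite X] {t u : X} {Q : Subgroup (centralizer ({t} : Set X))}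
    {v : Fin 5 → centralizer ({t} : Set X)} {ρ : centralizer ({t} : Set X) →* SP} (D : Dat t u Q v ρ) :
    Five.Hyp t Q v ρ where
  M := D.M
  cj := D.isConj_zv
  aut := D.isConj_aut
  odd := by rw [D.index]; decide
  act := D.exists_act
  inner := fun α hα σ s h hσ => D.inner_of_even α hα σ s h hσ
  three := D.exists_n

/-- **The locally balanced end for `J₂`**: inner and outer involutions. -/
theorem lb {X : Type*} [Group X] (h : Spor.IsoJ2 X) : LB X := by
  intro G _ _ N hN hX hc x hx
  obtain ⟨f⟩ := h
  obtain ⟨g⟩ := hX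
  have hfin : Finite Cfsg.Spor.J2 := Finite.of_equiv _ (g.symm.trans f).toEquiv
  obtain ⟨t, u, Q, v, ρ, D⟩ := exists_dat
  exact Five.core_eq_bot (Five.Hyp.map (f.symm.trans g) (hyp D)) hc (by rw [← pow_two, ← hx, pow_orderOf_eq_one])

end Cfsg.Agent.UGT.End.JTwo
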