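import Mathlib
import Cfsg.Prelude.Def_Local
import Cfsg.Agent.Lib.Cores
import Cfsg.Agent.Lib.ThompsonPQ
import Cfsg.Agent.S0058

/-!
# UGT, END nodes: a `K`-free criterion for `O(C_G(t)) = 1` (helper818)

`t` an involution, `R` a subgroup of odd order of `C(t)` normalised by `C_H(t)`.

* `comm_of_norm`: if `X ≤ R` normalises a `t`-invariant 2-subgroup `F ≤ H`, then `X` centralises `F`
  (`[X, C_F(t)] ≤ F ∩ R = 1`, Thompson's `A × B` lemma).
* `eq_bot_of_family`: `V ≤ C_H(t)` elementary abelian of order at least 4; if for every `v ∈ V - 1` there is a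
  `t`-invariant 2-subgroup `F ≤ H` normalised by `C_R(v)` such that no element `≠ 1` of `C_R(v)` centralises
  `F`, then `R = 1`.
* `eq_bot_of_elem`: `E ≤ H` elementary abelian, `t`-invariant, `|C_E(t)| ≥ 4`, `C_R(v)` normalises `E` for
  `v ∈ C_E(t) - 1`, `C_R(E) = 1`; then `R = 1`.
* `core_eq_bot_of_family`, `core_eq_bot_of_elem`: the same for `R = O(C_G(t))`.
-/

set_option autoImplicit false

open Cfsg Subgroup

namespace Cfsg.Agent.UGT.End.CoreE

variable {G : Type*} [Group G]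

theorem mem_normalizer_of {U : Subgroup G} {x : G} (h1 : ∀ u ∈ U, x * u * x⁻¹ ∈ U)
    (h2 : ∀ u ∈ U, x⁻¹ * u * x ∈ U) : x ∈ normalizer (U : Set G) := by
  rw [mem_normalizer_iff]
  intro y
  refine ⟨h1 y, fun h3 => ?_⟩
  have h4 := h2 _ h3
  have e : x⁻¹ * (x * y * x⁻¹) * x = y := by group
  rwa [e] at h4

theorem isPGroup_zpowers {t : G} (tt : t * t = 1) : IsPGroup 2 (zpowers t) := by
  rintro ⟨a, ha⟩
  obtain ⟨i, rfl⟩ := mem_zpowers_iff.1 ha
  refine ⟨1, Subtype.ext ?_⟩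
  show (t ^ i) ^ (2 ^ 1) = 1
  rw [pow_one, pow_two, ← (Commute.refl t).mul_zpow, tt, one_zpow]

theorem isPGroup_of_elem {V : Subgroup G} (hV : IsElementaryAbelian 2 V) : IsPGroup 2 V := by
  intro x
  refine ⟨1, Subtype.ext ?_⟩
  rw [pow_one]
  exact hV.2 x x.2

theorem eq_one_of_mem_both {F R : Subgroup G} [Finite G] (hF : IsPGroup 2 F) (hR : Odd (Nat.card R)) {x : G}
    (hxF : x ∈ F) (hxR : x ∈ R) : x = 1 := by
  have h1 : Odd (orderOf x) := by
    have h1 : orderOf (⟨x, hxR⟩ : R) ∣ Nat.card R := orderOf_dvd_natCard _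
    rw [Subgroup.orderOf_mk] at h1
    exact Odd.of_dvd_nat hR h1
  obtain ⟨k, hk⟩ := hF ⟨x, hxF⟩
  have h2 : x ^ 2 ^ k = 1 := congrArg Subtype.val hk
  have h3 : orderOf x ∣ 2 ^ k := orderOf_dvd_of_pow_eq_one h2
  have h4 : orderOf x = 1 := by
    have h5 : Nat.Coprime (orderOf x) (2 ^ k) := Nat.Coprime.pow_right k (Nat.coprime_two_right.2 h1)
    exact Nat.eq_one_of_dvd_coprimes h5 dvd_rfl h3
  exact orderOf_eq_one_iff.1 h4

/-- `X ≤ R` normalises the `t`-invariant 2-group `F`: then `X` centralises `F`. -/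
theorem comm_of_norm [Finite G] {t : G} (htt : t * t = 1) {F R X : Subgroup G} (hF : IsPGroup 2 F)
    (htF : ∀ e ∈ F, t * e * t⁻¹ ∈ F) (hR : Odd (Nat.card R)) (hRt : ∀ r ∈ R, r * t = t * r)
    (hnR : ∀ v ∈ F, v * t = t * v → ∀ r ∈ R, v * r * v⁻¹ ∈ R) (hXR : X ≤ R)
    (hXF : ∀ x ∈ X, ∀ e ∈ F, x * e * x⁻¹ ∈ F) : ∀ x ∈ X, ∀ e ∈ F, x * e = e * x := by
  have ht' : t⁻¹ = t := inv_eq_of_mul_eq_one_right htt
  have htn : t ∈ normalizer (F : Set G) := by
    apply mem_normalizer_of htF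
    intro u hu
    have := htF u hu
    rwa [ht'] at this ⊢
  have hXn : X ≤ normalizer (F : Set G) := by
    intro x hx
    apply mem_normalizer_of (hXF x hx)
    intro u hu
    have := hXF x⁻¹ (inv_mem hx) u hu
    rwa [inv_inv] at this
  have hcard : (Nat.card X).Coprime 2 :=
    Nat.coprime_two_right.2 (Odd.of_dvd_nat hR (card_dvd_of_le hXR))
  have key := Cfsg.Agent.Lib.ThompsonPQ.thompson_p_times_q 2 (zpowers t) X F (isPGroup_zpowers htt)
    hcard hF
    (by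
      rw [zpowers_le, mem_centralizer_iff]
      intro y hy
      exact hRt y (hXR hy))
    (by rw [zpowers_le]; exact htn) hXn
    (by
      rintro y ⟨hy1, hy2⟩
      have h1 : y * t = t * y := (mem_centralizer_iff.1 hy2 t (mem_zpowers t)).symm
      rw [mem_centralizer_iff]
      intro x hx
      -- `[x, y] ∈ F ∩ R`
      have h2 : x * y * x⁻¹ * y⁻¹ ∈ F := F.mul_mem (hXF x hx y hy1) (F.inv_mem hy1)
      have h3 : x * y * x⁻¹ * y⁻¹ ∈ R := by
        have h4 := hnR y hy1 h1 x⁻¹ (R.inv_mem (hXR hx))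
        have e : x * y * x⁻¹ * y⁻¹ = x * (y * x⁻¹ * y⁻¹) := by group
        rw [e]
        exact R.mul_mem (hXR hx) h4
      have h4 := eq_one_of_mem_both hF hR h2 h3
      have h5 : x * y * x⁻¹ = y := by rw [mul_inv_eq_one] at h4; exact h4
      rw [mul_inv_eq_iff_eq_mul] at h5
      exact h5)
  intro x hx e he
  exact (mem_centralizer_iff.1 (key hx) e he).symm

/-- generation by the centralisers of the involutions of a four-group -/
theorem le_of_four [Finite G] {E D H : Subgroup G} (hE : IsElementaryAbelian 2 E)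
    (hE4 : 4 ≤ Nat.card E) (hED : E ≤ Subgroup.normalizer (D : Set G)) (hD : Odd (Nat.card D))
    (h : ∀ a ∈ E, a ≠ 1 → D ⊓ Subgroup.centralizer {a} ≤ H) : D ≤ H := by
  have := hE.1
  have hncyc : ¬ IsCyclic E := by
    intro hcyc
    obtain ⟨g, hg⟩ := IsCyclic.exists_generator (α := E)
    have h3 : orderOf g = Nat.card E := orderOf_eq_card_of_forall_mem_zpowers hg
    have h4 : g ^ 2 = 1 := by
      ext
      simpa using hE.2 g g.2
    have h5 : orderOf g ≤ 2 := orderOf_le_of_pow_eq_one (by norm_num) h4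
    omega
  have hcop : (Nat.card E).Coprime (Nat.card D) := by
    obtain ⟨n, hn⟩ := (IsPGroup.iff_card (p := 2)).1 (isPGroup_of_elem hE)
    rw [hn]
    exact Nat.Coprime.pow_left n (Nat.coprime_two_left.2 hD)
  rw [← S0058.result E D hncyc hED hcop]
  refine iSup₂_le ?_
  rintro a ⟨ha, ha1⟩
  exact h a ha ha1

/-- **Criterion, general form.** -/
theorem eq_bot_of_family [Finite G] {t : G} (htt : t * t = 1) {H V R : Subgroup G}
    (hV : IsElementaryAbelian 2 V) (h4 : 4 ≤ Nat.card V) (hVH : V ≤ H) (hVt : ∀ v ∈ V, v * t = t * v)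
    (hR : Odd (Nat.card R)) (hRt : ∀ r ∈ R, r * t = t * r)
    (hnR : ∀ c ∈ H, c * t = t * c → ∀ r ∈ R, c * r * c⁻¹ ∈ R)
    (h : ∀ v ∈ V, v ≠ 1 → ∃ F : Subgroup G, F ≤ H ∧ IsPGroup 2 F ∧ (∀ e ∈ F, t * e * t⁻¹ ∈ F) ∧
      (∀ r ∈ R, r * v = v * r → ∀ e ∈ F, r * e * r⁻¹ ∈ F) ∧
      (∀ r ∈ R, r * v = v * r → (∀ e ∈ F, r * e = e * r) → r = 1)) : R = ⊥ := by
  rw [eq_bot_iff]
  refine le_of_four hV h4 ?_ hR ?_
  · intro v hv
    apply mem_normalizer_of (hnR v (hVH hv) (hVt v hv))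
    intro u hu
    have := hnR v⁻¹ (H.inv_mem (hVH hv)) (hVt v⁻¹ (V.inv_mem hv)) u hu
    rwa [inv_inv] at this
  · intro v hv hv1 r hr
    obtain ⟨hr1, hr2⟩ := mem_inf.1 hr
    have hrv : r * v = v * r := mem_centralizer_singleton_iff.1 hr2
    obtain ⟨F, hFH, hF, htF, hn, hc⟩ := h v hv hv1
    rw [mem_bot]
    refine hc r hr1 hrv ?_
    have key := comm_of_norm htt (X := R ⊓ centralizer {v}) hF htF hR hRt
      (fun c hc1 hc2 => hnR c (hFH hc1) hc2) inf_le_left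
      (fun x hx e he => hn x (mem_inf.1 hx).1 (mem_centralizer_singleton_iff.1 (mem_inf.1 hx).2) e he)
    exact key r hr

/-- **Criterion for one elementary abelian `E`.** -/
theorem eq_bot_of_elem [Finite G] {t : G} (htt : t * t = 1) {H E R : Subgroup G}
    (hE : IsElementaryAbelian 2 E) (hEH : E ≤ H) (htE : ∀ e ∈ E, t * e * t⁻¹ ∈ E)
    (h4 : 4 ≤ Nat.card ↥(E ⊓ centralizer {t}))
    (hR : Odd (Nat.card R)) (hRt : ∀ r ∈ R, r * t = t * r)
    (hnR : ∀ c ∈ H, c * t = t * c → ∀ r ∈ R, c * r * c⁻¹ ∈ R)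
    (hv : ∀ v ∈ E, v ≠ 1 → v * t = t * v → ∀ r ∈ R, r * v = v * r → ∀ e ∈ E, r * e * r⁻¹ ∈ E)
    (hc : ∀ r ∈ R, (∀ e ∈ E, r * e = e * r) → r = 1) : R = ⊥ := by
  have hV : IsElementaryAbelian 2 (E ⊓ centralizer {t} : Subgroup G) := by
    refine ⟨?_, fun x hx => hE.2 x (mem_inf.1 hx).1⟩
    have := hE.1
    refine ⟨⟨fun a b => Subtype.ext ?_⟩⟩
    have h := congrArg (fun x : E => (x : G))
      (mul_comm' (⟨(a : G), (mem_inf.1 a.2).1⟩ : E) ⟨(b : G), (mem_inf.1 b.2).1⟩)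
    exact h
  refine eq_bot_of_family htt (V := E ⊓ centralizer {t}) hV h4 (inf_le_left.trans hEH)
    (fun v hv => mem_centralizer_singleton_iff.1 (mem_inf.1 hv).2) hR hRt hnR ?_
  intro v hv' hv1
  obtain ⟨hvE, hvt⟩ := mem_inf.1 hv'
  exact ⟨E, hEH, isPGroup_of_elem hE, htE,
    fun r hr hrv => hv v hvE hv1 (mem_centralizer_singleton_iff.1 hvt) r hr hrv,
    fun r hr _ hre => hc r hr hre⟩

/-- an involution has at least `√|E|` fixed points on an elementary abelian 2-group `E` -/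
theorem card_le_sq [Finite G] {t : G} (htt : t * t = 1) {E : Subgroup G} (hE : IsElementaryAbelian 2 E)
    (htE : ∀ e ∈ E, t * e * t⁻¹ ∈ E) : Nat.card E ≤ Nat.card ↥(E ⊓ centralizer {t}) ^ 2 := by
  have ht' : t⁻¹ = t := inv_eq_of_mul_eq_one_right htt
  have hcomm : ∀ a ∈ E, ∀ b ∈ E, a * b = b * a := by
    intro a ha b hb
    have := hE.1
    exact congrArg (fun x : E => (x : G)) (mul_comm' (⟨a, ha⟩ : E) ⟨b, hb⟩)
  let f : ↥E →* ↥E :=
    { toFun := fun e => ⟨e * (t * e * t⁻¹), E.mul_mem e.2 (htE e e.2)⟩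
      map_one' := Subtype.ext (by
        show (1 : G) * (t * 1 * t⁻¹) = 1
        group)
      map_mul' := fun a b => Subtype.ext (by
        show (a : G) * b * (t * (a * b) * t⁻¹) = a * (t * a * t⁻¹) * (b * (t * b * t⁻¹))
        calc (a : G) * b * (t * (a * b) * t⁻¹) = a * (b * (t * a * t⁻¹)) * (t * b * t⁻¹) := by group
          _ = a * ((t * a * t⁻¹) * b) * (t * b * t⁻¹) := by rw [hcomm b b.2 _ (htE a a.2)]
          _ = a * (t * a * t⁻¹) * (b * (t * b * t⁻¹)) := by group) }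
  have hf : ∀ e : ↥E, ((f e : ↥E) : G) = e * (t * e * t⁻¹) := fun e => rfl
  have h1 : Nat.card f.ker ≤ Nat.card ↥(E ⊓ centralizer {t}) := by
    refine Nat.card_le_card_of_injective (fun x : f.ker => (⟨((x : ↥E) : G), mem_inf.2 ⟨(x : ↥E).2, ?_⟩⟩ :
      ↥(E ⊓ centralizer {t}))) ?_
    · rw [mem_centralizer_singleton_iff]
      have h2 : ((f x : ↥E) : G) = 1 := congrArg Subtype.val (MonoidHom.mem_ker.1 x.2)
      rw [hf] at h2
      have h3 : ((x : ↥E) : G) * (x : ↥E) = 1 := by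
        rw [← pow_two]
        exact hE.2 _ (x : ↥E).2
      have h4 : t * ((x : ↥E) : G) * t⁻¹ = (x : ↥E) := mul_left_cancel (h2.trans h3.symm)
      rw [mul_inv_eq_iff_eq_mul] at h4
      exact h4.symm
    · intro a b hab
      exact Subtype.ext (Subtype.ext (congrArg (fun z : ↥(E ⊓ centralizer {t}) => (z : G)) hab))
  have h2 : Nat.card f.range ≤ Nat.card ↥(E ⊓ centralizer {t}) := by
    refine Nat.card_le_card_of_injective (fun x : f.range => (⟨((x : ↥E) : G), mem_inf.2 ⟨(x : ↥E).2, ?_⟩⟩ :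
      ↥(E ⊓ centralizer {t}))) ?_
    · rw [mem_centralizer_singleton_iff]
      obtain ⟨y, hy⟩ := x.2
      have h3 : ((x : ↥E) : G) = y * (t * y * t⁻¹) := by rw [← hf, hy]
      rw [h3]
      have h4 : (y : G) * (t * y * t⁻¹) = (t * y * t⁻¹) * y := hcomm y y.2 _ (htE y y.2)
      rw [h4]
      calc t * y * t⁻¹ * y * t = t * (y * (t⁻¹ * y * t)) := by group
        _ = t * (y * (t * y * t⁻¹)) := by rw [ht']
        _ = t * ((t * y * t⁻¹) * y) := by rw [h4]
    · intro a b hab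
      exact Subtype.ext (Subtype.ext (congrArg (fun z : ↥(E ⊓ centralizer {t}) => (z : G)) hab))
  have h3 := f.ker.card_mul_index
  rw [index_ker] at h3
  rw [← h3, pow_two]
  exact Nat.mul_le_mul h1 h2

theorem four_le [Finite G] {t : G} (htt : t * t = 1) {E : Subgroup G} (hE : IsElementaryAbelian 2 E)
    (htE : ∀ e ∈ E, t * e * t⁻¹ ∈ E) (h8 : 8 ≤ Nat.card E) : 4 ≤ Nat.card ↥(E ⊓ centralizer {t}) := by
  have h1 := card_le_sq htt hE htE
  have h2 : IsPGroup 2 ↥(E ⊓ centralizer {t} : Subgroup G) := (isPGroup_of_elem hE).to_le inf_le_left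
  obtain ⟨n, hn⟩ := (IsPGroup.iff_card (p := 2)).1 h2
  rw [hn] at h1 ⊢
  rcases n with - | - | n
  · norm_num at h1
    omega
  · norm_num at h1
    omega
  · rw [pow_add]
    have : 1 ≤ 2 ^ n := Nat.one_le_two_pow
    omega

/-! ### `R = O(C_G(t))` -/

theorem core_odd [Finite G] (t : G) : Odd (Nat.card ↥(centralizerPPrimeCore 2 t)) := by
  unfold centralizerPPrimeCore
  rw [Subgroup.card_map_of_injective (Subgroup.subtype_injective _)]
  exact Nat.coprime_two_right.1 (Lib.Cores.pPrimeCore_coprime 2)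

theorem core_comm {t r : G} (hr : r ∈ centralizerPPrimeCore 2 t) : r * t = t * r := by
  have h : r ∈ centralizer ({t} : Set G) := Subgroup.map_subtype_le _ hr
  exact mem_centralizer_singleton_iff.1 h

theorem core_conj_mem [Finite G] {t c r : G} (hc : c * t = t * c) (hr : r ∈ centralizerPPrimeCore 2 t) :
    c * r * c⁻¹ ∈ centralizerPPrimeCore 2 t := by
  obtain ⟨x, hx, rfl⟩ := hr
  have hc' : c ∈ centralizer ({t} : Set G) := mem_centralizer_singleton_iff.2 hc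
  exact ⟨⟨c, hc'⟩ * x * ⟨c, hc'⟩⁻¹, (inferInstance : (pPrimeCore 2 ↥(centralizer ({t} : Set G))).Normal).conj_mem
    x hx ⟨c, hc'⟩, rfl⟩

theorem core_eq_bot_of_family [Finite G] {t : G} (ht : orderOf t = 2) {V : Subgroup G}
    (hV : IsElementaryAbelian 2 V) (h4 : 4 ≤ Nat.card V) (hVt : ∀ v ∈ V, v * t = t * v)
    (h : ∀ v ∈ V, v ≠ 1 → ∃ F : Subgroup G, IsPGroup 2 F ∧ (∀ e ∈ F, t * e * t⁻¹ ∈ F) ∧
      (∀ r ∈ centralizerPPrimeCore 2 t, r * v = v * r → ∀ e ∈ F, r * e * r⁻¹ ∈ F) ∧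
      (∀ r ∈ centralizerPPrimeCore 2 t, r * v = v * r → (∀ e ∈ F, r * e = e * r) → r = 1)) :
    centralizerPPrimeCore 2 t = ⊥ := by
  have htt : t * t = 1 := by rw [← pow_two, ← ht, pow_orderOf_eq_one]
  refine eq_bot_of_family htt (H := ⊤) hV h4 le_top hVt (core_odd t) (fun r hr => core_comm hr)
    (fun c _ hc r hr => core_conj_mem hc hr) ?_
  intro v hv hv1
  obtain ⟨F, h1, h2, h3, h5⟩ := h v hv hv1
  exact ⟨F, le_top, h1, h2, h3, h5⟩

theorem core_eq_bot_of_elem [Finite G] {t : G} (ht : orderOf t = 2) {E : Subgroup G}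
    (hE : IsElementaryAbelian 2 E) (htE : ∀ e ∈ E, t * e * t⁻¹ ∈ E)
    (h4 : 4 ≤ Nat.card ↥(E ⊓ centralizer {t}))
    (hv : ∀ v ∈ E, v ≠ 1 → v * t = t * v → ∀ r : G, r * v = v * r → r * t = t * r →
      ∀ e ∈ E, r * e * r⁻¹ ∈ E)
    (hc : ∀ r : G, Odd (orderOf r) → r * t = t * r → (∀ e ∈ E, r * e = e * r) → r = 1) :
    centralizerPPrimeCore 2 t = ⊥ := by
  have htt : t * t = 1 := by rw [← pow_two, ← ht, pow_orderOf_eq_one]
  refine eq_bot_of_elem htt (H := ⊤) hE le_top htE h4 (core_odd t) (fun r hr => core_comm hr)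
    (fun c _ hc r hr => core_conj_mem hc hr) (fun v hv1 hv2 hv3 r hr hrv => hv v hv1 hv2 hv3 r hrv (core_comm hr))
    (fun r hr hre => hc r ?_ (core_comm hr) hre)
  have h1 : orderOf (⟨r, hr⟩ : centralizerPPrimeCore 2 t) ∣ Nat.card ↥(centralizerPPrimeCore 2 t) :=
    orderOf_dvd_natCard _
  rw [Subgroup.orderOf_mk] at h1
  exact Odd.of_dvd_nat (core_odd t) h1

end Cfsg.Agent.UGT.End.CoreE
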