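import Mathlib
import Cfsg.Prelude.Def_Local
import Cfsg.Agent.Lib.GenFitting
import Cfsg.Agent.UGT.End.CoreE

/-!
# UGT, END nodes: embedding of `G` in `Aut (F*(G))` (helper818)

`exists_embed`: `N` a normal subgroup of `D` with `C_D(N) = 1` such that every automorphism of `N` is induced
by an element of `D`; `F` a normal subgroup of `G` with `C_G(F) ≤ F`, `e : F ≃* N`. Then `e` extends to an
injective homomorphism `G →* D`.
`exists_embed_fstar`: `F = F*(G)`.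
`core_eq_bot`: END from a statement on the involutions of `D`.
-/

set_option autoImplicit false

open Cfsg Subgroup

namespace Cfsg.Agent.UGT.End.Embed

variable {G D : Type*} [Group G] [Group D]

/-- `d` induces on `N` what `g` induces on `F` -/
def Ind {F : Subgroup G} {N : Subgroup D} (e : ↥F ≃* ↥N) (g : G) (d : D) : Prop :=
  ∀ x y : ↥F, g * (x : G) * g⁻¹ = y → d * (e x : D) * d⁻¹ = e y

section

variable {F : Subgroup G} {N : Subgroup D} (e : ↥F ≃* ↥N)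

theorem Ind.mul [hF : F.Normal] {g g' : G} {d d' : D} (h : Ind e g d) (h' : Ind e g' d') :
    Ind e (g * g') (d * d') := by
  intro x y hxy
  have h1 := h' x ⟨g' * x * g'⁻¹, hF.conj_mem x x.2 g'⟩ rfl
  have h2 := h ⟨g' * x * g'⁻¹, hF.conj_mem x x.2 g'⟩ y (by
    rw [← hxy]
    show g * (g' * x * g'⁻¹) * g⁻¹ = _
    group)
  rw [← h2, ← h1]
  group

theorem Ind.one : Ind e 1 1 := by
  intro x y hxy
  have : x = y := Subtype.ext (by rw [← hxy]; group)
  rw [this]; group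

theorem Ind.coe (g : ↥F) : Ind e (g : G) (e g : D) := by
  intro x y hxy
  have h1 : g * x * g⁻¹ = y := Subtype.ext hxy
  rw [← h1, map_mul, map_mul, map_inv]
  rfl

theorem Ind.unique [hF : F.Normal] (hC : ∀ d : D, (∀ n ∈ N, d * n = n * d) → d = 1) {g : G} {d d' : D}
    (h : Ind e g d) (h' : Ind e g d') : d = d' := by
  have h1 : d'⁻¹ * d = 1 := by
    apply hC
    intro n hn
    have h2 : ∀ x : ↥F, d * (e x : D) * d⁻¹ = d' * (e x : D) * d'⁻¹ := fun x => by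
      rw [h x ⟨g * x * g⁻¹, hF.conj_mem x x.2 g⟩ rfl, h' x ⟨g * x * g⁻¹, hF.conj_mem x x.2 g⟩ rfl]
    have h3 := h2 (e.symm ⟨n, hn⟩)
    rw [e.apply_symm_apply] at h3
    simp only at h3
    calc d'⁻¹ * d * n = d'⁻¹ * (d * n * d⁻¹) * d := by group
      _ = d'⁻¹ * (d' * n * d'⁻¹) * d := by rw [h3]
      _ = n * (d'⁻¹ * d) := by group
  rw [inv_mul_eq_one] at h1
  exact h1.symm

/-- conjugation by `g`, transported to `N` -/
def conjN [F.Normal] (g : G) : ↥N ≃* ↥N := (e.symm.trans (MulAut.conjNormal g)).trans e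

theorem exists_ind [hF : F.Normal] (hA : ∀ α : ↥N ≃* ↥N, ∃ d : D, ∀ n : ↥N, (α n : D) = d * n * d⁻¹) (g : G) :
    ∃ d : D, Ind e g d := by
  obtain ⟨d, hd⟩ := hA (conjN e g)
  refine ⟨d, fun x y hxy => ?_⟩
  rw [← hd (e x)]
  congr 1
  show e (MulAut.conjNormal g (e.symm (e x))) = e y
  rw [e.symm_apply_apply]
  congr 1
  exact Subtype.ext hxy

/-- **Embedding.** -/
theorem exists_embed [hF : F.Normal] (hC : ∀ d : D, (∀ n ∈ N, d * n = n * d) → d = 1)
    (hA : ∀ α : ↥N ≃* ↥N, ∃ d : D, ∀ n : ↥N, (α n : D) = d * n * d⁻¹)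
    (hCF : centralizer (F : Set G) ≤ F) :
    ∃ φ : G →* D, Function.Injective φ ∧ (∀ x : ↥F, φ x = e x) ∧ ∀ g : G, Ind e g (φ g) := by
  choose f hf using exists_ind e hA
  let φ : G →* D :=
    { toFun := f
      map_one' := Ind.unique e hC (hf 1) (Ind.one e)
      map_mul' := fun g g' => Ind.unique e hC (hf (g * g')) (Ind.mul e (hf g) (hf g')) }
  refine ⟨φ, ?_, fun x => Ind.unique e hC (hf x) (Ind.coe e x), hf⟩
  rw [injective_iff_map_eq_one]
  intro g hg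
  have hg' : Ind e g 1 := by
    have := hf g
    have h2 : f g = 1 := hg
    rwa [h2] at this
  -- `g` centralises `F`
  have h1 : ∀ x : ↥F, g * (x : G) * g⁻¹ = x := by
    intro x
    have h2 := hg' x ⟨g * x * g⁻¹, hF.conj_mem x x.2 g⟩ rfl
    have h3 : e x = e ⟨g * x * g⁻¹, hF.conj_mem x x.2 g⟩ := Subtype.ext (by rw [← h2]; group)
    have h4 := e.injective h3
    exact (congrArg Subtype.val h4).symm
  have h2 : g ∈ F := by
    apply hCF
    rw [mem_centralizer_iff]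
    intro x hx
    have h3 := h1 ⟨x, hx⟩
    rw [mul_inv_eq_iff_eq_mul] at h3
    exact h3.symm
  have h3 : (e ⟨g, h2⟩ : D) = 1 := by
    have h4 : Ind e g (e ⟨g, h2⟩ : D) := Ind.coe e ⟨g, h2⟩
    exact Ind.unique e hC h4 hg'
  have h4 : e ⟨g, h2⟩ = 1 := Subtype.ext h3
  have h5 := (map_eq_one_iff e e.injective).1 h4
  exact congrArg Subtype.val h5

end

theorem range_of_coe {F : Subgroup G} {N : Subgroup D} (e : ↥F ≃* ↥N) {φ : G →* D}
    (h : ∀ x : ↥F, φ x = e x) : F.map φ = N := by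
  ext d
  constructor
  · rintro ⟨x, hx, rfl⟩
    rw [h ⟨x, hx⟩]
    exact (e ⟨x, hx⟩).2
  · intro hd
    refine ⟨(e.symm ⟨d, hd⟩ : ↥F), (e.symm ⟨d, hd⟩).2, ?_⟩
    rw [h, e.apply_symm_apply]

/-- **Embedding, `F = F*(G)`.** -/
theorem exists_embed_fstar [Finite G] {N : Subgroup D} (hC : ∀ d : D, (∀ n ∈ N, d * n = n * d) → d = 1)
    (hA : ∀ α : ↥N ≃* ↥N, ∃ d : D, ∀ n : ↥N, (α n : D) = d * n * d⁻¹)
    (e : ↥(generalizedFittingSubgroup G) ≃* ↥N) :
    ∃ φ : G →* D, Function.Injective φ ∧ (∀ x : ↥(generalizedFittingSubgroup G), φ x = e x) ∧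
      (generalizedFittingSubgroup G).map φ = N := by
  have := Lib.GenFitting.genFitting_normal (G := G)
  obtain ⟨φ, h1, h2, -⟩ := exists_embed e hC hA (Lib.GenFitting.centralizer_genFitting_le (G := G))
  exact ⟨φ, h1, h2, range_of_coe e h2⟩

/-- transport of `O(C_G(t))` along an injective homomorphism -/
theorem core_eq_bot_of_map [Finite G] {φ : G →* D} (hφ : Function.Injective φ) {t : G}
    (h : ∀ R : Subgroup D, R ≤ φ.range → Odd (Nat.card R) → (∀ r ∈ R, r * φ t = φ t * r) →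
      (∀ c ∈ φ.range, c * φ t = φ t * c → ∀ r ∈ R, c * r * c⁻¹ ∈ R) → R = ⊥) :
    centralizerPPrimeCore 2 t = ⊥ := by
  have h1 : (centralizerPPrimeCore 2 t).map φ = ⊥ := by
    apply h
    · rintro _ ⟨x, -, rfl⟩
      exact ⟨x, rfl⟩
    · rw [card_map_of_injective hφ]
      exact CoreE.core_odd t
    · rintro _ ⟨x, hx, rfl⟩
      rw [← map_mul, ← map_mul, CoreE.core_comm hx]
    · rintro _ ⟨c, rfl⟩ hc _ ⟨x, hx, rfl⟩
      rw [← map_mul, ← map_mul] at hc
      exact ⟨c * x * c⁻¹, CoreE.core_conj_mem (hφ hc) hx, by rw [map_mul, map_mul, map_inv]⟩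
  rw [eq_bot_iff]
  intro x hx
  have h2 : φ x ∈ (centralizerPPrimeCore 2 t).map φ := ⟨x, hx, rfl⟩
  rw [h1, mem_bot] at h2
  rw [mem_bot]
  exact (map_eq_one_iff φ hφ).1 h2

/-- **END from the sheet of `N`**, `F` normal in `G`, `C_G(F) ≤ F`. -/
theorem core_eq_bot_normal [Finite G] {F : Subgroup G} [F.Normal] (hCF : centralizer (F : Set G) ≤ F)
    {N : Subgroup D} (hC : ∀ d : D, (∀ n ∈ N, d * n = n * d) → d = 1)
    (hA : ∀ α : ↥N ≃* ↥N, ∃ d : D, ∀ n : ↥N, (α n : D) = d * n * d⁻¹)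
    (h : ∀ t : D, t * t = 1 → t ≠ 1 → ∀ R : Subgroup D, Odd (Nat.card R) → (∀ r ∈ R, r * t = t * r) →
      (∀ c ∈ N, c * t = t * c → ∀ r ∈ R, c * r * c⁻¹ ∈ R) → R = ⊥)
    (e : ↥F ≃* ↥N) (t : G) (ht : orderOf t = 2) : centralizerPPrimeCore 2 t = ⊥ := by
  obtain ⟨φ, h1, h2, -⟩ := exists_embed e hC hA hCF
  have h3 := range_of_coe e h2
  have htt : t * t = 1 := by rw [← pow_two, ← ht, pow_orderOf_eq_one]
  have ht1 : t ≠ 1 := by
    rintro rfl
    rw [orderOf_one] at ht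
    omega
  refine core_eq_bot_of_map h1 (fun R _ hR hRt hn => h (φ t) ?_ ?_ R hR hRt fun c hc => hn c ?_)
  · rw [← map_mul, htt, map_one]
  · rwa [Ne, map_eq_one_iff φ h1]
  · rw [← h3] at hc
    obtain ⟨x, -, rfl⟩ := hc
    exact ⟨x, rfl⟩

/-- **END from the sheet of `N`.** `N` normal in `D` (not needed as a hypothesis), `C_D(N) = 1`, every
automorphism of `N` is induced by `D`. If no nontrivial subgroup of odd order of `C_D(t)` is normalised by
`C_N(t)` (`t` an involution of `D`), then `O(C_G(t)) = 1` for every involution `t` of every `G` with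
`F*(G) ≅ N`. -/
theorem core_eq_bot [Finite G] {N : Subgroup D} (hC : ∀ d : D, (∀ n ∈ N, d * n = n * d) → d = 1)
    (hA : ∀ α : ↥N ≃* ↥N, ∃ d : D, ∀ n : ↥N, (α n : D) = d * n * d⁻¹)
    (h : ∀ t : D, t * t = 1 → t ≠ 1 → ∀ R : Subgroup D, Odd (Nat.card R) → (∀ r ∈ R, r * t = t * r) →
      (∀ c ∈ N, c * t = t * c → ∀ r ∈ R, c * r * c⁻¹ ∈ R) → R = ⊥)
    (e : ↥(generalizedFittingSubgroup G) ≃* ↥N) (t : G) (ht : orderOf t = 2) :
    centralizerPPrimeCore 2 t = ⊥ := by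
  have := Lib.GenFitting.genFitting_normal (G := G)
  exact core_eq_bot_normal (Lib.GenFitting.centralizer_genFitting_le (G := G)) hC hA h e t ht

/-- the same inside an ambient group `P`, `K ≤ D ≤ P` -/
theorem core_eq_bot_sub_normal {P : Type*} [Group P] [Finite G] {F : Subgroup G} [F.Normal]
    (hCF : centralizer (F : Set G) ≤ F) {K D : Subgroup P} (hKD : K ≤ D)
    (hC : ∀ d ∈ D, (∀ n ∈ K, d * n = n * d) → d = 1)
    (hA : ∀ α : ↥K ≃* ↥K, ∃ d ∈ D, ∀ n : ↥K, (α n : P) = d * n * d⁻¹)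
    (h : ∀ t ∈ D, t * t = 1 → t ≠ 1 → ∀ R : Subgroup P, R ≤ D → Odd (Nat.card R) →
      (∀ r ∈ R, r * t = t * r) → (∀ c ∈ K, c * t = t * c → ∀ r ∈ R, c * r * c⁻¹ ∈ R) → R = ⊥)
    (e : ↥F ≃* ↥K) (t : G) (ht : orderOf t = 2) :
    centralizerPPrimeCore 2 t = ⊥ := by
  let j : ↥(K.subgroupOf D) ≃* ↥K := subgroupOfEquivOfLe hKD
  have hj : ∀ x : ↥(K.subgroupOf D), ((j x : ↥K) : P) = ((x : ↥D) : P) := fun x => rfl
  refine core_eq_bot_normal hCF (N := K.subgroupOf D) ?_ ?_ ?_ (e.trans j.symm) t ht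
  · intro d hd
    refine Subtype.ext (hC d d.2 fun n hn => ?_)
    exact congrArg Subtype.val (hd ⟨n, hKD hn⟩ hn)
  · intro α
    obtain ⟨d, hd, hdα⟩ := hA ((j.symm.trans α).trans j)
    refine ⟨⟨d, hd⟩, fun n => Subtype.ext ?_⟩
    have h1 := hdα (j n)
    have h2 : (((j.symm.trans α).trans j) (j n) : P) = ((α n : ↥D) : P) := by
      show ((j (α (j.symm (j n))) : ↥K) : P) = _
      rw [j.symm_apply_apply, hj]
    rw [h2, hj] at h1
    exact h1
  · intro s hs hs1 R hR hRs hnR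
    have h1 : R.map D.subtype = ⊥ := by
      refine h s s.2 (congrArg Subtype.val hs) (fun h0 => hs1 (Subtype.ext h0)) _ (map_subtype_le R) ?_ ?_ ?_
      · rw [card_map_of_injective D.subtype_injective]
        exact hR
      · rintro _ ⟨r, hr, rfl⟩
        exact congrArg Subtype.val (hRs r hr)
      · rintro c hc hcs _ ⟨r, hr, rfl⟩
        exact ⟨⟨c, hKD hc⟩ * r * ⟨c, hKD hc⟩⁻¹, hnR ⟨c, hKD hc⟩ hc (Subtype.ext hcs) r hr, rfl⟩
    rwa [map_eq_bot_iff_of_injective _ D.subtype_injective] at h1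

theorem core_eq_bot_sub {P : Type*} [Group P] [Finite G] {K D : Subgroup P} (hKD : K ≤ D)
    (hC : ∀ d ∈ D, (∀ n ∈ K, d * n = n * d) → d = 1)
    (hA : ∀ α : ↥K ≃* ↥K, ∃ d ∈ D, ∀ n : ↥K, (α n : P) = d * n * d⁻¹)
    (h : ∀ t ∈ D, t * t = 1 → t ≠ 1 → ∀ R : Subgroup P, R ≤ D → Odd (Nat.card R) →
      (∀ r ∈ R, r * t = t * r) → (∀ c ∈ K, c * t = t * c → ∀ r ∈ R, c * r * c⁻¹ ∈ R) → R = ⊥)
    (e : ↥(generalizedFittingSubgroup G) ≃* ↥K) (t : G) (ht : orderOf t = 2) :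
    centralizerPPrimeCore 2 t = ⊥ := by
  have := Lib.GenFitting.genFitting_normal (G := G)
  exact core_eq_bot_sub_normal (Lib.GenFitting.centralizer_genFitting_le (G := G)) hKD hC hA h e t ht

end Cfsg.Agent.UGT.End.Embed
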