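import Cfsg.Agent.UGT.End.Octad
import Cfsg.Agent.UGT.End.Embed
import Cfsg.Agent.UGT.EndBase
import Cfsg.Agent.J4Type.Aut22
import Cfsg.Agent.SporadicStructure.MonoCounts
import Cfsg.Prelude.Def_Sporadic

/-!
# UGT, END(M22) (helper818)

* `sheet`: `t` an involution of `M22 : 2`; a subgroup of odd order of `C(t)` normalised by `C_{M22}(t)` is trivial;
* `end_M22`: `F*(G) ≅ M22` implies `O(C_G(t)) = 1` for every involution `t` of `G`;
* `end_of_normal`: the same for a normal subgroup `N ≅ M22` with `C_G(N) = 1`;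
* `autCoreFree`, `locallyBalanced`.
-/

set_option autoImplicit false

namespace Cfsg.Agent.UGT.End.M22

open Cfsg Subgroup
open Cfsg.Agent.J4Type.Aut22 (D22 mem_D22_iff M22_le_D22 exists_conj eq_one_of_centralizes)
open Cfsg.Agent.SporadicA.MathieuRecog (mem_M22_iff simple_M22)
open Cfsg.Agent.SporadicA.OctadFix
open scoped Pointwise

universe u

theorem sheet {t : Equiv.Perm GolayPt} (ht : t ∈ D22) (htt : t * t = 1)
    {R : Subgroup (Equiv.Perm GolayPt)} (hRD : R ≤ D22) (hR : Odd (Nat.card R))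
    (hRt : ∀ r ∈ R, r * t = t * r) (hnR : ∀ c ∈ Spor.M22, c * t = t * c → ∀ r ∈ R, c * r * c⁻¹ ∈ R) :
    R = ⊥ := by
  obtain ⟨htM, htp⟩ := (mem_D22_iff t).1 ht
  obtain ⟨O, hO, ⟨h0, h1⟩, htO⟩ := Octad.exists_octad_fixed (P := fun O => none ∈ O ∧ some 0 ∈ O) htM htt
    (by
      rintro O - ⟨h0, h1⟩
      rcases htp with h | h
      · constructor
        · rw [← h.1]; exact Finset.smul_mem_smul_finset h0
        · rw [← h.2]; exact Finset.smul_mem_smul_finset h1
      · constructor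
        · rw [← h.2]; exact Finset.smul_mem_smul_finset h1
        · rw [← h.1]; exact Finset.smul_mem_smul_finset h0)
    (by rw [Cfsg.Agent.SporadicStructure.MonoCounts.ncard_octads_in]; decide)
  refine Octad.octad_criterion hO htM htt htO (fun r hr => ((mem_D22_iff r).1 (hRD hr)).1) hR hRt
    fun c hc => hnR c ?_
  rw [mem_fixOct] at hc
  exact (mem_M22_iff c).2 ⟨hc.1, hc.2 _ h0, hc.2 _ h1⟩

theorem eq_one_of_comm {d : Equiv.Perm GolayPt} (hd : d ∈ D22) (h : ∀ n ∈ Spor.M22, d * n = n * d) :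
    d = 1 := by
  refine eq_one_of_centralizes hd fun m => ?_
  rw [h m m.2, mul_assoc, mul_inv_cancel, mul_one]

/-- **END(M22).** -/
theorem end_M22 (G : Type u) [Group G] [Finite G] (hG : Spor.IsoM22 ↥(generalizedFittingSubgroup G))
    (t : G) (ht : orderOf t = 2) : centralizerPPrimeCore 2 t = ⊥ := by
  obtain ⟨e⟩ := hG
  refine Embed.core_eq_bot_sub M22_le_D22 (fun d => eq_one_of_comm) exists_conj ?_ e t ht
  intro s hs hss _ R hRD hR hRs hnR
  exact sheet hs hss hRD hR hRs hnR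

theorem end_of_normal (G : Type u) [Group G] [Finite G] (N : Subgroup G) (hN : N.Normal)
    (hG : Spor.IsoM22 ↥N) (hc : centralizer (N : Set G) = ⊥) (t : G) (ht : orderOf t = 2) :
    centralizerPPrimeCore 2 t = ⊥ := by
  obtain ⟨e⟩ := hG
  refine Embed.core_eq_bot_sub_normal (by rw [hc]; exact bot_le) M22_le_D22 (fun d => eq_one_of_comm)
    exists_conj ?_ e t ht
  intro s hs hss _ R hRD hR hRs hnR
  exact sheet hs hss hRD hR hRs hnR

/-! ### `AutCoreFree M22` -/

theorem center_bot : center ↥Spor.M22 = ⊥ := by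
  rw [eq_bot_iff]
  intro z hz
  rw [mem_bot]
  refine Subtype.ext (eq_one_of_comm (M22_le_D22 z.2) fun n hn => ?_)
  exact congrArg Subtype.val (mem_center_iff.1 hz ⟨n, hn⟩).symm

theorem sq_mem {d : Equiv.Perm GolayPt} (hd : d ∈ D22) : d * d ∈ Spor.M22 := by
  obtain ⟨hM, h⟩ := (mem_D22_iff d).1 hd
  refine (mem_M22_iff _).2 ⟨M24.mul_mem hM hM, ?_⟩
  rcases h with h | h
  · exact ⟨by rw [Equiv.Perm.mul_apply, h.1, h.1], by rw [Equiv.Perm.mul_apply, h.2, h.2]⟩
  · exact ⟨by rw [Equiv.Perm.mul_apply, h.1, h.2], by rw [Equiv.Perm.mul_apply, h.2, h.1]⟩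

theorem autCoreFree : EndBase.AutCoreFree ↥Spor.M22 := by
  refine EndBase.autCoreFree_of_pow 1 ?_ ?_
  · intro φ
    obtain ⟨d, hd, hφ⟩ := exists_conj φ
    refine ⟨⟨d * d, sq_mem hd⟩, ?_⟩
    ext1 x
    apply Subtype.ext
    show d * d * (x : Equiv.Perm GolayPt) * (d * d)⁻¹ = (((φ ^ (2 ^ 1)) x : ↥Spor.M22) : Equiv.Perm GolayPt)
    rw [pow_one, pow_two, MulAut.mul_apply, hφ, hφ]
    group
  · intro σ hσ Y hY h1 h2
    obtain ⟨d, hd, hφ⟩ := exists_conj σ
    have hσσ : σ * σ = 1 := by rw [← pow_two, ← hσ, pow_orderOf_eq_one]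
    have key : ∀ x : ↥Spor.M22, σ x = x ↔ (x : Equiv.Perm GolayPt) * d = d * x := by
      intro x
      rw [← Subtype.coe_inj, hφ, mul_inv_eq_iff_eq_mul]
      exact eq_comm
    have hdd : d * d = 1 := by
      refine eq_one_of_comm (D22.mul_mem hd hd) fun n hn => ?_
      have h3 : ((σ * σ) ⟨n, hn⟩ : ↥Spor.M22) = ⟨n, hn⟩ := by rw [hσσ]; rfl
      have h4 : d * (d * n * d⁻¹) * d⁻¹ = n := by
        rw [MulAut.mul_apply, ← Subtype.coe_inj, hφ, hφ] at h3
        exact h3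
      have h5 : d * d * n * (d * d)⁻¹ = n := by
        have e1 : d * d * n * (d * d)⁻¹ = d * (d * n * d⁻¹) * d⁻¹ := by group
        rw [e1, h4]
      rwa [mul_inv_eq_iff_eq_mul] at h5
    have h3 : Y.map Spor.M22.subtype = ⊥ := by
      refine sheet hd hdd ((map_subtype_le Y).trans M22_le_D22) ?_ ?_ ?_
      · rwa [card_map_of_injective Spor.M22.subtype_injective]
      · rintro _ ⟨y, hy, rfl⟩
        exact (key y).1 (h1 y hy)
      · rintro c hc hcd _ ⟨y, hy, rfl⟩
        exact ⟨⟨c, hc⟩ * y * ⟨c, hc⟩⁻¹, h2 ⟨c, hc⟩ ((key ⟨c, hc⟩).2 hcd) y hy, rfl⟩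
    rwa [map_eq_bot_iff_of_injective _ Spor.M22.subtype_injective] at h3

/-- **`M22` is locally balanced.** -/
theorem locallyBalanced {X : Type u} [Group X] (e : X ≃* ↥Spor.M22) : IsLocallyBalanced X := by
  have : Finite X := Finite.of_equiv _ e.symm.toEquiv
  refine (autCoreFree.congr e.symm).locallyBalanced ?_
  rw [eq_bot_iff]
  intro z hz
  have h2 : e z ∈ center ↥Spor.M22 := by
    rw [mem_center_iff]
    intro g
    obtain ⟨x, rfl⟩ := e.surjective g
    rw [← map_mul, ← map_mul, mem_center_iff.1 hz x]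
  rw [center_bot, mem_bot] at h2
  rw [mem_bot]
  exact (map_eq_one_iff e e.injective).1 h2

end Cfsg.Agent.UGT.End.M22
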