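import Cfsg.Agent.SporadicA.OctadFix
import Cfsg.Agent.UGT.End.CoreE

/-!
# UGT, END nodes: octads of the Golay code (helper818)

* `mem_fixOct_of_comm`: an element of `M24` centralising the pointwise stabiliser `E` of an octad lies in `E`;
* `stab_of_comm`: the centraliser in `M24` of an element of `E - 1` stabilises the octad;
* `octad_criterion`: `t ∈ M24` an involution stabilising the octad `O`, `E = fixOct O`; `R ≤ M24` of odd order,
  centralising `t` and normalised by `C_E(t)`. Then `R = 1`;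
* `exists_octad_fixed`: a parity argument.
-/

set_option autoImplicit false

namespace Cfsg.Agent.UGT.End.Octad

open Cfsg Subgroup Cfsg.Agent.SporadicA.GolayBase Cfsg.Agent.SporadicA.OctadFix
open Cfsg.Agent.SporadicA.GolayPerm Cfsg.Agent.SporadicA.OctadStab
open scoped Pointwise

theorem mul_comm_fixOct {O : Finset GolayPt} (hO : O ∈ octads) {a b : Equiv.Perm GolayPt}
    (ha : a ∈ fixOct O) (hb : b ∈ fixOct O) : a * b = b * a := by
  have h1 := fixOct_sq hO ha
  have h2 := fixOct_sq hO hb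
  have h3 := fixOct_sq hO (mul_mem ha hb)
  have e1 : a⁻¹ = a := inv_eq_of_mul_eq_one_left h1
  have e2 : b⁻¹ = b := inv_eq_of_mul_eq_one_left h2
  have e3 : (a * b)⁻¹ = a * b := inv_eq_of_mul_eq_one_left h3
  rw [mul_inv_rev, e1, e2] at e3
  exact e3.symm

theorem elem_fixOct {O : Finset GolayPt} (hO : O ∈ octads) : IsElementaryAbelian 2 (fixOct O) := by
  refine ⟨⟨⟨fun a b => Subtype.ext (mul_comm_fixOct hO a.2 b.2)⟩⟩, fun a ha => ?_⟩
  rw [pow_two]
  exact fixOct_sq hO ha

theorem eq_one_of_fix' {O : Finset GolayPt} (hO : O ∈ octads) {g : Equiv.Perm GolayPt}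
    (hg : g ∈ fixOct O) {p : GolayPt} (hp : p ∉ O) (hgp : g p = p) : g = 1 := by
  obtain ⟨k, -, hk⟩ := existsUnique_fixOct hO hp hp
  rw [hk g ⟨hg, hgp⟩, hk 1 ⟨(fixOct O).one_mem, rfl⟩]

theorem exists_not_mem {O : Finset GolayPt} (hO : O ∈ octads) : ∃ p : GolayPt, p ∉ O := by
  by_contra h
  push Not at h
  have h1 : O = Finset.univ := Finset.eq_univ_iff_forall.2 h
  have h2 : O.card = 8 := hO.2
  rw [h1, Finset.card_univ] at h2
  have h3 : Fintype.card GolayPt = 24 := by decide +kernel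
  omega

/-! ### the centraliser of `fixOct O` -/

theorem disj0 : ∀ i < 24, Nat.testBit 6889680 i = true → Nat.testBit 8536111 i = false := by
  decide +kernel

theorem oct1_mem : fin 6889680 ∈ octads := (fin_mem_octads_iff (by norm_num)).2 (by decide +kernel)

theorem pt8 : pt 8 ∉ fin 6889680 ∧ pt 8 ∉ oct0 := by
  constructor
  · rw [mem_fin, idx_pt (by norm_num)]
    decide +kernel
  · rw [mem_oct0, idx_pt (by norm_num)]
    decide +kernel

/-- an octad disjoint from `O`, and a further point outside both -/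
theorem exists_disjoint {O : Finset GolayPt} (hO : O ∈ octads) :
    ∃ O' ∈ octads, (∀ p ∈ O', p ∉ O) ∧ ∃ q, q ∉ O' ∧ q ∉ O := by
  obtain ⟨k, hk, h⟩ := exists_smul_eq_oct0 hO
  have hkO : ∀ x, x ∈ O ↔ k x ∈ oct0 := fun x => by rw [← h, mem_smul_iff]
  have hk1 : ∀ x, x ∈ k⁻¹ • fin 6889680 ↔ k x ∈ fin 6889680 := fun x => by
    have h1 := mem_smul_iff k⁻¹ (fin 6889680) (k x)
    rwa [show k⁻¹ (k x) = x from Equiv.symm_apply_apply k x] at h1
  refine ⟨k⁻¹ • fin 6889680, (smul_mem_octads (M24.inv_mem hk)).2 oct1_mem, ?_, k⁻¹ (pt 8), ?_, ?_⟩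
  · intro p hp hpO
    rw [hk1, mem_fin] at hp
    rw [hkO, mem_oct0] at hpO
    have := disj0 _ (idx_lt _) hp
    rw [hpO] at this
    exact absurd this (by decide)
  · rw [hk1, show k (k⁻¹ (pt 8)) = pt 8 from Equiv.apply_symm_apply k _]
    exact pt8.1
  · rw [hkO, show k (k⁻¹ (pt 8)) = pt 8 from Equiv.apply_symm_apply k _]
    exact pt8.2

theorem mem_of_smul_eq {O : Finset GolayPt} {g : Equiv.Perm GolayPt} (h : g • O = O) (x : GolayPt) :
    g x ∈ O ↔ x ∈ O := by
  have := mem_smul_iff g O x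
  rwa [h] at this

/-- an element of `M24` stabilising `O` and centralising `fixOct O` lies in `fixOct O` -/
theorem mem_fixOct_of_comm {O : Finset GolayPt} (hO : O ∈ octads) {g : Equiv.Perm GolayPt} (hg : g ∈ M24)
    (h0 : g • O = O) (hc : ∀ b ∈ fixOct O, g * b = b * g) : g ∈ fixOct O := by
  obtain ⟨p, hp⟩ := exists_not_mem hO
  have hout : ∀ q, q ∉ O → g q ∉ O := fun q hq h => hq ((mem_of_smul_eq h0 q).1 h)
  obtain ⟨b, ⟨hb, hbp⟩, -⟩ := existsUnique_fixOct hO hp (hout _ hp)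
  have hall : ∀ q, q ∉ O → g q = b q := by
    intro q hq
    obtain ⟨a, ⟨ha, haq⟩, -⟩ := existsUnique_fixOct hO hp hq
    have h1 := congrArg (fun f : Equiv.Perm GolayPt => f p) (hc a ha)
    have h2 := congrArg (fun f : Equiv.Perm GolayPt => f p) (mul_comm_fixOct hO ha hb)
    simp only [Equiv.Perm.mul_apply] at h1 h2
    rw [haq] at h1 h2
    rw [h1, ← hbp, h2]
  obtain ⟨O', hO', hd, q, hq', hq⟩ := exists_disjoint hO
  have hk : b⁻¹ * g ∈ fixOct O' := by
    refine mem_fixOct.2 ⟨M24.mul_mem (M24.inv_mem (mem_fixOct.1 hb).1) hg, fun q hq => ?_⟩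
    rw [Equiv.Perm.mul_apply, Equiv.Perm.inv_eq_iff_eq]
    exact hall q (hd q hq)
  have h1 : b⁻¹ * g = 1 := by
    refine eq_one_of_fix' hO' hk hq' ?_
    rw [Equiv.Perm.mul_apply, Equiv.Perm.inv_eq_iff_eq]
    exact hall _ hq
  rw [inv_mul_eq_one] at h1
  rw [← h1]
  exact hb

/-- the centraliser in `M24` of `1 ≠ v ∈ fixOct O` stabilises `O` -/
theorem stab_of_comm {O : Finset GolayPt} (hO : O ∈ octads) {v g : Equiv.Perm GolayPt}
    (hv : v ∈ fixOct O) (hv1 : v ≠ 1) (hc : g * v = v * g) : g • O = O := by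
  have hfix : ∀ x, v x = x ↔ x ∈ O := by
    intro x
    refine ⟨fun h => ?_, (mem_fixOct.1 hv).2 x⟩
    by_contra hx
    exact hv1 (eq_one_of_fix' hO hv hx h)
  have h1 : g • O ⊆ O := by
    intro y hy
    obtain ⟨x, rfl⟩ := g.surjective y
    rw [mem_smul_iff] at hy
    rw [← hfix]
    have h2 := congrArg (fun f : Equiv.Perm GolayPt => f x) hc
    simp only [Equiv.Perm.mul_apply] at h2
    rw [← h2, (hfix x).2 hy]
  exact Finset.eq_of_subset_of_card_le h1 (le_of_eq (Finset.card_smul_finset g O).symm)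

theorem conj_mem {O : Finset GolayPt} {g e : Equiv.Perm GolayPt} (hg : g ∈ M24) (h0 : g • O = O)
    (he : e ∈ fixOct O) : g * e * g⁻¹ ∈ fixOct O := by
  have := (conj_mem_fixOct (o := O) (g := e) hg).2 he
  rwa [h0] at this

/-- **Criterion.** -/
theorem octad_criterion {O : Finset GolayPt} (hO : O ∈ octads) {t : Equiv.Perm GolayPt} (ht : t ∈ M24)
    (htt : t * t = 1) (htO : t • O = O) {R : Subgroup (Equiv.Perm GolayPt)} (hRM : R ≤ M24)
    (hR : Odd (Nat.card R)) (hRt : ∀ r ∈ R, r * t = t * r)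
    (hnR : ∀ c ∈ fixOct O, c * t = t * c → ∀ r ∈ R, c * r * c⁻¹ ∈ R) : R = ⊥ := by
  have hE := elem_fixOct hO
  have htE : ∀ e ∈ fixOct O, t * e * t⁻¹ ∈ fixOct O := fun e he => conj_mem ht htO he
  refine CoreE.eq_bot_of_elem htt (H := fixOct O) hE le_rfl htE ?_ hR hRt hnR ?_ ?_
  · apply CoreE.four_le htt hE htE
    rw [card_fixOct hO]
    norm_num
  · intro v hv hv1 _ r hr hrv e he
    exact conj_mem (hRM hr) (stab_of_comm hO hv hv1 hrv) he
  · intro r hr hre
    -- `r` stabilises `O`, hence `r ∈ E ∩ R = 1`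
    have hne : ∃ v ∈ fixOct O, v ≠ 1 := by
      by_contra h
      push Not at h
      have h1 : fixOct O = ⊥ := by
        rw [eq_bot_iff]
        intro v hv
        rw [mem_bot]
        exact h v hv
      have h2 := card_fixOct hO
      rw [h1, card_bot] at h2
      omega
    obtain ⟨v, hv, hv1⟩ := hne
    have h1 := mem_fixOct_of_comm hO (hRM hr) (stab_of_comm hO hv hv1 (hre v hv)) hre
    exact CoreE.eq_one_of_mem_both (CoreE.isPGroup_of_elem hE) hR h1 hr

/-- An involution of `M24` preserving a set of octads of odd cardinality fixes one of them. -/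
theorem exists_octad_fixed {P : Finset GolayPt → Prop} {t : Equiv.Perm GolayPt} (ht : t ∈ M24)
    (htt : t * t = 1) (hP : ∀ O ∈ octads, P O → P (t • O))
    (hcard : Odd ({O : Finset GolayPt | O ∈ octads ∧ P O}.ncard)) : ∃ O ∈ octads, P O ∧ t • O = O := by
  classical
  let X := {O : Finset GolayPt // O ∈ octads ∧ P O}
  have hinv : ∀ O : Finset GolayPt, t • t • O = O := fun O => by
    rw [← mul_smul, htt, one_smul]
  let σ : Equiv.Perm X :=
    { toFun := fun O => ⟨t • O.1, (smul_mem_octads ht).2 O.2.1, hP O.1 O.2.1 O.2.2⟩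
      invFun := fun O => ⟨t • O.1, (smul_mem_octads ht).2 O.2.1, hP O.1 O.2.1 O.2.2⟩
      left_inv := fun O => Subtype.ext (hinv O.1)
      right_inv := fun O => Subtype.ext (hinv O.1) }
  have : Fact (Nat.Prime 2) := ⟨Nat.prime_two⟩
  have hfin : Finite X := Subtype.finite
  have hX : Nat.card X = {O : Finset GolayPt | O ∈ octads ∧ P O}.ncard := rfl
  let _ : Fintype X := Fintype.ofFinite X
  have h2 : ¬ 2 ∣ Fintype.card X := by
    rw [← Nat.card_eq_fintype_card, hX, ← even_iff_two_dvd, Nat.not_even_iff_odd]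
    exact hcard
  have hσ : σ ^ 2 ^ 1 = 1 := by
    rw [pow_one, pow_two]
    ext1 O
    exact Subtype.ext (hinv O.1)
  obtain ⟨O, hO⟩ := Equiv.Perm.exists_fixed_point_of_prime h2 hσ
  exact ⟨O.1, O.2.1, O.2.2, congrArg Subtype.val hO⟩

end Cfsg.Agent.UGT.End.Octad
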