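import Cfsg.Agent.UGT.End.AllInner
import Cfsg.Agent.OddHalf.Table.OutSpSix
import Cfsg.Agent.OddHalf.Small.Sp

/-!
# Ends of the Unbalanced Group Theorem: `F*(G)` isomorphic to `Sp_2m(2)`, `m ≥ 3`

All automorphisms of `Sp_2m(2)` are inner and `Sp_2m(2)` is of characteristic two type.
-/

set_option autoImplicit false

namespace Cfsg.Agent.UGT.End.SpSix

open Cfsg Subgroup

/-- The generalized Fitting subgroup. -/
local notation "Fs" => generalizedFittingSubgroup

variable {m : ℕ} {F : Type*} [Field F]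

theorem charP_of_card (hF : Nat.card F = 2) : CharP F 2 := by
  have hfin : Finite F := Nat.finite_of_card_ne_zero (by rw [hF]; decide)
  have := Fintype.ofFinite F
  rw [Nat.card_eq_fintype_card] at hF
  obtain ⟨p, hp⟩ := CharP.exists F
  have hpp : p.Prime := (CharP.char_is_prime_or_zero F p).resolve_right (fun h0 => by
    subst h0
    exact CharP.char_ne_zero_of_finite F 0 rfl)
  obtain ⟨n, -, hn⟩ := FiniteField.card F p
  have h2 : p ∣ 2 := by
    rw [← hF, hn]
    exact dvd_pow_self p n.2.ne'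
  have h3 : p = 2 := (Nat.prime_dvd_prime_iff_eq hpp Nat.prime_two).1 h2
  exact h3 ▸ hp

theorem charTwo (hm : 3 ≤ m) (hF : Nat.card F = 2) : IsCharacteristicTwoType (PSp m F) := by
  have hfin : Finite F := Nat.finite_of_card_ne_zero (by rw [hF]; decide)
  have := charP_of_card hF
  exact OddHalf.Small.Sp.charTwo_PSp (by omega)

/-- `F*(G) ≅ Sp_2m(2)`, `m ≥ 3`: all involution centralizers of `G` are core-free. -/
theorem core_eq_bot (hm : 3 ≤ m) (hF : Nat.card F = 2) {G : Type*} [Group G] [Finite G]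
    (e : ↥(Fs G) ≃* PSp m F) (t : G) (ht : orderOf t = 2) : centralizerPPrimeCore 2 t = ⊥ :=
  AllInner.core_eq_bot_of_charTwo e (OddHalf.Table.OutSpSix.inner hm hF) (charTwo hm hF) t ht

end Cfsg.Agent.UGT.End.SpSix
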