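import Cfsg.Prelude.Def_Local
import Cfsg.Prelude.Def_Balance
import Cfsg.Agent.Lib.GenFitting
import Cfsg.Agent.Lib.Cores

/-!
# END nodes: from fixed points of automorphisms of `F*(G)` to the cores of the involution centralisers of `G`

`core_eq_bot`: `F*(G)` simple nonabelian, automorphisms of odd order of `F*(G)` are inner, and for `φ ∈ Aut(F*(G))` with
`φ² = 1` the fixed point group has no nontrivial normal subgroup of odd order: then `O(C_G(t)) = 1` for all involutions.
`locallyBalanced`: the same hypotheses give `IsLocallyBalanced`.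
-/

set_option autoImplicit false

namespace Cfsg.Agent.UGT.End.OfFix

open Subgroup Cfsg

variable {G : Type*} [Group G]

/-- The fixed points of `φ` have no nontrivial normal subgroup of odd order. -/
def FixCore (X : Type*) [Group X] : Prop :=
  ∀ φ : MulAut X, φ * φ = 1 → ∀ W : Subgroup X, Odd (Nat.card W) → (∀ w ∈ W, φ w = w) →
    (∀ g, φ g = g → ∀ w ∈ W, g * w * g⁻¹ ∈ W) → W = ⊥

theorem core_comm {t x : G} (hx : x ∈ centralizerPPrimeCore 2 t) : x * t = t * x := by
  obtain ⟨y, -, rfl⟩ := hx
  exact mem_centralizer_singleton_iff.1 y.2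

theorem core_odd [Finite G] (t : G) : Odd (Nat.card (centralizerPPrimeCore 2 t)) := by
  have h1 := Lib.Cores.pPrimeCore_coprime (G := ↥(centralizer ({t} : Set G))) 2
  rw [centralizerPPrimeCore, Subgroup.card_map_of_injective (Subgroup.subtype_injective _)]
  exact Nat.coprime_two_right.mp h1

theorem core_conj_mem {t g x : G} (hg : g * t = t * g) (hx : x ∈ centralizerPPrimeCore 2 t) :
    g * x * g⁻¹ ∈ centralizerPPrimeCore 2 t := by
  obtain ⟨y, hy, rfl⟩ := hx
  exact ⟨⟨g, mem_centralizer_singleton_iff.2 hg⟩ * y * ⟨g, mem_centralizer_singleton_iff.2 hg⟩⁻¹,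
    (Lib.Cores.pPrimeCore_normal 2).conj_mem y hy _, rfl⟩

/-- `O(C_X(a)) = 1` for involutions `a` of `X` with trivial centre, from `FixCore X`. -/
theorem inner_core {X : Type*} [Group X] [Finite X] (h : FixCore X) (a : X) (ha : orderOf a = 2) :
    centralizerPPrimeCore 2 a = ⊥ := by
  have haa : a * a = 1 := by rw [← pow_two, ← ha, pow_orderOf_eq_one]
  refine h (MulAut.conj a) (by rw [← map_mul, haa, map_one]) _ (core_odd a) ?_ ?_
  · intro w hw
    rw [MulAut.conj_apply, ← core_comm hw, mul_inv_cancel_right]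
  · intro g hg w hw
    rw [MulAut.conj_apply, mul_inv_eq_iff_eq_mul] at hg
    exact core_conj_mem hg.symm hw

theorem centralizer_fstar [Finite G] (hs : IsSimpleGroup ↥(generalizedFittingSubgroup G))
    (hna : ¬ IsMulCommutative ↥(generalizedFittingSubgroup G)) {x : G}
    (hx : ∀ y ∈ generalizedFittingSubgroup G, y * x = x * y) : x = 1 := by
  have h1 := Lib.GenFitting.centralizer_genFitting_le (G := G) (mem_centralizer_iff.2 hx)
  have h2 : (⟨x, h1⟩ : ↥(generalizedFittingSubgroup G)) ∈ center ↥(generalizedFittingSubgroup G) :=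
    mem_center_iff.2 fun y => Subtype.ext (hx y y.2)
  rcases hs.eq_bot_or_eq_top_of_normal (center ↥(generalizedFittingSubgroup G)) inferInstance with h | h
  · rw [h, mem_bot] at h2
    exact congrArg Subtype.val h2
  · exact absurd ⟨⟨fun x y => (mem_center_iff.1 (h.symm ▸ mem_top x) y).symm ▸ rfl⟩⟩ hna

/-- **From `F*(G)` to `G`.** -/
theorem core_eq_bot [Finite G] (hs : IsSimpleGroup ↥(generalizedFittingSubgroup G))
    (hna : ¬ IsMulCommutative ↥(generalizedFittingSubgroup G))
    (ho : ∀ α : MulAut ↥(generalizedFittingSubgroup G), Odd (orderOf α) →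
      α ∈ (MulAut.conj : ↥(generalizedFittingSubgroup G) →* _).range)
    (hfix : FixCore ↥(generalizedFittingSubgroup G)) (t : G) (ht : orderOf t = 2) :
    centralizerPPrimeCore 2 t = ⊥ := by
  have hnor : (generalizedFittingSubgroup G).Normal := Lib.GenFitting.genFitting_normal (G := G)
  set F := generalizedFittingSubgroup G with hF
  set R := centralizerPPrimeCore 2 t with hR
  have htt : t * t = 1 := by rw [← pow_two, ← ht, pow_orderOf_eq_one]
  -- `R ≤ F`
  have hRF : R ≤ F := by
    intro r hr
    have hodd : Odd (orderOf (MulAut.conjNormal r : MulAut F)) := by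
      have h1 : orderOf (MulAut.conjNormal r : MulAut F) ∣ Nat.card R := by
        refine (orderOf_map_dvd MulAut.conjNormal r).trans ?_
        have h2 := orderOf_dvd_natCard (⟨r, hr⟩ : R)
        rwa [Subgroup.orderOf_mk] at h2
      exact (core_odd t).of_dvd_nat h1
    obtain ⟨x, hx⟩ := ho _ hodd
    have h3 : (x : G)⁻¹ * r = 1 := by
      refine centralizer_fstar hs hna fun y hy => ?_
      have h4 := congrArg Subtype.val (DFunLike.congr_fun hx ⟨y, hy⟩)
      rw [MulAut.conj_apply, MulAut.conjNormal_apply] at h4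
      have h5 : (x : G) * y * (x : G)⁻¹ = r * y * r⁻¹ := h4
      calc y * ((x : G)⁻¹ * r) = (x : G)⁻¹ * ((x : G) * y * (x : G)⁻¹) * r := by group
        _ = (x : G)⁻¹ * r * y := by rw [h5]; group
    rw [inv_mul_eq_one] at h3
    rw [← h3]
    exact x.2
  -- `W = R` in `F`
  have hW : R.subgroupOf F = ⊥ := by
    refine hfix (MulAut.conjNormal t) (by rw [← map_mul, htt, map_one]) _ ?_ ?_ ?_
    · rw [Nat.card_congr (Subgroup.subgroupOfEquivOfLe hRF).toEquiv]
      exact core_odd t
    · intro w hw
      apply Subtype.ext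
      rw [MulAut.conjNormal_apply, ← core_comm (mem_subgroupOf.1 hw), mul_inv_cancel_right]
    · intro g hg w hw
      have h1 := congrArg Subtype.val hg
      rw [MulAut.conjNormal_apply, mul_inv_eq_iff_eq_mul] at h1
      exact core_conj_mem h1.symm hw
  rw [Subgroup.eq_bot_iff_forall]
  intro r hr
  have h1 : (⟨r, hRF hr⟩ : F) ∈ R.subgroupOf F := hr
  rw [hW, mem_bot] at h1
  exact congrArg Subtype.val h1

/-- **Local balance.** -/
theorem locallyBalanced {K : Type*} [Group K] [Finite K] (hc : ∀ x : K, (∀ y, x * y = y * x) → x = 1)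
    (ho : ∀ α : MulAut K, Odd (orderOf α) → α ∈ (MulAut.conj : K →* MulAut K).range) (hfix : FixCore K) :
    IsLocallyBalanced K := by
  intro H hH x hx
  have hfin : Finite (MulAut K) := Finite.of_injective (fun f : MulAut K => (f : K → K)) DFunLike.coe_injective
  let ι : K →* H := (MulAut.conj : K →* MulAut K).codRestrict H fun k => hH ⟨k, rfl⟩
  have hι : ∀ k, ((ι k : H) : MulAut K) = MulAut.conj k := fun k => rfl
  have hinj : ∀ a b : K, MulAut.conj a = MulAut.conj b → a = b := by
    intro a b h
    have h2 : b⁻¹ * a = 1 := by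
      apply hc
      intro w
      have h3 := DFunLike.congr_fun h w
      rw [MulAut.conj_apply, MulAut.conj_apply] at h3
      calc b⁻¹ * a * w = b⁻¹ * (a * w * a⁻¹) * a := by group
        _ = w * (b⁻¹ * a) := by rw [h3]; group
    rw [inv_mul_eq_one] at h2
    exact h2.symm
  have hιinj : Function.Injective ι := fun a b h => hinj a b (congrArg Subtype.val h)
  have hxx : x * x = 1 := by rw [← pow_two, ← hx, pow_orderOf_eq_one]
  have hconj : ∀ k : K, (x : MulAut K) * MulAut.conj k = MulAut.conj ((x : MulAut K) k) * (x : MulAut K) := by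
    intro k
    ext w
    simp only [MulAut.mul_apply, MulAut.conj_apply, map_mul, map_inv]
  have hcomm : ∀ k : K, ι k * x = x * ι k ↔ (x : MulAut K) k = k := by
    intro k
    constructor
    · intro h
      have h1 : MulAut.conj k * (x : MulAut K) = (x : MulAut K) * MulAut.conj k := congrArg Subtype.val h
      rw [hconj] at h1
      exact (hinj _ _ (mul_right_cancel h1)).symm
    · intro h
      apply Subtype.ext
      show MulAut.conj k * (x : MulAut K) = (x : MulAut K) * MulAut.conj k
      rw [hconj, h]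
  set R := centralizerPPrimeCore 2 x with hR
  have hW : R.comap ι = ⊥ := by
    refine hfix (x : MulAut K) (congrArg Subtype.val hxx) _ ?_ ?_ ?_
    · have h1 : Nat.card ((R.comap ι).map ι) ∣ Nat.card R := Subgroup.card_dvd_of_le (Subgroup.map_comap_le _ _)
      rw [Subgroup.card_map_of_injective hιinj] at h1
      exact (core_odd x).of_dvd_nat h1
    · intro w hw
      exact (hcomm w).1 (core_comm hw)
    · intro g hg w hw
      show ι (g * w * g⁻¹) ∈ R
      rw [map_mul, map_mul, map_inv]
      exact core_conj_mem ((hcomm g).2 hg) hw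
  rw [Subgroup.eq_bot_iff_forall]
  intro r hr
  have hodd : Odd (orderOf (r : MulAut K)) := by
    rw [Subgroup.orderOf_coe]
    have h2 := orderOf_dvd_natCard (⟨r, hr⟩ : R)
    rw [Subgroup.orderOf_mk] at h2
    exact (core_odd x).of_dvd_nat h2
  obtain ⟨k, hk⟩ := ho _ hodd
  have h1 : ι k = r := Subtype.ext hk
  have h2 : k ∈ R.comap ι := by
    show ι k ∈ R
    rw [h1]
    exact hr
  rw [hW, mem_bot] at h2
  rw [← h1, h2, map_one]

end Cfsg.Agent.UGT.End.OfFix
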