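import Cfsg.Prelude.Def_CaseTheorems
import Cfsg.Agent.Lib.Cores
import Cfsg.Agent.Lib.GenFitting
import Cfsg.Agent.OddHalf.Small.Generic
import Cfsg.Agent.J2Sylow.J3EndAux

/-!
# Ends of the Unbalanced Group Theorem: groups `F*(G)` all of whose automorphisms are inner

* `map_centralizerPPrimeCore`, `coreFree_congr`: transport of `O(C(t))` along isomorphisms.
* `eq_top`: if every automorphism of `F*(G)` is inner then `F*(G) = G`.
* `core_eq_bot`, `core_eq_bot_of_charTwo`: if `F*(G)` is isomorphic to a group `X` all of whose automorphisms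
  are inner and all of whose involutions have a core-free centralizer (for instance `X` of characteristic
  two type), then `O(C_G(t)) = 1` for every involution `t` of `G`.
-/

set_option autoImplicit false

namespace Cfsg.Agent.UGT.End.AllInner

open Cfsg Subgroup

/-- The generalized Fitting subgroup. -/
local notation "Fs" => generalizedFittingSubgroup

section transport

variable {G H : Type*} [Group G] [Group H]

theorem map_centralizer_singleton (e : G ≃* H) (t : G) :
    (centralizer ({t} : Set G)).map e.toMonoidHom = centralizer ({e t} : Set H) := by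
  ext h
  rw [mem_map, mem_centralizer_singleton_iff]
  constructor
  · rintro ⟨g, hg, rfl⟩
    rw [mem_centralizer_singleton_iff] at hg
    show e g * e t = e t * e g
    rw [← map_mul, ← map_mul, hg]
  · intro hh
    refine ⟨e.symm h, ?_, e.apply_symm_apply h⟩
    rw [mem_centralizer_singleton_iff]
    apply e.injective
    rw [map_mul, map_mul, e.apply_symm_apply, hh]

/-- `O_{p'}(C(t))` is transported by isomorphisms. -/
theorem map_centralizerPPrimeCore (e : G ≃* H) (p : ℕ) (t : G) :
    (centralizerPPrimeCore p t).map e.toMonoidHom = centralizerPPrimeCore p (e t) := by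
  let f : ↥(centralizer ({t} : Set G)) ≃* ↥(centralizer ({e t} : Set H)) :=
    ((centralizer ({t} : Set G)).equivMapOfInjective e.toMonoidHom e.injective).trans
      (MulEquiv.subgroupCongr (map_centralizer_singleton e t))
  have h1 := Lib.Cores.map_equiv_pPrimeCore f p
  unfold centralizerPPrimeCore
  rw [← h1, map_map, map_map]
  rfl

/-- All involution centralizers core-free: transport. -/
theorem coreFree_congr (e : G ≃* H)
    (h : ∀ t : G, orderOf t = 2 → centralizerPPrimeCore 2 t = ⊥) (s : H) (hs : orderOf s = 2) :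
    centralizerPPrimeCore 2 s = ⊥ := by
  have h1 := h (e.symm s) (by rw [MulEquiv.orderOf_eq, hs])
  have h2 := map_centralizerPPrimeCore e 2 (e.symm s)
  rw [h1, Subgroup.map_bot, e.apply_symm_apply] at h2
  exact h2.symm

end transport

section inner

variable {G : Type*} [Group G] [Finite G]

/-- If all automorphisms of `F*(G)` are inner, `G = F*(G)`. -/
theorem eq_top (h : ∀ α : MulAut ↥(Fs G), ∃ x : ↥(Fs G), α = MulAut.conj x) : Fs G = ⊤ := by
  have hn : (Fs G).Normal := Lib.GenFitting.genFitting_normal
  rw [eq_top_iff]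
  intro g _
  obtain ⟨x, hx⟩ := h (MulAut.conjNormal g)
  have h1 : (x : G)⁻¹ * g ∈ centralizer (Fs G : Set G) := by
    rw [mem_centralizer_iff]
    intro y hy
    have h2 : ((MulAut.conjNormal g : MulAut ↥(Fs G)) ⟨y, hy⟩ : G) = ((MulAut.conj x) ⟨y, hy⟩ : ↥(Fs G)) := by
      rw [hx]
    rw [MulAut.conjNormal_apply] at h2
    have h3 : g * y * g⁻¹ = x * y * (x : G)⁻¹ := h2
    have h4 : g * y = x * y * (x : G)⁻¹ * g := by rw [← h3]; group
    calc y * ((x : G)⁻¹ * g) = (x : G)⁻¹ * (x * y * (x : G)⁻¹ * g) := by group
      _ = (x : G)⁻¹ * g * y := by rw [← h4]; group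
  have h2 := Lib.GenFitting.centralizer_genFitting_le h1
  have h3 := (Fs G).mul_mem x.2 h2
  rwa [mul_inv_cancel_left] at h3

variable {X : Type*} [Group X]

theorem eq_top_of_equiv (e : ↥(Fs G) ≃* X) (h : ∀ α : MulAut X, ∃ x : X, α = MulAut.conj x) :
    Fs G = ⊤ := by
  apply eq_top
  intro α
  obtain ⟨x, hx⟩ := h ((e.symm.trans α).trans e)
  refine ⟨e.symm x, ?_⟩
  ext y
  have h1 : ((e.symm.trans α).trans e) (e y) = MulAut.conj x (e y) := by rw [hx]
  have h2 : e (α y) = x * e y * x⁻¹ := by
    simpa using h1
  have h3 : α y = e.symm x * y * (e.symm x)⁻¹ := by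
    apply e.injective
    rw [h2]
    simp
  rw [h3, MulAut.conj_apply]

/-- If `F*(G)` is isomorphic to a group all of whose automorphisms are inner, `G` is isomorphic to it. -/
theorem exists_equiv (e : ↥(Fs G) ≃* X) (h : ∀ α : MulAut X, ∃ x : X, α = MulAut.conj x) :
    Nonempty (X ≃* G) :=
  ⟨e.symm.trans ((MulEquiv.subgroupCongr (eq_top_of_equiv e h)).trans Subgroup.topEquiv)⟩

/-- If `F*(G)` is isomorphic to a group `X` all of whose automorphisms are inner and all of whose involution
centralizers are core-free, then all involution centralizers of `G` are core-free. -/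
theorem core_eq_bot (e : ↥(Fs G) ≃* X) (h : ∀ α : MulAut X, ∃ x : X, α = MulAut.conj x)
    (hc : ∀ a : X, orderOf a = 2 → centralizerPPrimeCore 2 a = ⊥) (t : G) (ht : orderOf t = 2) :
    centralizerPPrimeCore 2 t = ⊥ := by
  obtain ⟨f⟩ := exists_equiv e h
  exact coreFree_congr f hc t ht

/-- The same with `X` of characteristic two type. -/
theorem core_eq_bot_of_charTwo (e : ↥(Fs G) ≃* X) (h : ∀ α : MulAut X, ∃ x : X, α = MulAut.conj x)
    (hc : IsCharacteristicTwoType X) (t : G) (ht : orderOf t = 2) :
    centralizerPPrimeCore 2 t = ⊥ := by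
  have : Finite X := Finite.of_equiv _ e.toEquiv
  exact core_eq_bot e h (fun a ha => J2Sylow.J3EndAux.centralizerPPrimeCore_eq_bot hc ha) t ht

end inner

end Cfsg.Agent.UGT.End.AllInner
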