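import Cfsg.Agent.UGT.End.AltPerm
import Cfsg.Agent.StandardComponent.AltAut
import Cfsg.Agent.Cit.PieceEnd
import Cfsg.Agent.Walter.OddCoreIn

/-!
# UGT, the end `F*(G) = A_m`, `m` even

`core_eq_bot`: `F*(G) ≅ A_m`, `m` even, `m ≥ 8` (outer involutions included): `O(C_G(t)) = 1` for every involution `t`.
-/

set_option autoImplicit false

open Equiv Equiv.Perm Subgroup Cfsg
open Cfsg.Agent.Walter.OddCoreIn

namespace Cfsg.Agent.UGT.EndAlt

/-- the odd core of the centraliser of an involution of `S_m`, `m` even -/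
theorem OO_centralizer_eq_bot {m : ℕ} (hm : Even m) {s : Perm (Fin m)} (hs : s * s = 1) :
    OO (centralizer ({s} : Set (Perm (Fin m)))) = ⊥ := by
  refine eq_bot_perm (s := s) hs ?_ (OO_odd _) ?_ ?_
  · rw [Fintype.card_fin]; exact hm
  · intro d hd
    have := OO_le _ hd
    exact (mem_centralizer_singleton_iff.1 this)
  · intro g hg d hd
    exact conj_mem (le_normalizer_OO _) (mem_centralizer_singleton_iff.2 hg) hd

/-- an odd order subgroup of `C(s)` normalised by `A_m ∩ C(s)` -/
theorem eq_bot_of_alt {m : ℕ} (hm : Even m) {s : Perm (Fin m)} (hs : s * s = 1)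
    {D : Subgroup (Perm (Fin m))} (hD : ¬ 2 ∣ Nat.card D) (hc : ∀ d ∈ D, d * s = s * d)
    (hN : ∀ g ∈ alternatingGroup (Fin m), g * s = s * g → ∀ d ∈ D, g * d * g⁻¹ ∈ D) : D = ⊥ := by
  rw [eq_bot_iff, ← OO_centralizer_eq_bot hm hs]
  have hDA : D ≤ alternatingGroup (Fin m) := by
    intro d hd
    rw [mem_alternatingGroup]
    rcases Int.units_eq_one_or (sign d) with h | h
    · exact h
    · exfalso
      have h1 : Odd (orderOf d) := by
        rw [← Nat.not_even_iff_odd, even_iff_two_dvd]
        intro h2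
        apply hD
        refine h2.trans ?_
        rw [← Subgroup.orderOf_mk d hd]
        exact orderOf_dvd_natCard _
      have h2 := congrArg sign (pow_orderOf_eq_one d)
      rw [map_pow, h, map_one, h1.neg_one_pow] at h2
      exact absurd h2 (by decide)
  refine le_trans ?_ (OO_le_OO_of_normal (Y := alternatingGroup (Fin m) ⊓ centralizer ({s} : Set _))
    inf_le_right ?_)
  · refine le_OO ?_ ?_ hD
    · intro d hd
      exact ⟨hDA hd, mem_centralizer_singleton_iff.2 (hc d hd)⟩
    · rw [le_normalizer_iff']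
      intro g hg d hd
      exact hN g hg.1 (mem_centralizer_singleton_iff.1 hg.2) d hd
  · rw [le_normalizer_iff']
    intro g hg x hx
    have hn : (alternatingGroup (Fin m)).Normal := inferInstance
    refine ⟨hn.conj_mem x hx.1 g, ?_⟩
    exact Subgroup.mul_mem _ (Subgroup.mul_mem _ hg hx.2) (Subgroup.inv_mem _ hg)

section group

variable {G : Type*} [Group G] [Finite G]

theorem core_eq_bot {m : ℕ} (hm : Even m) (h8 : 8 ≤ m)
    (e : ↥(generalizedFittingSubgroup G) ≃* ↥(alternatingGroup (Fin m)))
    (hs : IsSimpleGroup ↥(generalizedFittingSubgroup G))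
    (hna : ¬ IsMulCommutative ↥(generalizedFittingSubgroup G)) {t : G} (ht : orderOf t = 2) :
    centralizerPPrimeCore 2 t = ⊥ := by
  have hFn : (generalizedFittingSubgroup G).Normal := Lib.GenFitting.genFitting_normal (G := G)
  obtain ⟨ψ, hψ⟩ := Cfsg.Agent.StandardComponent.AltAut.exists_autHom m (by omega)
  have huniq : ∀ σ τ : Perm (Fin m), (∀ x : alternatingGroup (Fin m), σ * x * σ⁻¹ = τ * x * τ⁻¹) →
      σ = τ := by
    intro σ τ h
    obtain ⟨n, rfl⟩ : ∃ n, m = n + 2 := ⟨m - 2, by omega⟩
    exact Cfsg.Agent.StandardComponent.AltAut.conj_unique (m := n) (by omega) h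
  let c : G →* MulAut ↥(generalizedFittingSubgroup G) := MulAut.conjNormal
  let φ : G →* Perm (Fin m) := ψ.comp ((MulAut.congr e).toMonoidHom.comp c)
  have hφ : ∀ (g : G) (x : ↥(generalizedFittingSubgroup G)),
      ((e (c g x) : alternatingGroup (Fin m)) : Perm (Fin m)) = φ g * (e x : Perm (Fin m)) * (φ g)⁻¹ := by
    intro g x
    have := hψ ((MulAut.congr e) (c g)) (e x)
    have h2 : (MulAut.congr e) (c g) (e x) = e (c g x) := by
      change e (c g (e.symm (e x))) = _
      rw [e.symm_apply_apply]
    rw [h2] at this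
    exact this
  have hφF : ∀ x : ↥(generalizedFittingSubgroup G), φ (x : G) = (e x : Perm (Fin m)) := by
    intro x
    apply huniq
    intro y
    obtain ⟨z, rfl⟩ := e.surjective y
    rw [← hφ (x : G) z]
    have : c (x : G) z = x * z * x⁻¹ := by
      apply Subtype.ext
      simp [c, MulAut.conjNormal_apply]
    rw [this]
    simp
  have hinj : Function.Injective φ := by
    rw [injective_iff_map_eq_one]
    intro g hg
    have h1 : g ∈ centralizer (generalizedFittingSubgroup G : Set G) := by
      rw [mem_centralizer_iff]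
      intro x hx
      have h2 := hφ g ⟨x, hx⟩
      rw [hg, one_mul, inv_one, mul_one] at h2
      have h3 := congrArg Subtype.val (e.injective (Subtype.ext h2))
      simp only [c, MulAut.conjNormal_apply] at h3
      rw [mul_inv_eq_iff_eq_mul] at h3
      exact h3.symm
    rw [Cit.PieceEnd.centralizer_fstar hs hna] at h1
    exact mem_bot.1 h1
  have hcore : centralizerPPrimeCore 2 t = OO (centralizer ({t} : Set G)) := rfl
  rw [hcore]
  have hbot : (OO (centralizer ({t} : Set G))).map φ = ⊥ := by
    refine eq_bot_of_alt hm (s := φ t) ?_ ?_ ?_ ?_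
    · rw [← map_mul, ← pow_two, ← ht, pow_orderOf_eq_one, map_one]
    · rw [Subgroup.card_map_of_injective hinj]
      exact OO_odd _
    · rintro _ ⟨d, hd, rfl⟩
      rw [← map_mul, ← map_mul, mem_centralizer_singleton_iff.1 (OO_le _ hd)]
    · rintro g hg hgt _ ⟨d, hd, rfl⟩
      obtain ⟨x, hx⟩ := e.surjective ⟨g, hg⟩
      have h1 : φ (x : G) = g := by rw [hφF x, hx]
      refine ⟨x * d * (x : G)⁻¹, ?_, ?_⟩
      · refine conj_mem (le_normalizer_OO _) (mem_centralizer_singleton_iff.2 ?_) hd
        apply hinj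
        rw [map_mul, map_mul, h1]; exact hgt
      · rw [map_mul, map_mul, map_inv, h1]
  exact (Subgroup.map_eq_bot_iff_of_injective _ hinj).1 hbot

end group

end Cfsg.Agent.UGT.EndAlt
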