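import Mathlib
import Cfsg.Prelude.Def_Solvable

/-!
# Odd normal subgroups of centralisers of involutions in symmetric groups of even degree

`eq_bot_perm`: `s * s = 1` in the symmetric group on a set of even size, `D` of odd order, centralising `s` and
normalised by the centraliser of `s`. Then `D = 1`.
-/

set_option autoImplicit false

open Equiv Equiv.Perm Subgroup

namespace Cfsg.Agent.UGT.EndAlt

theorem no_inv {G : Type*} [Group G] {D : Subgroup G} (hD : ¬ 2 ∣ Nat.card D) {z : G}
    (hz : z ∈ D) (h2 : z * z = 1) : z = 1 := by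
  by_contra h
  apply hD
  have h1 : orderOf z = 2 := by
    rw [orderOf_eq_iff (by norm_num)]
    refine ⟨by rw [pow_two]; exact h2, fun m hm h0 => ?_⟩
    have : m = 1 := by omega
    rw [this, pow_one]; exact h
  rw [← h1, ← Subgroup.orderOf_mk z hz]
  exact orderOf_dvd_natCard _

section perm

variable {α : Type*} [Fintype α] [DecidableEq α]
set_option linter.unusedSectionVars false

theorem swap_sq {a b c d : α}
    (hac : a ≠ c) (had : a ≠ d) (hbc : b ≠ c) (hbd : b ≠ d) :
    (swap a b * swap c d) * (swap a b * swap c d) = 1 := by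
  have h : swap a b * swap c d = swap c d * swap a b := by
    by_cases hab : a = b
    · subst hab; rw [swap_self]; rfl
    by_cases hcd : c = d
    · subst hcd; rw [swap_self]; rfl
    apply Equiv.Perm.Disjoint.commute
    rw [Equiv.Perm.disjoint_iff_disjoint_support, support_swap hab, support_swap hcd]
    simp [hac.symm, had.symm, hbc.symm, hbd.symm]
  have h2 : (swap a b * swap c d) * (swap a b * swap c d)
      = (swap a b * swap c d) * (swap c d * swap a b) := by rw [← h]
  rw [h2, mul_assoc, ← mul_assoc (swap c d), swap_mul_self, one_mul, swap_mul_self]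

theorem two_swap {D : Subgroup (Perm α)} (hD : ¬ 2 ∣ Nat.card D) {a b c d : α} (hcd : c ≠ d)
    (hac : a ≠ c) (had : a ≠ d) (hbc : b ≠ c) (hbd : b ≠ d) (h : swap a b * swap c d ∈ D) : False := by
  have h1 : swap a b * swap c d = 1 := no_inv hD h (swap_sq hac had hbc hbd)
  have h2 := congrArg (fun f : Perm α => f c) h1
  simp only [Perm.mul_apply, Perm.one_apply, swap_apply_left] at h2
  rw [swap_apply_of_ne_of_ne had.symm hbd.symm] at h2
  exact hcd h2.symm

variable {s : Perm α} {D : Subgroup (Perm α)}

theorem comm_swap (hN : ∀ g : Perm α, g * s = s * g → ∀ d ∈ D, g * d * g⁻¹ ∈ D) {d : Perm α}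
    (hd : d ∈ D) {p q : α} (hpq : swap p q * s = s * swap p q) :
    swap (d p) (d q) * swap p q ∈ D := by
  have h1 := mul_mem hd (hN _ hpq d⁻¹ (inv_mem hd))
  rw [swap_apply_apply]
  have h3 : d * swap p q * d⁻¹ * swap p q = d * (swap p q * d⁻¹ * (swap p q)⁻¹) := by
    rw [swap_inv]; group
  rw [h3]
  exact h1

theorem apply_of_sq (hD : ¬ 2 ∣ Nat.card D) {d : Perm α} (hd : d ∈ D) {x : α}
    (h : d (d x) = x) : d x = x := by
  have h1 : Nat.Coprime 2 (orderOf d) := by
    rw [Nat.prime_two.coprime_iff_not_dvd]
    intro h2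
    apply hD
    refine h2.trans ?_
    rw [← Subgroup.orderOf_mk d hd]
    exact orderOf_dvd_natCard _
  obtain ⟨m, hm⟩ := exists_pow_eq_self_of_coprime h1
  rw [← hm]
  apply Equiv.Perm.pow_apply_eq_self_of_apply_eq_self
  rw [pow_two]; exact h

theorem fixes_support (hs : s * s = 1) (hD : ¬ 2 ∣ Nat.card D) (hc : ∀ d ∈ D, d * s = s * d)
    (hN : ∀ g : Perm α, g * s = s * g → ∀ d ∈ D, g * d * g⁻¹ ∈ D) {d : Perm α} (hd : d ∈ D)
    {x : α} (hx : s x ≠ x) : d x = x := by
  have hss : ∀ y, s (s y) = y := fun y => by
    have := congrArg (fun f : Perm α => f y) hs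
    simpa using this
  have hds : ∀ y, d (s y) = s (d y) := fun y => by
    have := congrArg (fun f : Perm α => f y) (hc d hd)
    simpa using this
  have h1 : swap x (s x) * s = s * swap x (s x) := by
    have h := (swap_apply_apply s x (s x)).symm
    rw [hss, swap_comm (s x) x, mul_inv_eq_iff_eq_mul] at h
    exact h.symm
  have h2 := comm_swap hN hd h1
  by_contra hne
  have hne2 : d x ≠ s x := by
    intro h
    apply hne
    apply apply_of_sq hD hd
    rw [h, hds, h, hss]
  refine two_swap hD (Ne.symm hx) hne hne2 ?_ ?_ h2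
  · rw [hds]
    intro h
    apply hne2
    rw [← hss (d x), h]
  · rw [hds]
    intro h
    exact hne (s.injective h)

theorem eq_bot_perm (hs : s * s = 1) (hα : Even (Fintype.card α)) (hD : ¬ 2 ∣ Nat.card D)
    (hc : ∀ d ∈ D, d * s = s * d)
    (hN : ∀ g : Perm α, g * s = s * g → ∀ d ∈ D, g * d * g⁻¹ ∈ D) : D = ⊥ := by
  rw [Subgroup.eq_bot_iff_forall]
  intro d hd
  by_contra hd1
  obtain ⟨a, ha⟩ : ∃ a, d a ≠ a := by
    by_contra hcon
    push Not at hcon
    exact hd1 (Equiv.ext hcon)
  have hds : ∀ y, d (s y) = s (d y) := fun y => by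
    have := congrArg (fun f : Perm α => f y) (hc d hd)
    simpa using this
  have hsa : s a = a := by
    by_contra h
    exact ha (fixes_support hs hD hc hN hd h)
  obtain ⟨b, hb⟩ : ∃ b, b = d a := ⟨_, rfl⟩
  obtain ⟨c, hcc⟩ : ∃ c, c = d b := ⟨_, rfl⟩
  have hsb : s b = b := by rw [hb, ← hds, hsa]
  have hsc : s c = c := by rw [hcc, ← hds, hsb]
  have hab : b ≠ a := by rw [hb]; exact ha
  have hbc : c ≠ b := by
    rw [hcc]; intro h
    apply ha
    apply d.injective
    rw [← hb]; exact h
  have hac : c ≠ a := by
    intro h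
    apply ha
    apply apply_of_sq hD hd
    rw [← hb, ← hcc, h]
  -- a fourth fixed point
  obtain ⟨x, hsx, hxa, hxb, hxc⟩ : ∃ x, s x = x ∧ x ≠ a ∧ x ≠ b ∧ x ≠ c := by
    by_contra hcon
    push Not at hcon
    have h1 : 2 ∣ s.support.card := Equiv.Perm.two_dvd_card_support (by rw [pow_two]; exact hs)
    have h2 : s.supportᶜ = {a, b, c} := by
      ext y
      simp only [Finset.mem_compl, mem_support, not_not, Finset.mem_insert, Finset.mem_singleton]
      constructor
      · intro hy
        by_cases h3 : y = a
        · exact Or.inl h3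
        by_cases h4 : y = b
        · exact Or.inr (Or.inl h4)
        exact Or.inr (Or.inr (hcon y hy h3 h4))
      · rintro (rfl | rfl | rfl)
        · exact hsa
        · exact hsb
        · exact hsc
    have h3 : ({a, b, c} : Finset α).card = 3 := by
      rw [Finset.card_insert_of_notMem, Finset.card_insert_of_notMem, Finset.card_singleton]
      · rw [Finset.mem_singleton]; exact hbc.symm
      · simp only [Finset.mem_insert, Finset.mem_singleton, not_or]
        exact ⟨hab.symm, hac.symm⟩
    have h4 := Finset.card_compl_add_card s.support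
    rw [h2, h3] at h4
    obtain ⟨k, hk⟩ := hα
    omega
  have hsw : ∀ p q : α, s p = p → s q = q → swap p q * s = s * swap p q := by
    intro p q hp hq
    have h := (swap_apply_apply s p q).symm
    rw [hp, hq, mul_inv_eq_iff_eq_mul] at h
    exact h.symm
  have hb' : d a = b := hb.symm
  have hc' : d b = c := hcc.symm
  by_cases h1 : d x = a
  · -- `x → a → b → c`
    have h2 := comm_swap hN hd (hsw a c hsa hsc)
    rw [hb'] at h2
    refine two_swap hD hac.symm hab hbc.symm ?_ ?_ h2
    · intro h
      exact hxc (d.injective (h1.trans h.symm))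
    · intro h
      exact hbc (d.injective (h.trans hcc))
  · by_cases h2 : d x = x
    · -- `d x = x`: a `3`-cycle
      have h3 := comm_swap hN hd (hsw a x hsa hsx)
      rw [hb', h2] at h3
      -- conjugate by `swap x c`
      have h4 := hN (swap x c) (hsw x c hsx hsc) _ h3
      have h5 : swap x c * (swap b x * swap a x) * (swap x c)⁻¹ = swap b c * swap a c := by
        have e1 := swap_apply_apply (swap x c) b x
        have e2 := swap_apply_apply (swap x c) a x
        rw [swap_apply_left, swap_apply_of_ne_of_ne hxb.symm hbc.symm] at e1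
        rw [swap_apply_left, swap_apply_of_ne_of_ne hxa.symm hac.symm] at e2
        rw [e1, e2]; group
      rw [h5] at h4
      have h6 := mul_mem h3 h4
      have h7 : (swap b x * swap a x * (swap b c * swap a c)) = swap a x * swap b c := by
        have e1 : swap b x * swap a x = swap a x * swap a b := by
          have e3 := swap_apply_apply (swap a x) a b
          rw [swap_apply_left, swap_apply_of_ne_of_ne hab hxb.symm] at e3
          rw [swap_comm b x, e3, swap_inv, mul_assoc, swap_mul_self, mul_one]
        have e2 : swap b c * swap a c = swap a b * swap b c := by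
          have e3 := swap_apply_apply (swap b c) b a
          rw [swap_apply_left, swap_apply_of_ne_of_ne hab.symm hac.symm] at e3
          rw [swap_comm a c, e3, swap_inv, mul_assoc, ← mul_assoc (swap b c), swap_mul_self,
            one_mul, swap_comm a b]
        rw [e1, e2, mul_assoc, ← mul_assoc (swap a b), swap_mul_self, one_mul]
      rw [h7] at h6
      exact two_swap hD hbc.symm hab.symm hac.symm hxb hxc h6
    · have h3 := comm_swap hN hd (hsw a x hsa hsx)
      rw [hb'] at h3
      exact two_swap hD hxa.symm hab hxb.symm h1 h2 h3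

end perm

end Cfsg.Agent.UGT.EndAlt
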