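import Cfsg.Agent.UGT.EndCharTwo
import Cfsg.Agent.UGT.EndRigid
import Cfsg.Agent.UGT.End
import Cfsg.Agent.UGT.End.CoreE
import Cfsg.Agent.OddHalf.Small.Generic
import Cfsg.Agent.TwoFusion.StronglyEmbeddedBasic

/-!
# The node END for groups of characteristic 2 type

`X` is a finite group of characteristic 2 type, of sectional 2-rank at least 5, without strongly embedded subgroup
(it suffices that it has two classes of involutions).

* `rig`: no nontrivial element of odd order of `G ⊵ X`, `C_G(X) = 1`, centralizes `C_X(v)`, `v ∈ X` an involution;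
* `core_eq_bot`: `O(C_G(x)) = 1` for all involutions `x` of `G`;
* `lb`, `lb'`: the node `LB X` of the Unbalanced Group Theorem.
-/

set_option autoImplicit false

namespace Cfsg.Agent.UGT.End.CharTwo

open Subgroup Cfsg Cfsg.Agent.UGT.EndCharTwo

universe u

/-- Strongly embedded subgroups and isomorphisms. -/
theorem isStronglyEmbedded_comap {X Y : Type*} [Group X] [Group Y] (e : X ≃* Y) {H : Subgroup Y}
    (h : IsStronglyEmbedded H) : IsStronglyEmbedded (H.comap e.toMonoidHom) := by
  have hcard : ∀ K : Subgroup Y, Nat.card ↥(K.comap e.toMonoidHom) = Nat.card K := by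
    intro K
    refine Nat.card_congr ⟨fun y => ⟨e y.1, y.2⟩, fun y => ⟨e.symm y.1, ?_⟩, fun y => ?_, fun y => ?_⟩
    · show e (e.symm y.1) ∈ K
      rw [e.apply_symm_apply]; exact y.2
    · exact Subtype.ext (e.symm_apply_apply _)
    · exact Subtype.ext (e.apply_symm_apply _)
  refine ⟨?_, ?_, ?_⟩
  · intro h1
    apply h.1
    rw [eq_top_iff]
    intro y _
    have h2 : e.symm y ∈ H.comap e.toMonoidHom := by rw [h1]; exact mem_top _
    have h3 : e (e.symm y) ∈ H := h2
    rwa [e.apply_symm_apply] at h3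
  · rw [hcard]; exact h.2.1
  · intro g hg
    have h1 := h.2.2 (e g) hg
    have h2 : (H.comap e.toMonoidHom) ⊓ (H.comap e.toMonoidHom).map (MulAut.conj g).toMonoidHom =
        (H ⊓ H.map (MulAut.conj (e g)).toMonoidHom).comap e.toMonoidHom := by
      ext y
      constructor
      · rintro ⟨h3, s, hs, rfl⟩
        refine ⟨h3, e s, hs, ?_⟩
        show e g * e s * (e g)⁻¹ = e (g * s * g⁻¹)
        rw [map_mul, map_mul, map_inv]
      · rintro ⟨h3, s, hs, hsy⟩
        refine ⟨h3, e.symm s, ?_, ?_⟩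
        · show e (e.symm s) ∈ H
          rw [e.apply_symm_apply]; exact hs
        · apply e.injective
          have h4 : e g * s * (e g)⁻¹ = e y := hsy
          show e (g * e.symm s * g⁻¹) = e y
          rw [map_mul, map_mul, map_inv, e.apply_symm_apply, h4]
    rw [h2, hcard]
    exact h1

/-- Rigidity. -/
theorem rig {G : Type*} [Group G] [Finite G] {N : Subgroup G} (hN : N.Normal)
    (hc : centralizer (N : Set G) = ⊥) (hC : IsCharacteristicTwoType ↥N)
    (hS : ∀ H : Subgroup ↥N, ¬ IsStronglyEmbedded H) : Rig N := by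
  intro d hd v hv hv1 hv2 hdc
  have := hN
  have h1 : EndRigid.Hyp (MulAut.conjNormal (H := N) d) ⟨v, hv⟩ := by
    refine ⟨hC, ?_, ?_, ?_, ?_⟩
    · exact Odd.of_dvd_nat hd (orderOf_map_dvd _ _)
    · exact fun h => hv1 (congrArg Subtype.val h)
    · exact Subtype.ext hv2
    · intro c hcv
      apply Subtype.ext
      rw [MulAut.conjNormal_apply, hdc c c.2 (congrArg Subtype.val hcv), mul_inv_cancel_right]
  have h2 := EndRigid.eq_one h1 hS
  have h3 : d ∈ centralizer (N : Set G) := by
    rw [mem_centralizer_iff]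
    intro y hy
    have h4 : (MulAut.conjNormal (H := N) d) ⟨y, hy⟩ = ⟨y, hy⟩ := by rw [h2]; rfl
    have h5 := congrArg Subtype.val h4
    rw [MulAut.conjNormal_apply] at h5
    rw [mul_inv_eq_iff_eq_mul] at h5
    exact h5.symm
  rwa [hc, mem_bot] at h3

/-- `O(C_G(x)) = 1`. -/
theorem core_eq_bot {G : Type*} [Group G] [Finite G] {N : Subgroup G} (hN : N.Normal)
    (hc : centralizer (N : Set G) = ⊥) (hC : IsCharacteristicTwoType ↥N) (hr : ¬ SectionalPRankLE 2 4 ↥N)
    (hS : ∀ H : Subgroup ↥N, ¬ IsStronglyEmbedded H) {x : G} (hx : x * x = 1) :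
    centralizerPPrimeCore 2 x = ⊥ := by
  have h : Sit N (centralizerPPrimeCore 2 x) x :=
    ⟨hN, CoreE.core_odd x, hx, fun r hr => CoreE.core_comm hr, fun g _ hg r hr => CoreE.core_conj_mem hg hr⟩
  exact eq_bot h (rig hN hc hC hS) hC hr

/-- The node `LB X`. -/
theorem lb {X : Type u} [Group X] [Finite X] (hC : IsCharacteristicTwoType X) (hr : ¬ SectionalPRankLE 2 4 X)
    (hS : ∀ H : Subgroup X, ¬ IsStronglyEmbedded H) : LB X := by
  intro G _ _ N hN ⟨e⟩ hc x hx
  refine core_eq_bot hN hc (OddHalf.Small.Generic.isCharacteristicTwoType_congr e hC)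
    (fun h => hr (GH.Rank.of_equiv h e.symm)) (fun H hH => hS _ (isStronglyEmbedded_comap e hH)) ?_
  rw [← pow_two, ← hx]
  exact pow_orderOf_eq_one x

/-- The node `LB X`; `X` has two classes of involutions. -/
theorem lb' {X : Type u} [Group X] [Finite X] (hC : IsCharacteristicTwoType X) (hr : ¬ SectionalPRankLE 2 4 X)
    {a b : X} (ha : orderOf a = 2) (hb : orderOf b = 2) (hab : ¬ IsConj a b) : LB X :=
  lb hC hr fun _ hH => hab (TwoFusion.StronglyEmbeddedBasic.isConj_of_involutions hH a b ha hb)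

end Cfsg.Agent.UGT.End.CharTwo
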