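import Cfsg.Agent.UGT.LB.Crit
import Cfsg.Agent.KFacts.QMinus

/-!
# Local balance of groups with an involution centraliser `2^{1+4}_- : A₅`

`N` is a normal subgroup of the finite group `Γ` with `C_Γ(N) = 1`, `t` an involution of `N` with the signed
permutation model of `C_N(t)` (five anticommuting involutions `v i`), all `v i`, `t (v i)` conjugate to `t`,
`t^{Aut N} = t^N` of odd cardinality, and automorphisms fixing `t` and even on the five classes are inner
(`N = J₂`, `J₃`). Then every involution `x` of `Γ` centralises a four-group of conjugates of `t`, so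
`O(C_Γ(x)) = 1`.
-/

set_option autoImplicit false

namespace Cfsg.Agent.UGT.End.Five

open Subgroup Cfsg.Agent.J2Type.Model Cfsg.Agent.J2Type.CStruct
open Cfsg.Agent.J3Type.OneClass Cfsg.Agent.UGT.LB.Crit

/-- The facts about the simple group. -/
structure Hyp {X : Type*} [Group X] (t : X) (Q : Subgroup (centralizer ({t} : Set X)))
    (v : Fin 5 → centralizer ({t} : Set X)) (ρ : centralizer ({t} : Set X) →* SP) : Prop where
  M : IsModel Q (zc t) v ρ
  /-- the elements `t^a v_i` are conjugate to `t` -/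
  cj : ∀ (a : ZMod 2) (i : Fin 5), IsConj t ((zp (zc t) a * v i : centralizer ({t} : Set X)) : X)
  /-- automorphisms preserve the class of `t` -/
  aut : ∀ α : MulAut X, IsConj t (α t)
  odd : Odd (centralizer ({t} : Set X)).index
  /-- automorphisms fixing `t` act on the five classes -/
  act : ∀ α : MulAut X, α t = t → ∃ (σ : Equiv.Perm (Fin 5)) (s : Fin 5 → ZMod 2),
    ∀ i, α (v i) = ((zp (zc t) (s i) * v (σ i) : centralizer ({t} : Set X)) : X)
  inner : ∀ α : MulAut X, α t = t → ∀ (σ : Equiv.Perm (Fin 5)) (s : Fin 5 → ZMod 2),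
    (∀ i, α (v i) = ((zp (zc t) (s i) * v (σ i) : centralizer ({t} : Set X)) : X)) →
    Equiv.Perm.sign σ = 1 → ∃ k : X, α = MulAut.conj k
  three : ∃ n : X, n * t * n⁻¹ = v 0 ∧ n * v 0 * n⁻¹ = t * v 0

theorem mem_cent {X : Type*} [Group X] {t c : X} : c ∈ centralizer ({t} : Set X) ↔ c * t = t * c :=
  mem_centralizer_singleton_iff

/-! ### a fixed point -/

/-- An involutory automorphism fixes a conjugate of `t`. -/
theorem exists_fix {X : Type*} [Group X] [Finite X] {t : X} (hodd : Odd (centralizer ({t} : Set X)).index)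
    (α : MulAut X) (hα : ∀ x, α (α x) = x) (hc : IsConj t (α t)) :
    ∃ g : X, α (g * t * g⁻¹) = g * t * g⁻¹ := by
  obtain ⟨h, hh⟩ := isConj_iff.1 hc
  set C := centralizer ({t} : Set X) with hC
  have hrel : ∀ a b : X, (QuotientGroup.leftRel C) a b → (QuotientGroup.leftRel C) (α a * h) (α b * h) := by
    intro a b hab
    rw [QuotientGroup.leftRel_apply] at hab ⊢
    have h1 := mem_cent.1 hab
    rw [hC, mem_cent]
    have h2 : α (a⁻¹ * b) * (h * t * h⁻¹) = (h * t * h⁻¹) * α (a⁻¹ * b) := by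
      rw [hh, ← map_mul, h1, map_mul]
    rw [map_mul, map_inv] at h2
    calc (α a * h)⁻¹ * (α b * h) * t = h⁻¹ * ((α a)⁻¹ * α b * (h * t * h⁻¹)) * h := by group
      _ = h⁻¹ * ((h * t * h⁻¹) * ((α a)⁻¹ * α b)) * h := by rw [h2]
      _ = t * ((α a * h)⁻¹ * (α b * h)) := by group
  let f : X ⧸ C → X ⧸ C := Quotient.map' (fun g => α g * h) hrel
  have hf : Function.Involutive f := by
    intro q
    obtain ⟨g, rfl⟩ := QuotientGroup.mk_surjective q
    show ((α (α g * h) * h : X) : X ⧸ C) = g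
    rw [eq_comm, QuotientGroup.eq, map_mul, hα, mem_cent]
    have h1 : α h * (α t) * (α h)⁻¹ = t := by
      rw [← map_mul, ← map_inv, ← map_mul, hh, hα]
    calc g⁻¹ * (g * α h * h) * t = α h * (h * t * h⁻¹) * h := by group
      _ = α h * α t * h := by rw [hh]
      _ = (α h * α t * (α h)⁻¹) * (α h * h) := by group
      _ = t * (α h * h) := by rw [h1]
      _ = t * (g⁻¹ * (g * α h * h)) := by group
  have hfin : Finite (X ⧸ C) := inferInstance
  have := Fintype.ofFinite (X ⧸ C)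
  have hp : Fact (Nat.Prime 2) := ⟨Nat.prime_two⟩
  obtain ⟨q, hq⟩ := Equiv.Perm.exists_fixed_point_of_prime (p := 2) (n := 1) (α := X ⧸ C)
    (by
      rw [← Nat.card_eq_fintype_card, ← Subgroup.index]
      exact hodd.not_two_dvd_nat) (σ := hf.toPerm f) (by
      rw [pow_one, pow_two]
      apply Equiv.ext
      intro q
      exact hf q)
  obtain ⟨g, rfl⟩ := QuotientGroup.mk_surjective q
  refine ⟨g, ?_⟩
  have h1 : ((α g * h : X) : X ⧸ C) = g := hq
  rw [eq_comm, QuotientGroup.eq, mem_cent] at h1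
  rw [map_mul, map_mul, map_inv, ← hh]
  calc α g * (h * t * h⁻¹) * (α g)⁻¹ = g * (g⁻¹ * (α g * h) * t) * (α g * h)⁻¹ := by group
    _ = g * (t * (g⁻¹ * (α g * h))) * (α g * h)⁻¹ := by rw [h1]
    _ = g * t * g⁻¹ := by group

/-! ### conjugation invariance of the criterion -/

section conj

variable {Γ : Type*} [Group Γ] {N : Subgroup Γ}

theorem comm_conj {a b : Γ} (g : Γ) (h : a * b = b * a) :
    (g * a * g⁻¹) * (g * b * g⁻¹) = (g * b * g⁻¹) * (g * a * g⁻¹) := by
  calc (g * a * g⁻¹) * (g * b * g⁻¹) = g * (a * b) * g⁻¹ := by group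
    _ = g * (b * a) * g⁻¹ := by rw [h]
    _ = _ := by group

theorem comm_conj' {a b g : Γ} (h : a * (g * b * g⁻¹) = (g * b * g⁻¹) * a) :
    (g⁻¹ * a * g) * b = b * (g⁻¹ * a * g) := by
  calc (g⁻¹ * a * g) * b = g⁻¹ * (a * (g * b * g⁻¹)) * g := by group
    _ = g⁻¹ * ((g * b * g⁻¹) * a) * g := by rw [h]
    _ = _ := by group

theorem good_conj [hN : N.Normal] {z : Γ} (h : Good N z) (g : Γ) : Good N (g * z * g⁻¹) where
  mem := hN.conj_mem z h.mem g
  sq := by
    calc g * z * g⁻¹ * (g * z * g⁻¹) = g * (z * z) * g⁻¹ := by group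
      _ = 1 := by rw [h.sq]; group
  ne := by
    intro h1
    apply h.ne
    have : z = g⁻¹ * (g * z * g⁻¹) * g := by group
    rw [this, h1]; group
  ex := by
    obtain ⟨V, h1, h2, h3, h4, h5⟩ := h.ex
    refine ⟨V.map (MulAut.conj g).toMonoidHom, h1.map _, ?_, ?_, ?_, ?_⟩
    · rintro _ ⟨w, hw, rfl⟩
      exact hN.conj_mem w (h2 hw) g
    · rintro _ ⟨w, hw, rfl⟩
      exact comm_conj g (h3 w hw)
    · rintro k hk _ ⟨w, hw, rfl⟩
      refine ⟨(g⁻¹ * k * g) * w * (g⁻¹ * k * g)⁻¹, h4 _ (comm_conj' hk) w hw, ?_⟩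
      show g * ((g⁻¹ * k * g) * w * (g⁻¹ * k * g)⁻¹) * g⁻¹ = k * (g * w * g⁻¹) * k⁻¹
      group
    · intro c hc hcz hcV
      refine ⟨g⁻¹ * c * g, h5 _ ?_ (comm_conj' hcz) ?_, ?_⟩
      · have := hN.conj_mem c hc g⁻¹
        rwa [inv_inv] at this
      · intro w hw
        exact comm_conj' (hcV _ ⟨w, hw, rfl⟩)
      · show g * (g⁻¹ * c * g) * g⁻¹ = c
        group

theorem rigid_conj [hN : N.Normal] {z : Γ} (h : Rigid N z) (g : Γ) : Rigid N (g * z * g⁻¹) := by
  intro d hd hdc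
  have h1 : g⁻¹ * d * g = 1 := by
    apply h
    · have h2 : orderOf (g⁻¹ * d * g) = orderOf d := by
        have := orderOf_injective (MulAut.conj g⁻¹).toMonoidHom (MulAut.conj g⁻¹).injective d
        rw [← this]
        congr 1
        show g⁻¹ * d * g = g⁻¹ * d * g⁻¹⁻¹
        rw [inv_inv]
      rw [h2]; exact hd
    · intro c hc hcz
      exact comm_conj' (hdc _ (hN.conj_mem c hc g) (comm_conj g hcz))
  calc d = g * (g⁻¹ * d * g) * g⁻¹ := by group
    _ = 1 := by rw [h1]; group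

end conj

/-! ### the action of `C_Γ(t)` -/

theorem dec_even : ∀ (σ : Equiv.Perm (Fin 5)), Equiv.Perm.sign σ = 1 → (∀ i, σ (σ i) = i) →
    ∀ s : Fin 5 → ZMod 2, ∑ i, s i = 0 → (∀ i, s i + s (σ i) = 0) → ∃ i, σ i = i ∧ s i = 0 := by
  decide +kernel

theorem dec_odd : ∀ (σ : Equiv.Perm (Fin 5)), Equiv.Perm.sign σ ≠ 1 → (∀ i, σ (σ i) = i) →
    ∃ a b, a ≠ b ∧ σ a = a ∧ σ b = b := by
  decide +kernel

theorem dec_four : ∀ (σ : Equiv.Perm (Fin 5)) (a : Fin 5), (∀ b, b ≠ a → σ b ≠ b) → (∀ i, σ (σ i) = i) →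
    Equiv.Perm.sign σ = 1 := by
  decide +kernel

section main

variable {Γ : Type*} [Group Γ] {N : Subgroup Γ} [hN : N.Normal] {t : ↥N}
  {Q : Subgroup (centralizer ({t} : Set ↥N))} {v : Fin 5 → centralizer ({t} : Set ↥N)}
  {ρ : centralizer ({t} : Set ↥N) →* SP}

/-- `v i` as an element of `Γ` -/
abbrev w (v : Fin 5 → centralizer ({t} : Set ↥N)) (i : Fin 5) : Γ := ((v i : ↥N) : Γ)

omit hN in
theorem up {a b : centralizer ({t} : Set ↥N)} (h : a = b) : ((a : ↥N) : Γ) = ((b : ↥N) : Γ) := by rw [h]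

omit hN in
theorem coe_zp (a : ZMod 2) : (((zp (zc t) a : centralizer ({t} : Set ↥N)) : ↥N) : Γ) = zp (t : Γ) a := by
  rcases zmod2_cases a with rfl | rfl
  · rw [zp_zero, zp_zero]; rfl
  · rw [zp_one, zp_one]

omit hN in
theorem wt (i : Fin 5) : w v i * t = t * w v i := congrArg Subtype.val (mem_cent.1 (v i).2)

omit hN in
theorem tt (H : Hyp t Q v ρ) : (t : Γ) * t = 1 := up H.M.z_sq

omit hN in
theorem zp_comm_of {g : Γ} (hg : g * t = t * g) (a : ZMod 2) : g * zp (t : Γ) a = zp (t : Γ) a * g := by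
  rcases zmod2_cases a with rfl | rfl
  · rw [zp_zero, mul_one, one_mul]
  · rw [zp_one, hg]

omit hN in
theorem w_inj (H : Hyp t Q v ρ) {a b : ZMod 2} {i j : Fin 5}
    (h : zp (t : Γ) a * w v i = zp (t : Γ) b * w v j) : a = b ∧ i = j := by
  apply H.M.v_inj
  apply Subtype.ext
  apply Subtype.ext
  show (((zp (zc t) a : centralizer ({t} : Set ↥N)) : ↥N) : Γ) * w v i =
    (((zp (zc t) b : centralizer ({t} : Set ↥N)) : ↥N) : Γ) * w v j
  rw [coe_zp, coe_zp, h]

theorem exists_act (H : Hyp t Q v ρ) {g : Γ} (hg : g * t = t * g) :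
    ∃ (σ : Equiv.Perm (Fin 5)) (s : Fin 5 → ZMod 2),
      ∀ i, g * w v i * g⁻¹ = zp (t : Γ) (s i) * w v (σ i) := by
  obtain ⟨σ, s, h⟩ := H.act (MulAut.conjNormal g) (by
    apply Subtype.ext
    rw [MulAut.conjNormal_apply, hg, mul_inv_cancel_right])
  refine ⟨σ, s, fun i => ?_⟩
  have h1 := congrArg Subtype.val (h i)
  rw [MulAut.conjNormal_apply] at h1
  rw [h1]
  show (((zp (zc t) (s i) : centralizer ({t} : Set ↥N)) : ↥N) : Γ) * w v (σ i) = _
  rw [coe_zp]

theorem mem_of_even (H : Hyp t Q v ρ) (hc : centralizer (N : Set Γ) = ⊥) {g : Γ} (hg : g * t = t * g)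
    {σ : Equiv.Perm (Fin 5)} {s : Fin 5 → ZMod 2} (h : ∀ i, g * w v i * g⁻¹ = zp (t : Γ) (s i) * w v (σ i))
    (he : Equiv.Perm.sign σ = 1) : g ∈ N := by
  obtain ⟨k, hk⟩ := H.inner (MulAut.conjNormal g) (by
    apply Subtype.ext
    rw [MulAut.conjNormal_apply, hg, mul_inv_cancel_right]) σ s (by
    intro i
    apply Subtype.ext
    rw [MulAut.conjNormal_apply]
    show _ = (((zp (zc t) (s i) : centralizer ({t} : Set ↥N)) : ↥N) : Γ) * w v (σ i)
    rw [coe_zp]
    exact h i) he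
  have h1 : (k : Γ)⁻¹ * g ∈ centralizer (N : Set Γ) := by
    rw [mem_centralizer_iff]
    intro n hn
    have h2 := congrArg Subtype.val (DFunLike.congr_fun hk ⟨n, hn⟩)
    rw [MulAut.conjNormal_apply] at h2
    have h3 : g * n * g⁻¹ = (k : Γ) * n * (k : Γ)⁻¹ := h2
    have h4 : g * n = (k : Γ) * n * (k : Γ)⁻¹ * g := by rw [← h3]; group
    calc n * ((k : Γ)⁻¹ * g) = (k : Γ)⁻¹ * ((k : Γ) * n * (k : Γ)⁻¹ * g) := by group
      _ = (k : Γ)⁻¹ * (g * n) := by rw [h4]
      _ = _ := by group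
  rw [hc, mem_bot, inv_mul_eq_one] at h1
  rw [← h1]
  exact k.2

omit hN in
theorem even_of_mem (H : Hyp t Q v ρ) {g : Γ} (hgN : g ∈ N) (hg : g * t = t * g)
    {σ : Equiv.Perm (Fin 5)} {s : Fin 5 → ZMod 2} (h : ∀ i, g * w v i * g⁻¹ = zp (t : Γ) (s i) * w v (σ i)) :
    Equiv.Perm.sign σ = 1 ∧ ∑ i, s i = 0 := by
  set c : centralizer ({t} : Set ↥N) := ⟨⟨g, hgN⟩, mem_cent.2 (Subtype.ext hg)⟩ with hc
  have h1 : ∀ i, s i = (ρ c).s i ∧ σ i = (ρ c).σ i := by
    intro i
    apply w_inj H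
    rw [← h i]
    have h2 := up (H.M.conj c i)
    have h3 : g * w v i * g⁻¹ = (((zp (zc t) ((ρ c).s i) : centralizer ({t} : Set ↥N)) : ↥N) : Γ) *
        w v ((ρ c).σ i) := h2
    rw [h3, coe_zp]
  have h2 : σ = (ρ c).σ := Equiv.ext fun i => (h1 i).2
  have h3 : s = (ρ c).s := funext fun i => (h1 i).1
  rw [h2, h3]
  exact (H.M.range _).1 ⟨c, rfl⟩

omit hN in
theorem act_sq (H : Hyp t Q v ρ) {g : Γ} (hg : g * t = t * g)
    {σ : Equiv.Perm (Fin 5)} {s : Fin 5 → ZMod 2} (h : ∀ i, g * w v i * g⁻¹ = zp (t : Γ) (s i) * w v (σ i))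
    (i : Fin 5) : (g * g) * w v i * (g * g)⁻¹ = zp (t : Γ) (s i + s (σ i)) * w v (σ (σ i)) := by
  calc (g * g) * w v i * (g * g)⁻¹ = g * (g * w v i * g⁻¹) * g⁻¹ := by group
    _ = (g * zp (t : Γ) (s i)) * w v (σ i) * g⁻¹ := by rw [h i]; group
    _ = zp (t : Γ) (s i) * (g * w v (σ i) * g⁻¹) := by rw [zp_comm_of hg]; group
    _ = _ := by rw [h, zp_add _ (tt H)]; group

omit hN in
/-- `n` with `t ↦ v a ↦ t v a` -/
theorem exists_three (H : Hyp t Q v ρ) (a : Fin 5) :
    ∃ n : Γ, n ∈ N ∧ n * t * n⁻¹ = w v a ∧ n * w v a * n⁻¹ = t * w v a := by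
  obtain ⟨n, h1, h2⟩ := H.three
  obtain ⟨c, hc⟩ := trans_v H.M 0 0 0 a
  rw [zp_zero, one_mul, one_mul] at hc
  have hc1 : ((c : ↥N) : Γ) * w v 0 * ((c : ↥N) : Γ)⁻¹ = w v a := up hc
  have hct : ((c : ↥N) : Γ) * t = t * ((c : ↥N) : Γ) := congrArg Subtype.val (mem_cent.1 c.2)
  have h1' : (n : Γ) * t * (n : Γ)⁻¹ = w v 0 := congrArg Subtype.val h1
  have h2' : (n : Γ) * w v 0 * (n : Γ)⁻¹ = t * w v 0 := congrArg Subtype.val h2
  have hct' : ((c : ↥N) : Γ)⁻¹ * t * ((c : ↥N) : Γ) = t := by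
    calc ((c : ↥N) : Γ)⁻¹ * t * ((c : ↥N) : Γ) = ((c : ↥N) : Γ)⁻¹ * (t * ((c : ↥N) : Γ)) := by group
      _ = t := by rw [← hct]; group
  have hca : ((c : ↥N) : Γ)⁻¹ * w v a * ((c : ↥N) : Γ) = w v 0 := by rw [← hc1]; group
  refine ⟨(c : ↥N) * n * ((c : ↥N) : Γ)⁻¹, N.mul_mem (N.mul_mem (c : ↥N).2 n.2) (N.inv_mem (c : ↥N).2), ?_, ?_⟩
  · calc ((c : ↥N) * n * ((c : ↥N) : Γ)⁻¹ : Γ) * t * ((c : ↥N) * n * ((c : ↥N) : Γ)⁻¹)⁻¹
        = (c : ↥N) * (n * (((c : ↥N) : Γ)⁻¹ * t * (c : ↥N)) * (n : Γ)⁻¹) * ((c : ↥N) : Γ)⁻¹ := by group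
      _ = w v a := by rw [hct', h1', hc1]
  · calc ((c : ↥N) * n * ((c : ↥N) : Γ)⁻¹ : Γ) * w v a * ((c : ↥N) * n * ((c : ↥N) : Γ)⁻¹)⁻¹
        = (c : ↥N) * (n * (((c : ↥N) : Γ)⁻¹ * w v a * (c : ↥N)) * (n : Γ)⁻¹) * ((c : ↥N) : Γ)⁻¹ := by group
      _ = (c : ↥N) * (t * w v 0) * ((c : ↥N) : Γ)⁻¹ := by rw [hca, h2']
      _ = ((c : ↥N) * t) * w v 0 * ((c : ↥N) : Γ)⁻¹ := by group
      _ = t * ((c : ↥N) * w v 0 * ((c : ↥N) : Γ)⁻¹) := by rw [hct]; group
      _ = t * w v a := by rw [hc1]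

/-- **An involution commuting with `t` commutes with some `v i`.** -/
theorem exists_comm_v (H : Hyp t Q v ρ) (hc : centralizer (N : Set Γ) = ⊥) {x : Γ} (hx : x * x = 1)
    (hxt : x * t = t * x) : ∃ i, x * w v i = w v i * x := by
  obtain ⟨σ, s, hs⟩ := exists_act H hxt
  have h2 : ∀ i, s i + s (σ i) = 0 ∧ σ (σ i) = i := by
    intro i
    have h1 := act_sq H hxt hs i
    rw [hx, one_mul, inv_one, mul_one] at h1
    have h3 : (0 : ZMod 2) = s i + s (σ i) ∧ i = σ (σ i) :=
      w_inj H (by rw [zp_zero, one_mul]; exact h1)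
    exact ⟨h3.1.symm, h3.2.symm⟩
  have hcomm : ∀ i, σ i = i → s i = 0 → x * w v i = w v i * x := by
    intro i h1 h3
    have h4 := hs i
    rw [h1, h3, zp_zero, one_mul, mul_inv_eq_iff_eq_mul] at h4
    exact h4
  by_cases he : Equiv.Perm.sign σ = 1
  · obtain ⟨-, hsum⟩ := even_of_mem H (mem_of_even H hc hxt hs he) hxt hs
    obtain ⟨i, h3, h4⟩ := dec_even σ he (fun i => (h2 i).2) s hsum (fun i => (h2 i).1)
    exact ⟨i, hcomm i h3 h4⟩
  · by_contra hno
    rw [not_exists] at hno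
    have hs1 : ∀ i, σ i = i → s i = 1 := by
      intro i hi
      rcases zmod2_cases (s i) with h | h
      · exact absurd (hcomm i hi h) (hno i)
      · exact h
    obtain ⟨a, b, hab, ha, hb⟩ := dec_odd σ he (fun i => (h2 i).2)
    have hxx : x⁻¹ = x := inv_eq_of_mul_eq_one_left hx
    have hxa : x * w v a * x = t * w v a := by
      have := hs a
      rwa [ha, hs1 a ha, zp_one, hxx] at this
    have hxb : x * w v b * x = t * w v b := by
      have := hs b
      rwa [hb, hs1 b hb, zp_one, hxx] at this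
    have hvb : w v b * w v b = 1 := up (H.M.v_sq b)
    have hanti : w v b * w v a = t * (w v a * w v b) :=
      up (H.M.v_anti b a hab.symm)
    have htt := tt H
    -- `y`
    set y : Γ := x * w v b with hy
    have hyt : y * t = t * y := by
      rw [hy]
      calc x * w v b * t = x * (w v b * t) := by group
        _ = (x * t) * w v b := by rw [wt]; group
        _ = t * (x * w v b) := by rw [hxt]; group
    have hxa' : x * w v a = t * w v a * x := by
      calc x * w v a = (x * w v a * x) * x := by rw [mul_assoc, hx, mul_one]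
        _ = _ := by rw [hxa]
    have hya : y * w v a = w v a * y := by
      rw [hy]
      calc x * w v b * w v a = x * (w v b * w v a) := by group
        _ = (x * t) * (w v a * w v b) := by rw [hanti]; group
        _ = t * (x * w v a) * w v b := by rw [hxt]; group
        _ = (t * t) * w v a * (x * w v b) := by rw [hxa']; group
        _ = w v a * (x * w v b) := by rw [htt]; group
    have hyy : y * y = t := by
      rw [hy]
      calc x * w v b * (x * w v b) = (x * w v b * x) * w v b := by group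
        _ = t * (w v b * w v b) := by rw [hxb]; group
        _ = t := by rw [hvb, mul_one]
    obtain ⟨n, hnN, hn1, hn2⟩ := exists_three H a
    set u : Γ := n * y * n⁻¹ with hu
    have hua : u * w v a = w v a * u := by
      have := comm_conj n hyt
      rwa [hn1] at this
    have huta : u * (t * w v a) = (t * w v a) * u := by
      have := comm_conj n hya
      rwa [hn2] at this
    have hut : u * t = t * u := by
      have h3 : u * t * w v a = t * u * w v a := by
        calc u * t * w v a = u * (t * w v a) := by group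
          _ = t * (w v a * u) := by rw [huta]; group
          _ = t * u * w v a := by rw [← hua]; group
      exact mul_right_cancel h3
    have huu : u * u = w v a := by
      rw [hu, ← hn1, ← hyy]; group
    obtain ⟨τ, s', hs'⟩ := exists_act H hut
    have hva : w v a * w v a = 1 := up (H.M.v_sq a)
    have hconj : ∀ i, ∃ e : ZMod 2, w v a * w v i * (w v a)⁻¹ = zp (t : Γ) e * w v i := by
      intro i
      have hvi : (w v a)⁻¹ = w v a := inv_eq_of_mul_eq_one_left hva
      rw [hvi]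
      by_cases hai : a = i
      · refine ⟨0, ?_⟩
        rw [← hai, hva, one_mul, zp_zero, one_mul]
      · refine ⟨1, ?_⟩
        have h5 : w v a * w v i = t * (w v i * w v a) :=
          up (H.M.v_anti a i hai)
        rw [zp_one, h5]
        calc t * (w v i * w v a) * w v a = t * w v i * (w v a * w v a) := by group
          _ = t * w v i := by rw [hva, mul_one]
    have hττ : ∀ i, τ (τ i) = i := by
      intro i
      have h3 := act_sq H hut hs' i
      obtain ⟨e, he'⟩ := hconj i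
      rw [huu, he'] at h3
      exact (w_inj H h3).2.symm
    have hfix : ∀ b', b' ≠ a → τ b' ≠ b' := by
      intro b' hb' hτ
      have h3 := act_sq H hut hs' b'
      rw [hτ, hτ, CharTwo.add_self_eq_zero, zp_zero, one_mul, huu, mul_inv_eq_iff_eq_mul] at h3
      apply hb'
      have h4 : v a * v b' = v b' * v a := Subtype.ext (Subtype.ext h3)
      exact ((v_comm_iff H.M a b').1 h4).symm
    have huN : u ∈ N := mem_of_even H hc hut hs' (dec_four τ a hfix hττ)
    have hyN : y ∈ N := by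
      have h3 := hN.conj_mem u huN n⁻¹
      rw [hu] at h3
      convert h3 using 1
      group
    have hxN : x ∈ N := by
      have h3 : x = y * (w v b)⁻¹ := by rw [hy]; group
      rw [h3]
      exact N.mul_mem hyN (N.inv_mem (v b : ↥N).2)
    exact he (even_of_mem H hxN hxt hs).1

theorem good_t (H : Hyp t Q v ρ) : Good N (t : Γ) where
  mem := t.2
  sq := tt H
  ne := fun h => H.M.z_ne (Subtype.ext (Subtype.ext h))
  ex := by
    refine ⟨(Q.map (centralizer ({t} : Set ↥N)).subtype).map N.subtype, ?_, ?_, ?_, ?_, ?_⟩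
    · apply IsPGroup.map
      apply IsPGroup.map
      rintro ⟨q, hq⟩
      refine ⟨2, Subtype.ext ?_⟩
      show q ^ (2 ^ 2) = 1
      rcases Cfsg.Agent.KFacts.QMinus.sq_mem H.M hq with h | h
      · rw [show (2 : ℕ) ^ 2 = 2 * 2 from rfl, pow_mul, pow_two q, h, one_pow]
      · rw [show (2 : ℕ) ^ 2 = 2 * 2 from rfl, pow_mul, pow_two q, h, pow_two, H.M.z_sq]
    · rintro _ ⟨y, _, rfl⟩
      exact y.2
    · rintro _ ⟨_, ⟨q, _, rfl⟩, rfl⟩
      exact congrArg Subtype.val (mem_cent.1 q.2)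
    · intro g hg
      obtain ⟨σ, s, hs⟩ := exists_act H hg
      have key : Q ≤ ((((Q.map (centralizer ({t} : Set ↥N)).subtype).map N.subtype).comap
          (MulAut.conj g).toMonoidHom).comap N.subtype).comap (centralizer ({t} : Set ↥N)).subtype := by
        apply Cfsg.Agent.KFacts.QMinus.Q_le H.M
        intro i
        show g * w v i * g⁻¹ ∈ (Q.map (centralizer ({t} : Set ↥N)).subtype).map N.subtype
        rw [hs i, ← coe_zp]
        exact ⟨_, ⟨zp (zc t) (s i) * v (σ i), Q.mul_mem (zp_mem Q _ H.M.z_mem _) (H.M.v_mem _), rfl⟩, rfl⟩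
      rintro _ ⟨_, ⟨q, hq, rfl⟩, rfl⟩
      exact key hq
    · intro c hcN hct hcV
      rcases Cfsg.Agent.KFacts.QMinus.cent_Q H.M (c := ⟨⟨c, hcN⟩, mem_cent.2 (Subtype.ext hct)⟩) (fun i => by
        apply Subtype.ext
        apply Subtype.ext
        exact hcV _ ⟨_, ⟨v i, H.M.v_mem i, rfl⟩, rfl⟩) with h | h
      · have h1 : c = 1 := up h
        rw [h1]; exact one_mem _
      · have h1 : c = t := up h
        rw [h1]
        exact ⟨_, ⟨zc t, H.M.z_mem, rfl⟩, rfl⟩

theorem rigid_t (H : Hyp t Q v ρ) (hc : centralizer (N : Set Γ) = ⊥) : Rigid N (t : Γ) := by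
  intro d hd hdc
  have hdt : d * t = t * d := hdc t t.2 rfl
  have hdv : ∀ i, d * w v i = w v i * d := fun i => hdc _ (v i : ↥N).2 (wt i)
  have hdN : d ∈ N := by
    apply mem_of_even H hc hdt (σ := 1) (s := fun _ => 0)
    · intro i
      rw [hdv i, mul_inv_cancel_right, zp_zero, one_mul, Equiv.Perm.one_apply]
    · exact map_one _
  rcases Cfsg.Agent.KFacts.QMinus.cent_Q H.M (c := ⟨⟨d, hdN⟩, mem_cent.2 (Subtype.ext hdt)⟩) (fun i => by
    apply Subtype.ext
    apply Subtype.ext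
    exact hdv i) with h | h
  · exact up h
  · exfalso
    have h1 : d = t := up h
    have h2 : orderOf d = 2 := by
      rw [h1]
      apply orderOf_eq_prime
      · rw [pow_two, tt H]
      · exact fun h => H.M.z_ne (Subtype.ext (Subtype.ext h))
    rw [h2] at hd
    exact absurd hd (by decide)

/-- **Local balance.** -/
theorem core_eq_bot [Finite Γ] (H : Hyp t Q v ρ) (hc : centralizer (N : Set Γ) = ⊥) {x : Γ}
    (hx : x * x = 1) : Cfsg.centralizerPPrimeCore 2 x = ⊥ := by
  obtain ⟨g, hg⟩ := exists_fix H.odd (MulAut.conjNormal x) (by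
    intro y
    apply Subtype.ext
    rw [MulAut.conjNormal_apply, MulAut.conjNormal_apply]
    calc x * (x * y * x⁻¹) * x⁻¹ = (x * x) * y * (x * x)⁻¹ := by group
      _ = y := by rw [hx]; group) (H.aut _)
  have hg1 : x * ((g : Γ) * t * (g : Γ)⁻¹) * x⁻¹ = (g : Γ) * t * (g : Γ)⁻¹ := by
    have := congrArg Subtype.val hg
    rwa [MulAut.conjNormal_apply] at this
  rw [mul_inv_eq_iff_eq_mul] at hg1
  set x' : Γ := (g : Γ)⁻¹ * x * g with hx'
  have hxt : x' * t = t * x' := comm_conj' hg1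
  have hxx' : x' * x' = 1 := by
    rw [hx']
    calc (g : Γ)⁻¹ * x * g * ((g : Γ)⁻¹ * x * g) = (g : Γ)⁻¹ * (x * x) * g := by group
      _ = 1 := by rw [hx]; group
  obtain ⟨i, hi⟩ := exists_comm_v H hc hxx' hxt
  have hgood : ∀ a : ZMod 2, Good N (zp (t : Γ) a * w v i) ∧ Rigid N (zp (t : Γ) a * w v i) := by
    intro a
    obtain ⟨k, hk⟩ := isConj_iff.1 (H.cj a i)
    have h1 : (k : Γ) * t * (k : Γ)⁻¹ = zp (t : Γ) a * w v i := by
      have h2 := congrArg Subtype.val hk
      rw [← coe_zp]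
      exact h2
    rw [← h1]
    exact ⟨good_conj (good_t H) _, rigid_conj (rigid_t H hc) _⟩
  have h0 := hgood 0
  rw [zp_zero, one_mul] at h0
  have h1 := hgood 1
  rw [zp_one] at h1
  have hxe : x = (g : Γ) * x' * (g : Γ)⁻¹ := by rw [hx']; group
  have e1 : (g : Γ) * t * (g : Γ)⁻¹ * ((g : Γ) * w v i * (g : Γ)⁻¹) = (g : Γ) * (t * w v i) * (g : Γ)⁻¹ := by
    group
  refine centralizer_core_eq_bot (N := N) (x := x) (z := (g : Γ) * t * (g : Γ)⁻¹)
    (w := (g : Γ) * w v i * (g : Γ)⁻¹) ⟨good_conj (good_t H) _, good_conj h0.1 _, ?_, ?_, ?_, ?_⟩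
    (rigid_conj (rigid_t H hc) _) (rigid_conj h0.2 _) ?_ hx
  · rw [e1]; exact good_conj h1.1 _
  · exact comm_conj _ (wt i).symm
  · rw [hxe]; exact comm_conj _ hxt
  · rw [hxe]; exact comm_conj _ hi
  · rw [e1]; exact rigid_conj h1.2 _

end main

/-! ### transport -/

section transport

variable {X Y : Type*} [Group X] [Group Y]

/-- The isomorphism of centralisers induced by an isomorphism. -/
def ce (e : X ≃* Y) (t : X) : centralizer ({t} : Set X) ≃* centralizer ({e t} : Set Y) where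
  toFun c := ⟨e c, mem_cent.2 (by rw [← map_mul, ← map_mul, mem_cent.1 c.2])⟩
  invFun c := ⟨e.symm c, mem_cent.2 (by
    have := congrArg e.symm (mem_cent.1 c.2)
    rwa [map_mul, map_mul, e.symm_apply_apply] at this)⟩
  left_inv c := Subtype.ext (e.symm_apply_apply _)
  right_inv c := Subtype.ext (e.apply_symm_apply _)
  map_mul' a b := Subtype.ext (map_mul e _ _)

theorem ce_zp (e : X ≃* Y) (t : X) (a : ZMod 2) :
    e ((zp (zc t) a : centralizer ({t} : Set X)) : X) = ((zp (zc (e t)) a : centralizer ({e t} : Set Y)) : Y) := by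
  rcases zmod2_cases a with rfl | rfl
  · rw [zp_zero, zp_zero]; exact map_one e
  · rw [zp_one, zp_one]

theorem ce_mul (e : X ≃* Y) (t : X) (a : ZMod 2) (c : centralizer ({t} : Set X)) :
    e ((zp (zc t) a * c : centralizer ({t} : Set X)) : X) =
      ((zp (zc (e t)) a * ce e t c : centralizer ({e t} : Set Y)) : Y) := by
  show e (((zp (zc t) a : centralizer ({t} : Set X)) : X) * c) =
    ((zp (zc (e t)) a : centralizer ({e t} : Set Y)) : Y) * e c
  rw [map_mul, ce_zp]

theorem isConj_map (e : X ≃* Y) {a b : X} (h : IsConj a b) : IsConj (e a) (e b) := by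
  obtain ⟨g, hg⟩ := isConj_iff.1 h
  exact isConj_iff.2 ⟨e g, by rw [← map_mul, ← map_inv, ← map_mul, hg]⟩

/-- The facts carry over along an isomorphism. -/
theorem Hyp.map (e : X ≃* Y) {t : X} {Q : Subgroup (centralizer ({t} : Set X))}
    {v : Fin 5 → centralizer ({t} : Set X)} {ρ : centralizer ({t} : Set X) →* SP} (H : Hyp t Q v ρ) :
    Hyp (e t) (Q.map (ce e t).toMonoidHom) (fun i => ce e t (v i)) (ρ.comp (ce e t).symm.toMonoidHom) where
  M := transport (ce e t) H.M
  cj a i := by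
    have h1 := isConj_map e (H.cj a i)
    rwa [ce_mul] at h1
  aut α := by
    have h1 := isConj_map e (H.aut ((e.trans α).trans e.symm))
    have h2 : e (((e.trans α).trans e.symm) t) = α (e t) := e.apply_symm_apply _
    rwa [h2] at h1
  odd := by
    have h1 : (centralizer ({t} : Set X)).map e.toMonoidHom = centralizer ({e t} : Set Y) := by
      ext y
      constructor
      · rintro ⟨x, hx, rfl⟩
        exact (ce e t ⟨x, hx⟩).2
      · intro hy
        exact ⟨_, ((ce e t).symm ⟨y, hy⟩).2, e.apply_symm_apply y⟩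
    rw [← h1]
    have h2 : ((centralizer ({t} : Set X)).map e.toMonoidHom).index = (centralizer ({t} : Set X)).index :=
      Subgroup.index_map_equiv _ e
    rw [h2]
    exact H.odd
  act α hα := by
    obtain ⟨σ, s, h⟩ := H.act ((e.trans α).trans e.symm) (by
      show e.symm (α (e t)) = t
      rw [hα, e.symm_apply_apply])
    refine ⟨σ, s, fun i => ?_⟩
    have h1 := congrArg e (h i)
    rw [ce_mul] at h1
    rw [← h1]
    exact (e.apply_symm_apply _).symm
  inner α hα σ s h he := by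
    obtain ⟨k, hk⟩ := H.inner ((e.trans α).trans e.symm) (by
      show e.symm (α (e t)) = t
      rw [hα, e.symm_apply_apply]) σ s (by
      intro i
      apply e.injective
      rw [ce_mul, ← h i]
      exact e.apply_symm_apply _) he
    refine ⟨e k, ?_⟩
    apply MulEquiv.ext
    intro y
    obtain ⟨x, rfl⟩ := e.surjective y
    have h1 := congrArg e (DFunLike.congr_fun hk x)
    have h2 : e (((e.trans α).trans e.symm) x) = α (e x) := e.apply_symm_apply _
    rw [h2] at h1
    rw [h1]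
    show e (k * x * k⁻¹) = e k * e x * (e k)⁻¹
    rw [map_mul, map_mul, map_inv]
  three := by
    obtain ⟨n, h1, h2⟩ := H.three
    refine ⟨e n, ?_, ?_⟩
    · show e n * e t * (e n)⁻¹ = e (v 0)
      rw [← map_inv, ← map_mul, ← map_mul, h1]
    · show e n * e (v 0) * (e n)⁻¹ = e t * e (v 0)
      rw [← map_inv, ← map_mul, ← map_mul, h2, map_mul]

end transport

end Cfsg.Agent.UGT.End.Five
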