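import Cfsg.Agent.Lib.ThompsonPQ
import Cfsg.Agent.Lib.KleinGen

/-!
# A four-group of involutions with centralisers of characteristic 2 (helper399)

`core_of_four`: `X ⊴ G` (or any subgroup), `x` an involution of `G`, `R ≤ X` of odd order centralised by `x` and
normalised by `C_X(x)`. If `C_X(x)` contains a four-group `V` such that for every `v ∈ V#` there is a 2-subgroup `U` of
`X`, normalised by `C_X(v)` and by `x`, with `C_X(U) ≤ U`, then `R = 1`.
-/

set_option autoImplicit false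

namespace Cfsg.Agent.UGT.End.Four

variable {G : Type*} [Group G] {X : Subgroup G} {x : G}

/-- the centraliser of `v` in `X` has characteristic 2, `x`-invariantly -/
def CharTwoAt (X : Subgroup G) (x v : G) : Prop :=
  ∃ U : Subgroup G, U ≤ X ∧ IsPGroup 2 U ∧ (∀ g ∈ X, g * v = v * g → ∀ u ∈ U, g * u * g⁻¹ ∈ U) ∧
    (∀ u ∈ U, x * u * x⁻¹ ∈ U) ∧ ∀ g ∈ X, (∀ u ∈ U, g * u = u * g) → g ∈ U

theorem mem_normalizer_of [Finite G] {U : Subgroup G} {g : G} (h : ∀ u ∈ U, g * u * g⁻¹ ∈ U) :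
    g ∈ Subgroup.normalizer (U : Set G) :=
  Subgroup.mem_normalizer_fintype (S := (U : Set G)) h

/-- `C_R(v) = 1` -/
theorem cent_eq_bot [Finite G] (hx : x * x = 1) {R : Subgroup G} (hRX : R ≤ X) (hodd : Odd (Nat.card R))
    (hRx : ∀ r ∈ R, r * x = x * r) (hn : ∀ g ∈ X, g * x = x * g → ∀ r ∈ R, g * r * g⁻¹ ∈ R)
    {v : G} (hv : CharTwoAt X x v) {d : G} (hd : d ∈ R) (hdv : d * v = v * d) : d = 1 := by
  have hfact : Fact (Nat.Prime 2) := ⟨Nat.prime_two⟩
  obtain ⟨U, hUX, hU2, hUn, hUx, hUc⟩ := hv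
  have hxi : x⁻¹ = x := inv_eq_of_mul_eq_one_left hx
  set D : Subgroup G := R ⊓ Subgroup.centralizer ({v} : Set G) with hD
  have hDodd : (Nat.card D).Coprime 2 := by
    rw [Nat.coprime_comm, Nat.coprime_two_left]
    exact hodd.of_dvd_nat (Subgroup.card_dvd_of_le inf_le_left)
  have hP : IsPGroup 2 (Subgroup.zpowers x) := by
    intro ⟨g, hg⟩
    refine ⟨1, ?_⟩
    obtain ⟨k, rfl⟩ := Subgroup.mem_zpowers_iff.1 hg
    apply Subtype.ext
    show (x ^ k) ^ (2 ^ 1) = 1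
    rw [pow_one, pow_two, ← zpow_add, ← two_mul, zpow_mul, zpow_two, hx, one_zpow]
  -- `U ∩ R = 1`
  have hUR : ∀ y, y ∈ U → y ∈ R → y = 1 := by
    intro y hyU hyR
    obtain ⟨n, hn⟩ := IsPGroup.iff_orderOf.1 hU2 ⟨y, hyU⟩
    rw [Subgroup.orderOf_mk] at hn
    have h1 : orderOf y ∣ Nat.card R := by
      have := orderOf_dvd_natCard (⟨y, hyR⟩ : R)
      rwa [Subgroup.orderOf_mk] at this
    rw [hn] at h1
    have h2 : Odd (2 ^ n) := hodd.of_dvd_nat h1
    rcases Nat.eq_zero_or_pos n with h0 | h0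
    · rw [h0, pow_zero] at hn
      exact orderOf_eq_one_iff.1 hn
    · exfalso
      rcases h2 with ⟨m, hm⟩
      have : 2 ∣ 2 ^ n := dvd_pow_self 2 (by omega)
      omega
  have hDmem : ∀ y, y ∈ D ↔ y ∈ R ∧ y * v = v * y := by
    intro y
    rw [hD, Subgroup.mem_inf, Subgroup.mem_centralizer_singleton_iff]
  have key := Cfsg.Agent.Lib.ThompsonPQ.thompson_p_times_q 2 (Subgroup.zpowers x) D U hP hDodd hU2
    (by
      rw [Subgroup.zpowers_le, Subgroup.mem_centralizer_iff]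
      intro y hy
      exact hRx y ((hDmem y).1 hy).1)
    (by
      rw [Subgroup.zpowers_le]
      exact mem_normalizer_of hUx)
    (by
      intro y hy
      obtain ⟨h1, h2⟩ := (hDmem y).1 hy
      exact mem_normalizer_of (hUn y (hRX h1) h2))
    (by
      rintro q ⟨hqU, hqx⟩
      have hqx' : q * x = x * q := by
        exact ((Subgroup.mem_centralizer_iff.1 hqx) x (Subgroup.mem_zpowers x)).symm
      rw [Subgroup.mem_centralizer_iff]
      intro y hy
      obtain ⟨h1, h2⟩ := (hDmem y).1 hy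
      have h3 : q * y * q⁻¹ * y⁻¹ ∈ R := R.mul_mem (hn q (hUX hqU) hqx' y h1) (R.inv_mem h1)
      have h4 : q * y * q⁻¹ * y⁻¹ ∈ U := by
        have := U.mul_mem hqU (hUn y (hRX h1) h2 _ (U.inv_mem hqU))
        have e : q * (y * q⁻¹ * y⁻¹) = q * y * q⁻¹ * y⁻¹ := by group
        rwa [e] at this
      have h5 := hUR _ h4 h3
      have h6 : q * y * q⁻¹ = y := by rwa [mul_inv_eq_one] at h5
      exact (mul_inv_eq_iff_eq_mul.1 h6).symm)
  have hdD : d ∈ D := (hDmem d).2 ⟨hd, hdv⟩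
  have h1 : ∀ u ∈ U, d * u = u * d := fun u hu => ((Subgroup.mem_centralizer_iff.1 (key hdD)) u hu).symm
  exact hUR d (hUc d (hRX hd) h1) hd

/-- **The four-group criterion.** -/
theorem core_of_four [Finite G] (hx : x * x = 1) {R : Subgroup G} (hRX : R ≤ X) (hodd : Odd (Nat.card R))
    (hRx : ∀ r ∈ R, r * x = x * r) (hn : ∀ g ∈ X, g * x = x * g → ∀ r ∈ R, g * r * g⁻¹ ∈ R)
    {v w : G} (hvX : v ∈ X) (hwX : w ∈ X) (hvv : v * v = 1) (hww : w * w = 1) (hvw : v * w = w * v)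
    (hvx : v * x = x * v) (hwx : w * x = x * w) (hv : CharTwoAt X x v) (hw : CharTwoAt X x w)
    (hvw' : CharTwoAt X x (v * w)) : R = ⊥ := by
  rw [eq_bot_iff]
  apply Cfsg.Agent.Lib.KleinGen.le_of_klein R ⊥ hodd v w hvv hww hvw (hn v hvX hvx) (hn w hwX hwx)
  · rintro d ⟨hd, hdv⟩
    exact cent_eq_bot hx hRX hodd hRx hn hv hd (Subgroup.mem_centralizer_singleton_iff.1 hdv)
  · rintro d ⟨hd, hdv⟩
    exact cent_eq_bot hx hRX hodd hRx hn hw hd (Subgroup.mem_centralizer_singleton_iff.1 hdv)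
  · rintro d ⟨hd, hdv⟩
    exact cent_eq_bot hx hRX hodd hRx hn hvw' hd (Subgroup.mem_centralizer_singleton_iff.1 hdv)

end Cfsg.Agent.UGT.End.Four
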