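import Cfsg.Agent.UGT.End.SylFour
import Cfsg.Agent.KFacts.HN.Cards
import Cfsg.Agent.KFacts.HN.CentTwoHN

/-!
# END(HN)

For the presented Harada-Norton group: `Good W0`, and an elementary abelian subgroup `E = ⟨W0, r Q 3, r Q 40⟩` of order 8
with all involutions conjugate to `W0`, invariant under the automorphisms which leave a Sylow 2-subgroup `S` invariant:
`E` is the preimage in `R = O₂(C(W0))` of the centralizer of `S ∩ M` in `R/⟨W0⟩`, `M = C(W0)'`.
-/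

set_option autoImplicit false
set_option maxHeartbeats 400000

namespace Cfsg.Agent.UGT.End.HN

universe u

open Cfsg.Agent.HN.Pres Cfsg.Agent.HN.P1408 Cfsg.Agent.HN.H0Basic Cfsg.Agent.HN.XMat
open Cfsg.Agent.HN.XStruct Cfsg.Agent.HN.XWords Cfsg.Agent.HN.XQuot Cfsg.Agent.HN.XInst
open Cfsg.Agent.KFacts.HN
open Cfsg.Agent.UGT.End Cfsg.Agent.UGT.End.PureFour Cfsg.Agent.UGT.End.SylFour
open Cfsg.Agent.SporadicA.PermTab (band_eq_true allB allB_iff)
open scoped commutatorElement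

/-- the presented group -/
abbrev HG : Type := Cfsg.Spor.HN

theorem finite_HG : Finite HG := finite_HN

/-! ### conjugacy -/

theorem isConj_three (b : Bool) : IsConj W0 (r Q 3 * sgn0 b) := by
  have h1 := CentTwoHN.n_W0
  have h2 := CentTwoHN.n_z'
  have h3 := CentTwoHN.z'_comm
  rw [isConj_iff]
  cases b
  · refine ⟨CentTwoHN.n, ?_⟩
    rw [h1, mul_inv_cancel_right]
    exact (mul_one _).symm
  · refine ⟨CentTwoHN.n * CentTwoHN.n, ?_⟩
    have h4 : CentTwoHN.n * CentTwoHN.n * W0 = CentTwoHN.z' * W0 * (CentTwoHN.n * CentTwoHN.n) := by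
      rw [mul_assoc, h1, ← mul_assoc, h2, ← h3, mul_assoc]
    rw [h4, mul_inv_cancel_right]
    rfl

theorem isConj_word {m : ℕ} (w : List ℕ) (hw : app (mw w) 3 = m) (b : Bool) : IsConj W0 (r Q m * sgn0 b) := by
  obtain ⟨c, hc⟩ := r_conj (e_mem_PP w) (acts_e w) 3
  rw [hw] at hc
  have h1 := isConj_three (c ^^ b)
  refine h1.trans ?_
  rw [isConj_iff]
  refine ⟨(evw Γ w)⁻¹, ?_⟩
  rw [inv_inv]
  have h2 := csg (c ^^ b) (evw Γ w) (comm_e w)
  calc (evw Γ w)⁻¹ * (r Q 3 * sgn0 (c ^^ b)) * evw Γ w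
      = (evw Γ w)⁻¹ * r Q 3 * (sgn0 (c ^^ b) * evw Γ w) := by group
    _ = (evw Γ w)⁻¹ * r Q 3 * evw Γ w * sgn0 (c ^^ b) := by rw [← h2]; group
    _ = r Q m * sgn0 b := by
      rw [hc, mul_assoc, sgn0_mul, ← Bool.xor_assoc, Bool.xor_self, Bool.false_xor]

/-- the masks of `E` -/
def EM : List ℕ := [0, 3, 40, 43]

theorem lt_of_EM {m : ℕ} (h : m ∈ EM) : m < 256 := by
  have : ∀ m ∈ EM, m < 256 := by decide
  exact this m h

theorem E_cases {m : ℕ} (hm : m ∈ EM) (b : Bool) : (r Q m * sgn0 b : HG) = 1 ∨ IsConj W0 (r Q m * sgn0 b) := by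
  have h : m = 0 ∨ m = 3 ∨ m = 40 ∨ m = 43 := by
    simpa only [EM, List.mem_cons, List.not_mem_nil, or_false] using hm
  rcases h with rfl | rfl | rfl | rfl
  · rw [show (r Q 0 : HG) = 1 from Bas.r_zero, one_mul]
    cases b
    · exact Or.inl rfl
    · exact Or.inr (IsConj.refl _)
  · exact Or.inr (isConj_three b)
  · exact Or.inr (isConj_word [0] (by decide +kernel) b)
  · exact Or.inr (isConj_word [0, 0] (by decide +kernel) b)

theorem sq_of_isConj {x : HG} (h : IsConj W0 x) : x * x = 1 := by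
  obtain ⟨g, hg⟩ := isConj_iff.1 h
  rw [← hg]
  calc g * W0 * g⁻¹ * (g * W0 * g⁻¹) = g * (W0 * W0) * g⁻¹ := by group
    _ = 1 := by rw [W0_sq, mul_one, mul_inv_cancel]

theorem E_sq {m : ℕ} (hm : m ∈ EM) (b : Bool) : (r Q m * sgn0 b) * (r Q m * sgn0 b) = (1 : HG) := by
  rcases E_cases hm b with h | h
  · rw [h, one_mul]
  · exact sq_of_isConj h

/-- the subgroup `E` -/
def EE : Subgroup HG where
  carrier := {x | ∃ m ∈ EM, ∃ b : Bool, x = r Q m * sgn0 b}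
  one_mem' := ⟨0, by decide, false, by rw [show (r Q 0 : HG) = 1 from Bas.r_zero, one_mul]; rfl⟩
  mul_mem' := by
    rintro _ _ ⟨m, hm, b, rfl⟩ ⟨m', hm', b', rfl⟩
    obtain ⟨c, hc⟩ := r_mul (a := m) (b := m')
    refine ⟨m ^^^ m', ?_, c ^^ (b ^^ b'), ?_⟩
    · have h : ∀ a ∈ EM, ∀ a' ∈ EM, a ^^^ a' ∈ EM := by decide
      exact h m hm m' hm'
    · have h3 := csg b (r Q m') (comm_r m')
      calc r Q m * sgn0 b * (r Q m' * sgn0 b') = r Q m * (sgn0 b * r Q m') * sgn0 b' := by group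
        _ = r Q m * r Q m' * (sgn0 b * sgn0 b') := by rw [← h3]; group
        _ = r Q (m ^^^ m') * (sgn0 c * sgn0 (b ^^ b')) := by rw [hc, sgn0_mul, mul_assoc]
        _ = r Q (m ^^^ m') * sgn0 (c ^^ (b ^^ b')) := by rw [sgn0_mul]
  inv_mem' := by
    rintro _ ⟨m, hm, b, rfl⟩
    rw [inv_eq_of_mul_eq_one_left (E_sq hm b)]
    exact ⟨m, hm, b, rfl⟩

theorem mem_EE {x : HG} : x ∈ EE ↔ ∃ m ∈ EM, ∃ b : Bool, x = r Q m * sgn0 b := Iff.rfl

theorem sq_EE {x : HG} (hx : x ∈ EE) : x * x = 1 := by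
  obtain ⟨m, hm, b, rfl⟩ := mem_EE.1 hx
  exact E_sq hm b

theorem isConj_EE {x : HG} (hx : x ∈ EE) (h1 : x ≠ 1) : IsConj W0 x := by
  obtain ⟨m, hm, b, rfl⟩ := mem_EE.1 hx
  exact (E_cases hm b).resolve_left h1

theorem card_EE : 8 ≤ Nat.card EE := by
  have := finite_HG
  have hmem : ∀ i : Fin 4, EM.getD i 0 ∈ EM := by decide
  have hinj : ∀ i j : Fin 4, EM.getD i 0 = EM.getD j 0 → i = j := by decide
  have h1 : Nat.card (Fin 4 × Bool) ≤ Nat.card EE := by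
    refine Nat.card_le_card_of_injective
      (fun y => (⟨r Q (EM.getD y.1 0) * sgn0 y.2, _, hmem y.1, y.2, rfl⟩ : EE)) ?_
    rintro ⟨i, b⟩ ⟨j, b'⟩ h
    obtain ⟨h1, h2⟩ := r_sgn_inj (lt_of_EM (hmem i)) (lt_of_EM (hmem j)) (congrArg Subtype.val h)
    exact Prod.ext (hinj i j h1) h2
  rw [Nat.card_prod, Nat.card_eq_fintype_card, Nat.card_eq_fintype_card, Fintype.card_fin,
    Fintype.card_bool] at h1
  exact h1

/-! ### automorphisms fixing `W0` -/

theorem aut_PP {α : MulAut HG} (h : α W0 = W0) {u : HG} (hu : u ∈ PP) : α u ∈ PP := by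
  have h1 := congrArg α (mem_PP.1 hu)
  rw [map_mul, map_mul, h] at h1
  exact mem_PP.2 h1

theorem aut_inv {α : MulAut HG} (h : α W0 = W0) : α⁻¹ W0 = W0 := by
  nth_rw 1 [← h]
  exact α.symm_apply_apply W0

theorem isPGroup_RS : IsPGroup 2 RS := IsPGroup.of_card (n := 9) card_RS

theorem aut_RS {α : MulAut HG} (h : α W0 = W0) {p : HG} (hp : p ∈ RS) : α p ∈ RS := by
  have h1 : RS.map α.toMonoidHom ≤ RS := by
    refine two_group_le ?_ ?_ (isPGroup_RS.map _)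
    · rintro _ ⟨x, hx, rfl⟩
      exact aut_PP h (RS_le_PP hx)
    · rintro u hu _ ⟨x, hx, rfl⟩
      have h2 := conj_RS (aut_PP (aut_inv h) (MM_le_PP hu)) hx
      refine ⟨_, h2, ?_⟩
      change α (α⁻¹ u * x * (α⁻¹ u)⁻¹) = u * α x * u⁻¹
      rw [map_mul, map_mul, map_inv]
      have h3 : α (α⁻¹ u) = u := α.apply_symm_apply u
      rw [h3]
  exact h1 ⟨p, hp, rfl⟩

theorem comm_PP_le : ⁅PP, PP⁆ ≤ MM := by
  rw [Subgroup.commutator_le]
  intro u hu v hv
  refine mem_MM.2 ⟨PP.mul_mem (PP.mul_mem (PP.mul_mem hu hv) (PP.inv_mem hu)) (PP.inv_mem hv), ?_⟩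
  have h1 : ρ ⟨⁅u, v⁆, PP.mul_mem (PP.mul_mem (PP.mul_mem hu hv) (PP.inv_mem hu)) (PP.inv_mem hv)⟩ =
      ρ ⟨u, hu⟩ * ρ ⟨v, hv⟩ * (ρ ⟨u, hu⟩)⁻¹ * (ρ ⟨v, hv⟩)⁻¹ := by
    rw [← map_inv, ← map_inv, ← map_mul, ← map_mul, ← map_mul]
    rfl
  rw [h1, Subgroup.mul_mem_iff_of_index_two index_LL, Subgroup.mul_mem_iff_of_index_two index_LL,
    Subgroup.mul_mem_iff_of_index_two index_LL, inv_mem_iff, inv_mem_iff]
  tauto

theorem aut_MM {α : MulAut HG} (h : α W0 = W0) {u : HG} (hu : u ∈ MM) : α u ∈ MM := by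
  have h1 : MM.map α.toMonoidHom ≤ MM := by
    have h2 : MM.map α.toMonoidHom ≤ PP := by
      rintro _ ⟨x, hx, rfl⟩
      exact aut_PP h (MM_le_PP hx)
    have h3 : MM.map α.toMonoidHom = ⁅MM.map α.toMonoidHom, MM.map α.toMonoidHom⁆ := by
      rw [← Subgroup.map_commutator, MM_perfect]
    rw [h3]
    exact (Subgroup.commutator_mono h2 h2).trans comm_PP_le
  exact h1 ⟨u, hu, rfl⟩

/-! ### `W0` is good -/

theorem good_W0 : Good W0 where
  ex := ⟨RS, isPGroup_RS, fun _ hα _ hp => aut_RS hα hp, fun y _ h => by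
    rcases cent_RS h with h | h
    · rw [h]; exact RS.one_mem
    · rw [h]; exact W0_mem_RS⟩
  triv := by
    intro α hα hodd
    rcases CentTwoHN.cent_two α hα with h | h
    · exact h
    · refine eq_one_of_odd (k := 1) ?_ hodd (pow_orderOf_eq_one α)
      rw [pow_one, pow_two, h, ← map_mul, W0_sq, map_one]

theorem good_EE {x : HG} (hx : x ∈ EE) (h1 : x ≠ 1) : Good x := good_W0.of_isConj (isConj_EE hx h1)

/-! ### the centre -/

theorem center_eq : Subgroup.center HG = ⊥ := by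
  rw [eq_bot_iff]
  intro c hc
  rw [Subgroup.mem_bot]
  have h := Subgroup.mem_center_iff.1 hc
  rcases cent_RS (x := c) (fun y _ => (h y).symm) with h1 | h1
  · exact h1
  · exfalso
    rw [h1] at h
    have h2 := CentTwoHN.n_W0
    rw [h CentTwoHN.n] at h2
    exact CentTwoHN.z'_ne (mul_right_cancel h2)

/-! ### the group `T` -/

/-- words of the elements of `T₁ × T₂` in the six 3-cycles -/
def L16 : List (List ℕ) := [[], [3, 5], [5, 3], [3, 5, 5, 3], [2, 1], [2, 1, 3, 5], [2, 1, 5, 3], [2, 1, 3, 5, 5, 3],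
  [1, 2], [1, 2, 3, 5], [1, 2, 5, 3], [1, 2, 3, 5, 5, 3], [1, 2, 2, 1], [1, 2, 2, 1, 3, 5], [1, 2, 2, 1, 5, 3],
  [1, 2, 2, 1, 3, 5, 5, 3]]

/-- the matrices -/
def M16 : List ℕ := [9241421688590303745, 8475224687663589929, 13654390591182154026, 5233191585110425858,
  9060691612712042754, 11766534525016025386, 4864741751143148073, 11346294871607804417, 13786654229675256106,
  7107281756707225858, 12196041515731714561, 8410226855471426089, 4803691457854188073, 13003871408895951361,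
  6321963277394116866, 11628588714313394474]

theorem chk16 : L16.map (fun l => mw (abw l)) = M16 := by decide +kernel

theorem chkL : ∀ l ∈ L16, ∀ i ∈ l, i < 6 := by decide

theorem nodup16 : M16.Nodup := by decide +kernel

theorem chkmul : M16.all (fun A => M16.all (fun B => force (mul A B) (fun C => M16.any (fun D => Nat.beq C D)))) =
    true := by decide +kernel

theorem chksq : M16.all (fun A => Nat.beq (mul A A) MI) = true := by decide +kernel

theorem chkfix : M16.all (fun A => EM.all (fun m => Nat.beq (app A m) m)) = true := by decide +kernel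

theorem chkmask : allB (fun m => bif M16.all (fun A => Nat.beq (app A m) m) then EM.any (fun m' => Nat.beq m m') else true)
    256 = true := by decide +kernel

theorem mem_M16 {l : List ℕ} (hl : l ∈ L16) : mw (abw l) ∈ M16 := by
  rw [← chk16]
  exact List.mem_map_of_mem (f := fun l => mw (abw l)) hl

theorem of_M16 {A : ℕ} (hA : A ∈ M16) : ∃ l ∈ L16, mw (abw l) = A := by
  rw [← chk16, List.mem_map] at hA
  exact hA

theorem mw_app (v w : List ℕ) : mw (v ++ w) = mul (mw v) (mw w) := by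
  have h1 := hyp.toBas.acts_evw (v ++ w)
  rw [evw_append] at h1
  exact acts_unique' (mw_lt _) (mul_lt _ _) h1 (hyp.toBas.acts_mul (hyp.toBas.acts_evw v) (hyp.toBas.acts_evw w))

theorem e_sq {l : List ℕ} (hl : l ∈ L16) : e (abw l) * e (abw l) = 1 := by
  rw [← e_append, ← e_nil]
  apply e_eq
  rw [mw_app]
  exact Nat.eq_of_beq_eq_true (List.all_eq_true.1 chksq _ (mem_M16 hl))

/-- the Sylow 2-subgroup `T₁ × T₂` of `A5 × A5` -/
noncomputable def T12 : Subgroup Lq where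
  carrier := {x | ∃ l ∈ L16, x = e (abw l)}
  one_mem' := ⟨[], by decide, rfl⟩
  mul_mem' := by
    rintro _ _ ⟨l, hl, rfl⟩ ⟨l', hl', rfl⟩
    have h1 := List.all_eq_true.1 (List.all_eq_true.1 chkmul _ (mem_M16 hl)) _ (mem_M16 hl')
    rw [force_eq, List.any_eq_true] at h1
    obtain ⟨D, hD, h2⟩ := h1
    obtain ⟨l'', hl'', h3⟩ := of_M16 hD
    refine ⟨l'', hl'', ?_⟩
    rw [← e_append]
    apply e_eq
    rw [mw_app, h3]
    exact Nat.eq_of_beq_eq_true h2
  inv_mem' := by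
    rintro _ ⟨l, hl, rfl⟩
    exact ⟨l, hl, inv_eq_of_mul_eq_one_left (e_sq hl)⟩

theorem mem_T12 {x : Lq} : x ∈ T12 ↔ ∃ l ∈ L16, x = e (abw l) := Iff.rfl

theorem T12_le : T12 ≤ LL := by
  rintro _ ⟨l, hl, rfl⟩
  exact abw_mem l (chkL l hl)

theorem finite_Lq : Finite Lq := by
  have := finite_HG
  exact Nat.finite_of_card_ne_zero (by rw [card_Lq]; norm_num)

theorem card_T12 : 16 ≤ Nat.card T12 := by
  have := finite_Lq
  have hmem : ∀ i : Fin 16, L16.getD i [] ∈ L16 := by decide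
  have hinj : ∀ i j : Fin 16, M16.getD i 0 = M16.getD j 0 → i = j := by decide +kernel
  have hM : ∀ i : Fin 16, mw (abw (L16.getD i [])) = M16.getD i 0 := by decide +kernel
  have h1 : Nat.card (Fin 16) ≤ Nat.card T12 := by
    refine Nat.card_le_card_of_injective (fun i => (⟨e (abw (L16.getD i [])), _, hmem i, rfl⟩ : T12)) ?_
    intro i j h
    apply hinj
    rw [← hM, ← hM]
    exact mw_of_e (congrArg Subtype.val h)
  rwa [Nat.card_eq_fintype_card, Fintype.card_fin] at h1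

theorem isPGroup_T12 : IsPGroup 2 T12 := by
  rintro ⟨x, hx⟩
  obtain ⟨l, hl, rfl⟩ := mem_T12.1 hx
  refine ⟨1, Subtype.ext ?_⟩
  change e (abw l) ^ 2 ^ 1 = 1
  rw [pow_one, pow_two, e_sq hl]

/-- the preimage in `M` -/
noncomputable def TT : Subgroup HG := (T12.comap ρ).map PP.subtype

theorem mem_TT {x : HG} : x ∈ TT ↔ ∃ h : x ∈ PP, ∃ l ∈ L16, ρ ⟨x, h⟩ = e (abw l) := by
  constructor
  · rintro ⟨u, hu, rfl⟩
    exact ⟨u.2, hu⟩
  · rintro ⟨h, hx⟩
    exact ⟨⟨x, h⟩, hx, rfl⟩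

theorem TT_le : TT ≤ MM := by
  intro x hx
  obtain ⟨h, l, hl, h1⟩ := mem_TT.1 hx
  exact mem_MM.2 ⟨h, by rw [h1]; exact T12_le ⟨l, hl, rfl⟩⟩

theorem RS_le_TT : RS ≤ TT := by
  rintro _ ⟨u, hu, rfl⟩
  refine ⟨u, ?_, rfl⟩
  have : ρ u = 1 := hu
  change ρ u ∈ T12
  rw [this]
  exact T12.one_mem

theorem isPGroup_TT : IsPGroup 2 TT := by
  refine IsPGroup.map (isPGroup_T12.comap_of_ker_isPGroup ρ ?_) _
  exact IsPGroup.of_card (n := 9) card_ker

theorem word_mem_TT {l : List ℕ} (hl : l ∈ L16) : evw Γ (abw l) ∈ TT :=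
  mem_TT.2 ⟨e_mem_PP _, l, hl, ρ_e _⟩

/-- action of an element with known class -/
theorem acts_of {x : HG} (hx : x ∈ PP) {w : List ℕ} (hw : ρ ⟨x, hx⟩ = e w) : Acts k (π W0 x) (mw w) := by
  rw [ρ_apply] at hw
  have h4 : (π W0 x)⁻¹ * evw γ w ∈ Rk := QuotientGroup.eq.1 hw
  have h0 := normal_Rk.conj_mem _ (Rk.inv_mem h4) (π W0 x)
  obtain ⟨j, hj, h1⟩ := mem_Rk.1 h0
  have h5 : π W0 x = r k j * evw γ w := by rw [← h1]; group
  rw [h5]
  exact hyp.toBas.acts_rmul (hyp.toBas.acts_evw w) j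

theorem EE_le : EE ≤ RS := by
  intro x hx
  obtain ⟨m, hm, b, rfl⟩ := mem_EE.1 hx
  exact mem_RS.2 ⟨m, lt_of_EM hm, b, rfl⟩

/-- `[E, T] ≤ ⟨W0⟩` -/
theorem EE_comm {x s : HG} (hx : x ∈ EE) (hs : s ∈ TT) : s⁻¹ * x * s = x ∨ s⁻¹ * x * s = x * W0 := by
  obtain ⟨m, hm, b, rfl⟩ := mem_EE.1 hx
  obtain ⟨h, l, hl, h1⟩ := mem_TT.1 hs
  obtain ⟨c, hc⟩ := r_conj h (acts_of h h1) m
  have h2 : app (mw (abw l)) m = m :=
    Nat.eq_of_beq_eq_true (List.all_eq_true.1 (List.all_eq_true.1 chkfix _ (mem_M16 hl)) m hm)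
  rw [h2] at hc
  have h3 := csg b s (mem_PP.1 h)
  have h4 : s⁻¹ * (r Q m * sgn0 b) * s = r Q m * sgn0 b * sgn0 c := by
    calc s⁻¹ * (r Q m * sgn0 b) * s = s⁻¹ * r Q m * (sgn0 b * s) := by group
      _ = s⁻¹ * r Q m * s * sgn0 b := by rw [← h3]; group
      _ = r Q m * sgn0 b * sgn0 c := by
        rw [hc, mul_assoc, mul_assoc, sgn0_mul, sgn0_mul, Bool.xor_comm]
  rw [h4]
  cases c
  · exact Or.inl (mul_one _)
  · exact Or.inr rfl

/-- `E` is the full preimage of `C_{R/⟨W0⟩}(T)` -/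
theorem mem_EE_of {x : HG} (hx : x ∈ RS) (h : ∀ s ∈ TT, s⁻¹ * x * s = x ∨ s⁻¹ * x * s = x * W0) : x ∈ EE := by
  obtain ⟨m, hm, b, rfl⟩ := mem_RS.1 hx
  refine mem_EE.2 ⟨m, ?_, b, rfl⟩
  have h1 : ∀ A ∈ M16, app A m = m := by
    intro A hA
    obtain ⟨l, hl, rfl⟩ := of_M16 hA
    obtain ⟨c, hc⟩ := r_conj (e_mem_PP (abw l)) (acts_e (abw l)) m
    have h2 := h _ (word_mem_TT hl)
    have h3 := csg b (evw Γ (abw l)) (comm_e _)
    have h4 : (evw Γ (abw l))⁻¹ * (r Q m * sgn0 b) * evw Γ (abw l) = r Q (app (mw (abw l)) m) * sgn0 (c ^^ b) := by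
      calc (evw Γ (abw l))⁻¹ * (r Q m * sgn0 b) * evw Γ (abw l)
          = (evw Γ (abw l))⁻¹ * r Q m * (sgn0 b * evw Γ (abw l)) := by group
        _ = (evw Γ (abw l))⁻¹ * r Q m * evw Γ (abw l) * sgn0 b := by rw [← h3]; group
        _ = r Q (app (mw (abw l)) m) * sgn0 (c ^^ b) := by rw [hc, mul_assoc, sgn0_mul]
    rw [h4] at h2
    rcases h2 with h2 | h2
    · exact (r_sgn_inj (app_lt _ _) hm h2).1
    · have h5 : r Q m * sgn0 b * W0 = r Q m * sgn0 (b ^^ true) := by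
        rw [mul_assoc, ← sgn0_mul]
        rfl
      rw [h5] at h2
      exact (r_sgn_inj (app_lt _ _) hm h2).1
  have h2 := (allB_iff _ _).1 chkmask m hm
  have h3 : M16.all (fun A => Nat.beq (app A m) m) = true := by
    rw [List.all_eq_true]
    intro A hA
    rw [h1 A hA]
    exact Nat.beq_refl m
  rw [h3, cond_true, List.any_eq_true] at h2
  obtain ⟨m', hm', h4⟩ := h2
  rw [Nat.eq_of_beq_eq_true h4]
  exact hm'

/-! ### a Sylow 2-subgroup -/

theorem exists_syl : ∃ S : Sylow 2 HG, TT ≤ S := isPGroup_TT.exists_le_sylow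

section

variable {S : Sylow 2 HG} (hS : TT ≤ S)

include hS

theorem W0_central {s : HG} (hs : s ∈ S) : W0 * s = s * W0 := by
  have : Fact (Nat.Prime 2) := ⟨Nat.prime_two⟩
  have := finite_HG
  have hne : Nontrivial S := by
    refine ⟨⟨W0, hS (RS_le_TT W0_mem_RS)⟩, 1, fun h => ?_⟩
    exact W0_ne (congrArg Subtype.val h)
  have h1 : Nontrivial (Subgroup.center S) := S.isPGroup'.center_nontrivial
  obtain ⟨⟨c, hc⟩, hc1⟩ := exists_ne (1 : Subgroup.center S)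
  have hcc := Subgroup.mem_center_iff.1 hc
  have h2 : ∀ y ∈ S, (c : HG) * y = y * c := fun y hy => (congrArg Subtype.val (hcc ⟨y, hy⟩)).symm
  rcases cent_RS (x := (c : HG)) (fun y hy => h2 y (hS (RS_le_TT hy))) with h3 | h3
  · exact absurd (Subtype.ext (Subtype.ext h3)) hc1
  · rw [← h3]; exact h2 s hs

theorem S_le_PP {s : HG} (hs : s ∈ S) : s ∈ PP := mem_PP.2 (W0_central hS hs).symm

/-- `S ∩ M = T` -/
theorem inf_MM {s : HG} (hs : s ∈ S) (hm : s ∈ MM) : s ∈ TT := by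
  have := finite_HG
  have := finite_Lq
  obtain ⟨I, hI⟩ : ∃ I : Subgroup Lq, I = (((S : Subgroup HG) ⊓ MM).comap PP.subtype).map ρ := ⟨_, rfl⟩
  have h1 : IsPGroup 2 I := by
    rw [hI]
    refine IsPGroup.map ?_ ρ
    refine IsPGroup.comap_of_injective ?_ _ PP.subtype_injective
    exact S.isPGroup'.to_le inf_le_left
  have h2 : T12 ≤ I := by
    rintro _ ⟨l, hl, rfl⟩
    rw [hI, ← ρ_e]
    have h3 := word_mem_TT hl
    exact ⟨⟨evw Γ (abw l), e_mem_PP _⟩, ⟨hS h3, TT_le h3⟩, rfl⟩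
  have h3 : I ≤ LL := by
    rw [hI]
    rintro _ ⟨u, hu, rfl⟩
    exact (mem_MM.1 hu.2).2
  have h4 : Nat.card I ≤ 16 := by
    have : Fact (Nat.Prime 2) := ⟨Nat.prime_two⟩
    obtain ⟨n, hn⟩ := IsPGroup.iff_card.1 h1
    have h5 : Nat.card I ∣ 3600 := by rw [← card_LL]; exact Subgroup.card_dvd_of_le h3
    rw [hn] at h5 ⊢
    by_contra h6
    have h7 : 4 < n := by
      by_contra h8
      exact h6 ((Nat.pow_le_pow_right (by norm_num) (by omega : n ≤ 4)).trans (by norm_num))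
    have h9 : 2 ^ 5 ∣ 3600 := (pow_dvd_pow 2 h7).trans h5
    revert h9
    decide
  have h5 : T12 = I := Subgroup.eq_of_le_of_card_ge h2 (h4.trans card_T12)
  have hp := S_le_PP hS hs
  have h6 : ρ ⟨s, hp⟩ ∈ T12 := by
    rw [h5, hI]
    exact ⟨⟨s, hp⟩, ⟨hs, hm⟩, rfl⟩
  exact mem_TT.2 ⟨hp, h6⟩

/-- an automorphism normalizing `S` leaves `E` invariant -/
theorem aut_EE {β : MulAut HG} (hβ : β * β = 1) (hβS : ∀ s ∈ S, β s ∈ S) {x : HG} (hx : x ∈ EE) : β x ∈ EE := by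
  have hββ : ∀ x, β (β x) = x := fun x => congrArg (fun φ : MulAut HG => φ x) hβ
  have hW : β W0 = W0 := by
    have h1 : ∀ y ∈ RS, β W0 * y = y * β W0 := by
      intro y hy
      have h2 := congrArg β (W0_central hS (hβS y (hS (RS_le_TT hy))))
      rwa [map_mul, map_mul, hββ] at h2
    rcases cent_RS h1 with h2 | h2
    · exfalso
      apply W0_ne
      rw [← hββ W0, h2, map_one]
    · exact h2
  have hT : ∀ s ∈ TT, β s ∈ TT := fun s hs => inf_MM hS (hβS s (hS hs)) (aut_MM hW (TT_le hs))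
  refine mem_EE_of (aut_RS hW (EE_le hx)) ?_
  intro s hs
  have h1 : s⁻¹ * β x * s = β ((β s)⁻¹ * x * β s) := by
    rw [map_mul, map_mul, map_inv, hββ]
  rw [h1]
  rcases EE_comm hx (hT s hs) with h2 | h2
  · left; rw [h2]
  · right; rw [h2, map_mul, hW]

end

/-- **END(HN)** for every group isomorphic to the presented group -/
theorem lb_of_equiv {Y : Type u} [Group Y] (e : Cfsg.Spor.HN ≃* Y) : LB Y := by
  have := finite_HG
  obtain ⟨S, hS⟩ := exists_syl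
  exact lb_of_elem' center_eq S EE card_EE (fun x hx => sq_EE hx) (fun x hx h1 => good_EE hx h1)
    (fun β hβ hβS x hx => aut_EE hS hβ hβS hx) e

theorem lb_of_iso {Y : Type u} [Group Y] (h : Cfsg.Spor.IsoHN Y) : LB Y :=
  h.elim fun e => lb_of_equiv e.symm

/-- **END(HN)** -/
theorem lb : LB Cfsg.Spor.HN := lb_of_equiv (MulEquiv.refl _)

end Cfsg.Agent.UGT.End.HN
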