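import Cfsg.Agent.TypeM.OuterInst

/-!
# Outer involutory automorphisms of groups with involution centraliser `2.A₈`: permutations

* `sign_of_sq_fpf`: `τ² ` fixed point free of square one on eight points: `τ` is even.
* `exists_std`: an odd involution of `S₈` is conjugate to `(0 1)` or to `(0 1)(2 3)(4 5)`.
* `eq_one_of_comm`: elements of odd order in the centraliser of `(0 1)(2 3)(4 5)`.
* `fix_one`, `fix_two`, `fix_v`: some fixed points of an automorphism of `2.A₈` acting as `(0 1)(2 3)(4 5)`.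
-/

set_option autoImplicit false
set_option maxRecDepth 100000
set_option Elab.async false

namespace Cfsg.Agent.UGT.End.McLPerm

open Equiv Cfsg.Agent.SporRec.TwoAn Cfsg.Agent.TypeM.CoverAut

/-- `(0 1)(2 3)(4 5)` -/
def s0 : Perm (Fin 8) := swap 0 1 * swap 2 3 * swap 4 5

/-- `(0 1)(2 3)` -/
def s1 : Perm (Fin 8) := swap 0 1 * swap 2 3

/-- `(2 3)(4 5)` -/
def s2 : Perm (Fin 8) := swap 2 3 * swap 4 5

/-- `(0 2)(1 3)(4 5)(6 7)` -/
def v0 : Perm (Fin 8) := swap 0 2 * swap 1 3 * (swap 4 5 * swap 6 7)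

theorem sign_s0 : Perm.sign s0 = -1 := by decide

/-- A permutation of eight points whose square is a fixed point free involution is even. -/
theorem sign_of_sq_fpf {τ : Perm (Fin 8)} (h4 : (τ * τ) * (τ * τ) = 1) (h : ∀ i, (τ * τ) i ≠ i) :
    Perm.sign τ = 1 := by
  have hord : orderOf τ ∣ 4 := orderOf_dvd_of_pow_eq_one (by
    rw [show (4 : ℕ) = 2 + 2 from rfl, pow_add, pow_two]
    exact h4)
  have hall : ∀ n ∈ τ.cycleType, n = 4 := by
    intro n hn
    have h1 : n ∣ 4 := (Perm.dvd_of_mem_cycleType hn).trans hord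
    have h2 : 2 ≤ n := Perm.two_le_of_mem_cycleType hn
    have h3 : n ≤ 4 := Nat.le_of_dvd (by norm_num) h1
    interval_cases n
    · exfalso
      rw [Perm.cycleType_def, Multiset.mem_map] at hn
      obtain ⟨c, hc, hc2⟩ := hn
      rw [Finset.mem_val, Perm.mem_cycleFactorsFinset_iff] at hc
      obtain ⟨x, y, hxy, rfl⟩ := Perm.card_support_eq_two.1 hc2
      have hx := hc.2 x (by rw [Perm.mem_support, swap_apply_left]; exact hxy.symm)
      have hy := hc.2 y (by rw [Perm.mem_support, swap_apply_right]; exact hxy)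
      rw [swap_apply_left] at hx
      rw [swap_apply_right] at hy
      exact h x (by rw [Perm.mul_apply, ← hx, ← hy])
    · omega
    · rfl
  have hrep := Multiset.eq_replicate_card.2 hall
  have hsupp : τ.support.card = 8 := by
    have h4 : τ.support = Finset.univ := by
      ext i
      simp only [Finset.mem_univ, iff_true, Perm.mem_support]
      intro hi
      exact h i (by rw [Perm.mul_apply, hi, hi])
    rw [h4, Finset.card_univ, Fintype.card_fin]
  have hsum := τ.sum_cycleType
  rw [hsupp] at hsum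
  have hc2 : Multiset.card τ.cycleType = 2 := by
    rw [hrep, Multiset.sum_replicate, smul_eq_mul] at hsum
    omega
  rw [Perm.sign_of_cycleType, hsum, hc2]
  decide

/-- An odd involution of `S₈` is conjugate to `(0 1)` or to `(0 1)(2 3)(4 5)`. -/
theorem exists_std {σ : Perm (Fin 8)} (h2 : σ * σ = 1) (hs : Perm.sign σ = -1) :
    ∃ ρ : Perm (Fin 8), ρ * σ * ρ⁻¹ = swap 0 1 ∨ ρ * σ * ρ⁻¹ = s0 := by
  have hsum := σ.sum_cycleType
  have h1 : σ ≠ 1 := by
    rintro rfl
    rw [map_one] at hs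
    exact absurd hs (by decide)
  have ho : orderOf σ = 2 := orderOf_eq_prime (by rw [pow_two, h2]) h1
  obtain ⟨n, hn⟩ := Perm.cycleType_prime_order (σ := σ) (by rw [ho]; exact Nat.prime_two)
  rw [ho] at hn
  rw [hn, Multiset.sum_replicate, smul_eq_mul] at hsum
  have hle : σ.support.card ≤ 8 := by
    have := Finset.card_le_univ σ.support
    rwa [Fintype.card_fin] at this
  have key : ∀ τ : Perm (Fin 8), τ * τ = 1 → τ.support.card = 2 * (n + 1) → ∃ ρ : Perm (Fin 8), ρ * σ * ρ⁻¹ = τ := by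
    intro τ hτ hτc
    have ct := Cfsg.Agent.SporRec.LyType.cycleType_of_involution hτ (k := n + 1) hτc
    exact isConj_iff.1 ((Perm.isConj_iff_cycleType_eq).2 (hn.trans ct.symm))
  rw [Perm.sign_of_cycleType, hn, Multiset.sum_replicate, Multiset.card_replicate, smul_eq_mul] at hs
  have hn4 : n < 4 := by omega
  interval_cases n
  · obtain ⟨ρ, hρ⟩ := key (swap 0 1) (by decide) (by decide)
    exact ⟨ρ, Or.inl hρ⟩
  · exact absurd hs (by decide)
  · obtain ⟨ρ, hρ⟩ := key s0 (by decide) (by decide)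
    exact ⟨ρ, Or.inr hρ⟩
  · exact absurd hs (by decide)

theorem chk : ∀ a b : Fin 8, (s1 * (swap a (s0 a) * swap b (s0 b))) * (s1 * (swap a (s0 a) * swap b (s0 b))) = 1 ∧
    (s2 * (swap a (s0 a) * swap b (s0 b))) * (s2 * (swap a (s0 a) * swap b (s0 b))) = 1 := by decide +kernel

/-- the commutators of `(0 1)(2 3)`, `(2 3)(4 5)` with elements of the centraliser of `(0 1)(2 3)(4 5)` -/
theorem comm_sq {r : Perm (Fin 8)} (h : r * s0 = s0 * r) :
    (s1 * (r * s1 * r⁻¹)) * (s1 * (r * s1 * r⁻¹)) = 1 ∧ (s2 * (r * s2 * r⁻¹)) * (s2 * (r * s2 * r⁻¹)) = 1 := by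
  have h' : ∀ i, r (s0 i) = s0 (r i) := fun i => by rw [← Perm.mul_apply, h, Perm.mul_apply]
  have e1 : r * s1 * r⁻¹ = swap (r 0) (s0 (r 0)) * swap (r 2) (s0 (r 2)) := by
    rw [s1, conj_swap_swap, ← h' 0, ← h' 2]
    rfl
  have e2 : r * s2 * r⁻¹ = swap (r 2) (s0 (r 2)) * swap (r 4) (s0 (r 4)) := by
    rw [s2, conj_swap_swap, ← h' 2, ← h' 4]
    rfl
  rw [e1, e2]
  exact ⟨(chk _ _).1, (chk _ _).2⟩

/-- If `r` commutes with the transposition `(a b)`, `r²` fixes `a` and `b`. -/
theorem sq_of_comm_swap {r : Perm (Fin 8)} {a b : Fin 8} (hab : a ≠ b) (h : r * swap a b = swap a b * r) :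
    r (r a) = a ∧ r (r b) = b := by
  have ha : r b = swap a b (r a) := by
    have := congrArg (fun f : Perm (Fin 8) => f a) h
    simpa only [Perm.mul_apply, swap_apply_left] using this
  by_cases h1 : r a = a
  · rw [h1, swap_apply_left] at ha
    exact ⟨by rw [h1, h1], by rw [ha, ha]⟩
  by_cases h2 : r a = b
  · rw [h2, swap_apply_right] at ha
    exact ⟨by rw [h2, ha], by rw [ha, h2]⟩
  · rw [swap_apply_of_ne_of_ne h1 h2] at ha
    exact absurd (r.injective ha).symm hab

/-- Elements of odd order which commute with `(0 1)(2 3)(4 5)`, `(0 1)(2 3)`, `(2 3)(4 5)` are trivial. -/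
theorem eq_one_of_comm {r : Perm (Fin 8)} {m : ℕ} (hm : Odd m) (hr : r ^ m = 1) (h0 : r * s0 = s0 * r)
    (h1 : r * s1 = s1 * r) (h2 : r * s2 = s2 * r) : r = 1 := by
  have e45 : (swap 4 5 : Perm (Fin 8)) = s0 * s1 := by decide
  have e01 : (swap 0 1 : Perm (Fin 8)) = s0 * s2 := by decide
  have e23 : (swap 2 3 : Perm (Fin 8)) = s0 * s1 * (s0 * s2) * s0 := by decide
  have c45 : r * swap 4 5 = swap 4 5 * r := by
    rw [e45, ← mul_assoc, h0, mul_assoc, h1, ← mul_assoc]
  have c01 : r * swap 0 1 = swap 0 1 * r := by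
    rw [e01, ← mul_assoc, h0, mul_assoc, h2, ← mul_assoc]
  have c23 : r * swap 2 3 = swap 2 3 * r := by
    rw [e23, ← e45, ← e01]
    calc r * (swap 4 5 * swap 0 1 * s0) = (r * swap 4 5) * swap 0 1 * s0 := by group
      _ = swap 4 5 * (r * swap 0 1) * s0 := by rw [c45]; group
      _ = swap 4 5 * swap 0 1 * (r * s0) := by rw [c01]; group
      _ = _ := by rw [h0]; group
  have a45 := sq_of_comm_swap (by decide) c45
  have a01 := sq_of_comm_swap (by decide) c01
  have a23 := sq_of_comm_swap (by decide) c23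
  have hfix : ∀ a : Fin 8, s0 a = a → a = 6 ∨ a = 7 := by decide
  have h0' : ∀ i, r (s0 i) = s0 (r i) := fun i => by rw [← Perm.mul_apply, h0, Perm.mul_apply]
  have h6 := hfix (r 6) (by rw [← h0']; rfl)
  have h7 := hfix (r 7) (by rw [← h0']; rfl)
  have a6 : r (r 6) = 6 ∧ r (r 7) = 7 := by
    rcases h6 with h6 | h6
    · rcases h7 with h7 | h7
      · exact absurd (r.injective (h6.trans h7.symm)) (by decide)
      · exact ⟨by rw [h6, h6], by rw [h7, h7]⟩
    · rcases h7 with h7 | h7
      · exact ⟨by rw [h6, h7], by rw [h7, h6]⟩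
      · exact absurd (r.injective (h6.trans h7.symm)) (by decide)
  have hrr : r * r = 1 := by
    have : ∀ i, (r * r) i = i := by
      intro i
      rw [Perm.mul_apply]
      fin_cases i
      exacts [a01.1, a01.2, a23.1, a23.2, a45.1, a45.2, a6.1, a6.2]
    exact Equiv.ext this
  obtain ⟨k, rfl⟩ := hm
  rw [pow_succ, pow_mul, pow_two, hrr, one_pow, one_mul] at hr
  exact hr

/-! ### fixed points in the cover -/

section cover

variable {C : Type*} [Group C] (K : Cover (Fin 8) C) {e : MulAut C}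

/-- An automorphism acting as `(0 1)(2 3)(4 5)` fixes the lifts of `(0 1)(2 3)`. -/
theorem fix_one (he : ∀ g, K.π (e g) = s0 * K.π g * s0⁻¹) {g : C} (hg : K.π g = s1) : e g = g := by
  rw [eq_conj_dbl K (by norm_num) he (a := 0) (b := 1) (c := 2) (d := 3) (by decide) (by decide) (by decide)
    (by decide) (by decide) (w := g) hg (by rw [hg]; rfl) (by rw [hg]; rfl) (by rw [hg]; rfl) (by rw [hg]; rfl)]
  group

/-- An automorphism acting as `(0 1)(2 3)(4 5)` fixes the lifts of `(2 3)(4 5)`. -/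
theorem fix_two (he : ∀ g, K.π (e g) = s0 * K.π g * s0⁻¹) {g : C} (hg : K.π g = s2) : e g = g := by
  rw [eq_conj_dbl K (by norm_num) he (a := 2) (b := 3) (c := 4) (d := 5) (by decide) (by decide) (by decide)
    (by decide) (by decide) (w := g) hg (by rw [hg]; rfl) (by rw [hg]; rfl) (by rw [hg]; rfl) (by rw [hg]; rfl)]
  group

/-- An automorphism acting as `(0 1)(2 3)(4 5)` fixes the lifts of `(0 2)(1 3)(4 5)(6 7)`. -/
theorem fix_v (he : ∀ g, K.π (e g) = s0 * K.π g * s0⁻¹) {v : C} (hv : K.π v = v0) : e v = v := by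
  obtain ⟨a, ha⟩ := K.exists_lift (Cover.swap_mul_swap_mem (0 : Fin 8) 2 1 3 (by decide) (by decide))
  obtain ⟨b, hb⟩ := K.exists_lift (Cover.swap_mul_swap_mem (4 : Fin 8) 5 6 7 (by decide) (by decide))
  obtain ⟨w, hw⟩ := K.exists_lift (Cover.swap_mul_swap_mem (0 : Fin 8) 1 2 3 (by decide) (by decide))
  obtain ⟨u, hu⟩ := K.exists_lift (Cover.swap_mul_swap_mem (0 : Fin 8) 1 4 5 (by decide) (by decide))
  have ez : e K.z = K.z := map_z K (by rw [Fintype.card_fin]; norm_num) e
  -- `e a = a z`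
  have e1 : e a = a * K.z := by
    rw [eq_conj_dbl K (by norm_num) he (a := 0) (b := 2) (c := 1) (d := 3) (by decide) (by decide) (by decide)
      (by decide) (by decide) (w := w) ha (by rw [hw]; rfl) (by rw [hw]; rfl) (by rw [hw]; rfl) (by rw [hw]; rfl)]
    have h5 : a * w = w * a * K.z := K.anticomm (a := 0) (b := 1) (c := 2) (d := 3) (by decide) (by decide) (by decide)
      (by decide) (by decide) (by decide) hw ha
    have h6 : w * a = a * w * K.z := by rw [h5, mul_assoc, K.z_mul_z, mul_one]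
    rw [h6, mul_assoc a w, K.z_comm w]
    group
  -- `e b = b z`
  have e2 : e b = b * K.z := by
    rw [eq_conj_dbl K (by norm_num) he (a := 4) (b := 5) (c := 6) (d := 7) (by decide) (by decide) (by decide)
      (by decide) (by decide) (w := u) hb (by rw [hu]; rfl) (by rw [hu]; rfl) (by rw [hu]; rfl) (by rw [hu]; rfl)]
    have huu : u * u = K.z := K.dbl 0 1 4 5 (by decide) (by decide) (by decide) (by decide) (by decide) (by decide) u hu
    have hbb : b * b = K.z := K.dbl 4 5 6 7 (by decide) (by decide) (by decide) (by decide) (by decide) (by decide) b hb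
    have hub : (u * b) * (u * b) = K.z := by
      refine K.dbl 0 1 6 7 (by decide) (by decide) (by decide) (by decide) (by decide) (by decide) _ ?_
      rw [map_mul, hu, hb]
      decide
    have hui : u⁻¹ = u * K.z := by rw [inv_eq_iff_mul_eq_one, ← mul_assoc, huu, K.z_mul_z]
    have hbi : b⁻¹ = b * K.z := by rw [inv_eq_iff_mul_eq_one, ← mul_assoc, hbb, K.z_mul_z]
    calc u * b * u⁻¹ = (u * b * (u * b)) * b⁻¹ * K.z := by rw [hui]; group
      _ = K.z * (b * K.z) * K.z := by rw [hub, hbi]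
      _ = K.z * b := by rw [mul_assoc, mul_assoc b, K.z_mul_z, mul_one]
      _ = b * K.z := (K.z_comm b).symm
  have e3 : e (a * b) = a * b := by
    rw [map_mul, e1, e2]
    calc a * K.z * (b * K.z) = a * (K.z * b) * K.z := by group
      _ = a * b * (K.z * K.z) := by rw [← K.z_comm b]; group
      _ = a * b := by rw [K.z_mul_z, mul_one]
  have h7 : K.π v = K.π (a * b) := by rw [hv, map_mul, ha, hb]; rfl
  rcases K.lift_eq h7 with h | h
  · rw [h, e3]
  · rw [h, map_mul, e3, ez]

end cover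

end Cfsg.Agent.UGT.End.McLPerm
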