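import Cfsg.Agent.UGT.End.CharTwo
import Cfsg.Agent.OddHalf.Small.Orth

/-!
# The node END for the orthogonal groups over the field with two elements

`Q` is a nondegenerate quadratic form of dimension at least 7 over the field with two elements, `u` a nonzero
singular vector.

* `hom`: the Eichler transformations `E(u, w)`, `w ∈ u^⊥`, form an elementary abelian group of order `2 ^ (n - 2)`;
* `not_rank`: the sectional 2-rank of `Ω(Q)` is at least 5;
* `E(u, w)` with `Q w = 0` and `E(u, w')` with `Q w' = 1` are not conjugate;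
* `lb_plus`: the node `LB X` for `X ≅ PΩ⁺(2m, 2)`, `m ≥ 4`.
-/

set_option autoImplicit false

namespace Cfsg.Agent.UGT.End.OEight

open Subgroup Cfsg QuadraticMap Matrix Module
open Cfsg.Agent.ClassicalGeometry.Reflection
open Cfsg.Agent.ClassicalGeometry.OrthCharTwo
open Cfsg.Agent.OddHalf.Small.Orth

universe u v

variable {ι : Type} [Fintype ι] [DecidableEq ι] {F : Type v} [Field F] (Q : QuadraticForm F (ι → F))

theorem neg_eq (h2 : (2 : F) = 0) (c : F) : -c = c := by linear_combination -c * h2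

theorem polar_self_two (h2 : (2 : F) = 0) (x : ι → F) : polar (⇑Q) x x = 0 := by
  rw [polar_self', h2, zero_mul]

theorem rep_ext {g h : Cfsg.Omega F (⇑Q)} (H : ∀ x, rep Q g x = rep Q h x) : g = h :=
  rep_injective Q (AddMonoidHom.ext H)

theorem rep_one (x : ι → F) : rep Q 1 x = x := by rw [map_one]; rfl

/-- The Eichler transformation in `Omega`. -/
noncomputable def ei [Finite F] (h2 : (2 : F) = 0) (hQ : (polarBilin Q).Nondegenerate)
    (hn : 5 ≤ Fintype.card ι) (u w : ι → F) (hu : Q u = 0) (huw : polar (⇑Q) u w = 0) : Cfsg.Omega F (⇑Q) :=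
  ⟨(exists_eichler Q h2 hQ hn u w hu huw).choose, (exists_eichler Q h2 hQ hn u w hu huw).choose_spec.1⟩

section

variable [Finite F] (h2 : (2 : F) = 0) (hQ : (polarBilin Q).Nondegenerate) (hn : 5 ≤ Fintype.card ι) {u : ι → F}
  (hu : Q u = 0)

theorem rep_ei {w : ι → F} (huw : polar (⇑Q) u w = 0) (x : ι → F) :
    rep Q (ei Q h2 hQ hn u w hu huw) x =
      x + (polar (⇑Q) u x • w + polar (⇑Q) w x • u + (Q w * polar (⇑Q) u x) • u) :=
  (exists_eichler Q h2 hQ hn u w hu huw).choose_spec.2 x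

/-- `E(u, w) E(u, w') = E(u, w + w')`. -/
theorem ei_mul {w w' : ι → F} (h : polar (⇑Q) u w = 0) (h' : polar (⇑Q) u w' = 0)
    (h'' : polar (⇑Q) u (w + w') = 0) :
    ei Q h2 hQ hn u (w + w') hu h'' = ei Q h2 hQ hn u w hu h * ei Q h2 hQ hn u w' hu h' := by
  apply rep_ext
  intro x
  have huu := polar_self_two Q h2 u
  have hwu : polar (⇑Q) w u = 0 := by rw [polar_comm]; exact h
  rw [rep_mul, rep_ei, rep_ei, rep_ei]
  simp only [polar_add_right, polar_smul_right, huu, hwu, h', smul_zero, add_zero, polar_add_left, map_add']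
  module

theorem ei_zero (h : polar (⇑Q) u 0 = 0) : ei Q h2 hQ hn u 0 hu h = 1 := by
  apply rep_ext
  intro x
  rw [rep_ei, rep_one]
  simp

/-- The Eichler transformations as a homomorphism. -/
noncomputable def hom : Multiplicative ↥(LinearMap.ker (polarBilin Q u)) →* Cfsg.Omega F (⇑Q) where
  toFun w := ei Q h2 hQ hn u w.toAdd.1 hu w.toAdd.2
  map_one' := ei_zero Q h2 hQ hn hu _
  map_mul' _ _ := ei_mul Q h2 hQ hn hu _ _ _

theorem mem_ker_hom {w : Multiplicative ↥(LinearMap.ker (polarBilin Q u))} (hu0 : u ≠ 0)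
    (h : hom Q h2 hQ hn hu w = 1) : ∃ c : F, c • u = w.toAdd.1 := by
  obtain ⟨v, hv⟩ := Cfsg.Agent.ClassicalGeometry.OrthCharTwo.exists_polar_ne_zero Q hQ hu0
  have h1 := rep_ei Q h2 hQ hn hu w.toAdd.2 v
  have h3 : rep Q (ei Q h2 hQ hn u w.toAdd.1 hu w.toAdd.2) v = v := by
    have h4 : ei Q h2 hQ hn u w.toAdd.1 hu w.toAdd.2 = 1 := h
    rw [h4, rep_one]
  rw [h3] at h1
  have h5 : polar (⇑Q) u v • w.toAdd.1 + polar (⇑Q) w.toAdd.1 v • u + (Q w.toAdd.1 * polar (⇑Q) u v) • u = 0 := by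
    have h6 : v + 0 = v + (polar (⇑Q) u v • w.toAdd.1 + polar (⇑Q) w.toAdd.1 v • u +
        (Q w.toAdd.1 * polar (⇑Q) u v) • u) := by rw [add_zero]; exact h1
    exact (add_left_cancel h6).symm
  refine ⟨-((polar (⇑Q) u v)⁻¹ * (polar (⇑Q) w.toAdd.1 v + Q w.toAdd.1 * polar (⇑Q) u v)), ?_⟩
  have h7 : polar (⇑Q) u v • w.toAdd.1 = -((polar (⇑Q) w.toAdd.1 v + Q w.toAdd.1 * polar (⇑Q) u v) • u) := by
    rw [add_smul, ← add_eq_zero_iff_eq_neg, ← h5, add_assoc]
  have h8 := congrArg (fun z => (polar (⇑Q) u v)⁻¹ • z) h7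
  simp only [smul_smul, inv_mul_cancel₀ hv, one_smul, smul_neg] at h8
  rw [neg_smul]
  exact h8.symm

end

/-- The sectional 2-rank of `Ω(Q)` is at least 5. -/
theorem not_rank [Finite F] (hF : Nat.card F = 2) (h2 : (2 : F) = 0) (hQ : (polarBilin Q).Nondegenerate)
    (hn : 7 ≤ Fintype.card ι) {u : ι → F} (hu0 : u ≠ 0) (hu : Q u = 0) :
    ¬ SectionalPRankLE 2 4 (Cfsg.Omega F (⇑Q)) := by
  intro hr
  have hn5 : 5 ≤ Fintype.card ι := by omega
  let f := hom Q h2 hQ hn5 hu
  have h1 := GH.Rank.pRankLE hr f.range ⟨⟨by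
    rintro ⟨_, x, rfl⟩ ⟨_, y, rfl⟩
    apply Subtype.ext
    show f x * f y = f y * f x
    rw [← map_mul, ← map_mul, mul_comm]⟩⟩ (by
    rintro _ ⟨x, rfl⟩
    rw [← map_pow]
    have h3 : x ^ 2 = 1 := by
      have h4 : (2 : ℕ) • x.toAdd = 0 := by
        rw [two_nsmul, ← two_smul F, h2, zero_smul]
      exact h4
    rw [h3, map_one])
  have h3 : Nat.card f.ker * Nat.card f.range = Nat.card (Multiplicative ↥(LinearMap.ker (polarBilin Q u))) := by
    have h4 := Subgroup.card_mul_index f.ker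
    rw [Subgroup.index_ker] at h4
    exact h4
  have h4 : Nat.card (Multiplicative ↥(LinearMap.ker (polarBilin Q u))) =
      2 ^ finrank F ↥(LinearMap.ker (polarBilin Q u)) := by
    rw [← hF]
    exact Module.natCard_eq_pow_finrank (K := F) (V := ↥(LinearMap.ker (polarBilin Q u)))
  have h5 := LinearMap.finrank_range_add_finrank_ker (polarBilin Q u)
  have h6 : finrank F (LinearMap.range (polarBilin Q u)) ≤ 1 := by
    have := Submodule.finrank_le (LinearMap.range (polarBilin Q u))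
    rwa [finrank_self] at this
  rw [finrank_fintype_fun_eq_card] at h5
  have h7 : Nat.card f.ker ≤ 2 := by
    rw [← hF]
    refine Nat.card_le_card_of_injective (fun w : f.ker => (mem_ker_hom Q h2 hQ hn5 hu hu0 w.2).choose) ?_
    intro w w' h
    have h8 := (mem_ker_hom Q h2 hQ hn5 hu hu0 w.2).choose_spec
    have h9 := (mem_ker_hom Q h2 hQ hn5 hu hu0 w'.2).choose_spec
    simp only at h
    rw [h] at h8
    apply Subtype.ext
    apply Multiplicative.toAdd.injective
    apply Subtype.ext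
    exact h8.symm.trans h9
  have h8 : 2 ^ 6 ≤ 2 ^ finrank F ↥(LinearMap.ker (polarBilin Q u)) := Nat.pow_le_pow_right (by norm_num) (by omega)
  rw [← h4, ← h3] at h8
  have h9 : Nat.card f.ker * Nat.card f.range ≤ 2 * 2 ^ 4 := Nat.mul_le_mul h7 h1
  omega

/-- Two classes of involutions. -/
theorem exists_pair [Finite F] (h2 : (2 : F) = 0) (hQ : (polarBilin Q).Nondegenerate)
    (hn : 5 ≤ Fintype.card ι) {u w w' : ι → F} (hu0 : u ≠ 0) (hu : Q u = 0) (huw : polar (⇑Q) u w = 0) (hw : Q w = 0)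
    (hwu : ∀ c : F, c • u ≠ w) (huw' : polar (⇑Q) u w' = 0) (hw' : Q w' ≠ 0) :
    ∃ a b : Cfsg.Omega F (⇑Q), orderOf a = 2 ∧ orderOf b = 2 ∧ ¬ IsConj a b := by
  have hne : ∀ (z : ι → F) (hz : polar (⇑Q) u z = 0), (∀ c : F, c • u ≠ z) → orderOf (ei Q h2 hQ hn u z hu hz) = 2 := by
    intro z hz hz'
    refine orderOf_eq_prime ?_ ?_
    · have h3 := ei_mul Q h2 hQ hn hu hz hz (by rw [polar_add_right, hz, add_zero])
      rw [_root_.sq, ← h3]
      apply rep_ext
      intro x
      have h4 : z + z = 0 := by rw [← two_smul F, h2, zero_smul]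
      rw [rep_ei, rep_one, h4]
      simp
    · intro h
      obtain ⟨c, hc⟩ := mem_ker_hom Q h2 hQ hn hu (w := Multiplicative.ofAdd ⟨z, hz⟩) hu0 h
      exact hz' c hc
  have hwu' : ∀ c : F, c • u ≠ w' := by
    intro c hc
    apply hw'
    rw [← hc, QuadraticMap.map_smul, hu, smul_zero]
  refine ⟨ei Q h2 hQ hn u w hu huw, ei Q h2 hQ hn u w' hu huw', hne w huw hwu, hne w' huw' hwu', ?_⟩
  intro hcon
  obtain ⟨g, hg⟩ := isConj_iff.1 hcon
  -- `(x, a x) = 0` for all `x`
  have ha : ∀ x, polar (⇑Q) x (rep Q (ei Q h2 hQ hn u w hu huw) x) = 0 := by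
    intro x
    rw [rep_ei, polar_add_right, polar_add_right, polar_add_right, polar_smul_right, polar_smul_right,
      polar_smul_right, polar_self_two Q h2, hw, polar_comm (⇑Q) x w, polar_comm (⇑Q) x u]
    simp only [smul_eq_mul]
    linear_combination polar (⇑Q) u x * polar (⇑Q) w x * h2
  obtain ⟨x, hx⟩ := Cfsg.Agent.ClassicalGeometry.OrthCharTwo.exists_polar_ne_zero Q hQ hu0
  have h3 : polar (⇑Q) x (rep Q (ei Q h2 hQ hn u w' hu huw') x) = 0 := by
    have h4 := ha (rep Q g⁻¹ x)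
    rw [← polar_rep Q g, ← rep_mul, ← rep_mul, ← rep_mul, mul_inv_cancel, rep_one, hg] at h4
    exact h4
  rw [rep_ei, polar_add_right, polar_add_right, polar_add_right, polar_smul_right, polar_smul_right,
    polar_smul_right, polar_self_two Q h2, polar_comm (⇑Q) x w', polar_comm (⇑Q) x u] at h3
  simp only [smul_eq_mul] at h3
  have h5 : Q w' * (polar (⇑Q) u x * polar (⇑Q) u x) = 0 := by
    linear_combination h3 - polar (⇑Q) u x * polar (⇑Q) w' x * h2
  rcases mul_eq_zero.1 h5 with h6 | h6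
  · exact hw' h6
  · exact hx (mul_self_eq_zero.1 h6)

/-- The node `LB X` for `X ≅ PΩ(Q)`, `Q` a nondegenerate quadratic form over the field with two elements. -/
theorem lb_POmega [Fintype F] (hF : Fintype.card F = 2) (hQ : (polarBilin Q).Nondegenerate)
    (hn : 7 ≤ Fintype.card ι) {u w w' : ι → F} (hu0 : u ≠ 0) (hu : Q u = 0) (huw : polar (⇑Q) u w = 0) (hw : Q w = 0)
    (hwu : ∀ c : F, c • u ≠ w) (huw' : polar (⇑Q) u w' = 0) (hw' : Q w' ≠ 0) {X : Type u} [Group X]
    (e : X ≃* Cfsg.POmega F (⇑Q)) : LB X := by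
  classical
  have h2 : (2 : F) = 0 := by
    have h3 : ((Fintype.card F : ℕ) : F) = 0 := Nat.cast_card_eq_zero F
    rw [hF] at h3
    exact_mod_cast h3
  have hc : Subgroup.center (Cfsg.Omega F (⇑Q)) = ⊥ :=
    Cfsg.Agent.LieClassical.OrthCenter.center_omega_eq_bot_char_two h2 hQ (by omega) ⟨u, hu0, hu⟩
  have hinj : Function.Injective (QuotientGroup.mk' (Subgroup.center (Cfsg.Omega F (⇑Q)))) := by
    rw [← MonoidHom.ker_eq_bot_iff, QuotientGroup.ker_mk']
    exact hc
  let f : Cfsg.Omega F (⇑Q) ≃* Cfsg.POmega F (⇑Q) :=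
    MulEquiv.ofBijective (QuotientGroup.mk' _) ⟨hinj, QuotientGroup.mk'_surjective _⟩
  let k : Cfsg.Omega F (⇑Q) ≃* X := f.trans e.symm
  have hfin : Finite X := Finite.of_equiv _ k.toEquiv
  obtain ⟨a, b, ha, hb, hab⟩ := exists_pair Q h2 hQ (by omega) hu0 hu huw hw hwu huw' hw'
  refine CharTwo.lb' (X := X) (a := k a) (b := k b) ?_ ?_ ?_ ?_ ?_
  · exact OddHalf.Small.Generic.isCharacteristicTwoType_congr k (charTwo_Omega Q hF hQ (by omega) ⟨u, hu0, hu⟩)
  · intro h
    exact not_rank Q (by rw [Nat.card_eq_fintype_card]; exact hF) h2 hQ hn hu0 hu (GH.Rank.of_equiv h k.symm)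
  · rw [MulEquiv.orderOf_eq]; exact ha
  · rw [MulEquiv.orderOf_eq]; exact hb
  · intro h
    apply hab
    obtain ⟨g, hg⟩ := isConj_iff.1 h
    refine isConj_iff.2 ⟨k.symm g, ?_⟩
    apply k.injective
    rw [map_mul, map_mul, map_inv, k.apply_symm_apply, hg]

/-- The node `LB X` for `X ≅ PΩ⁺(2m, 2)`, `m ≥ 4`. -/
theorem lb_plus [Fintype F] (hF : Fintype.card F = 2) {m : ℕ} (hm : 4 ≤ m) {X : Type u} [Group X]
    (e : X ≃* Cfsg.POmega F (Cfsg.quadFormPlus m F)) : LB X := by
  classical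
  have hQ : (polarBilin (Cfsg.Agent.LieClassical.QuadForms.plusForm m F)).Nondegenerate := by
    have hl := Cfsg.Agent.LieClassical.QuadForms.polar_plusForm_nondeg (F := F) m
    refine ⟨fun x hx => hl x hx, fun x hx => hl x fun y => ?_⟩
    rw [polar_comm]
    exact hx y
  have hs : ∀ (i : Fin m) (c : F), Cfsg.Agent.LieClassical.QuadForms.plusForm m F (Pi.single (Sum.inl i) c) = 0 := by
    intro i c
    rw [Cfsg.Agent.LieClassical.QuadForms.plusForm_apply]
    apply Finset.sum_eq_zero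
    intro j _
    have : (Pi.single (Sum.inl i) c : Fin m ⊕ Fin m → F) (Sum.inr j) = 0 := by
      rw [Pi.single_eq_of_ne]
      exact Sum.inr_ne_inl
    rw [this, mul_zero]
  have hs' : ∀ (i : Fin m) (c : F), Cfsg.Agent.LieClassical.QuadForms.plusForm m F (Pi.single (Sum.inr i) c) = 0 := by
    intro i c
    rw [Cfsg.Agent.LieClassical.QuadForms.plusForm_apply]
    apply Finset.sum_eq_zero
    intro j _
    have : (Pi.single (Sum.inr i) c : Fin m ⊕ Fin m → F) (Sum.inl j) = 0 := by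
      rw [Pi.single_eq_of_ne]
      exact Sum.inl_ne_inr
    rw [this, zero_mul]
  have h01 : (⟨0, by omega⟩ : Fin m) ≠ ⟨1, by omega⟩ := by
    intro h
    have := congrArg Fin.val h
    simp at this
  have e' : X ≃* Cfsg.POmega F (⇑(Cfsg.Agent.LieClassical.QuadForms.plusForm m F)) := by
    rw [Cfsg.Agent.LieClassical.QuadForms.coe_plusForm]
    exact e
  refine lb_POmega (Cfsg.Agent.LieClassical.QuadForms.plusForm m F) hF hQ
    (u := Pi.single (Sum.inl ⟨0, by omega⟩) 1) (w := Pi.single (Sum.inl ⟨1, by omega⟩) 1)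
    (w' := Pi.single (Sum.inl ⟨1, by omega⟩) 1 + Pi.single (Sum.inr ⟨1, by omega⟩) 1)
    (by rw [Fintype.card_sum, Fintype.card_fin]; omega) ?_ (hs _ _) ?_ (hs _ _) ?_ ?_ ?_ e'
  · intro h
    have := congrFun h (Sum.inl ⟨0, by omega⟩)
    rw [Pi.single_eq_same] at this
    exact one_ne_zero this
  · rw [Cfsg.Agent.LieClassical.QuadForms.polar_plusForm_single_inl, Pi.single_eq_of_ne Sum.inr_ne_inl, mul_zero]
  · intro c h
    have := congrFun h (Sum.inl ⟨1, by omega⟩)
    rw [Pi.single_eq_same, Pi.smul_apply, Pi.single_eq_of_ne (fun h' => h01 (Sum.inl.inj h').symm), smul_zero] at this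
    exact zero_ne_one this
  · rw [polar_add_right, Cfsg.Agent.LieClassical.QuadForms.polar_plusForm_single_inl,
      Cfsg.Agent.LieClassical.QuadForms.polar_plusForm_single_inr, Pi.single_eq_of_ne Sum.inr_ne_inl, mul_zero,
      Pi.single_eq_of_ne (fun h' => h01 (Sum.inl.inj h').symm), mul_zero, add_zero]
  · rw [map_add', hs, hs', Cfsg.Agent.LieClassical.QuadForms.polar_plusForm_single_inr, Pi.single_eq_same, mul_one,
      zero_add, zero_add]
    exact one_ne_zero

end Cfsg.Agent.UGT.End.OEight
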