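import Cfsg.Agent.WeakTI.BenderAct
import Cfsg.Agent.SuzukiRankOne.PSUModel
import Cfsg.Agent.AschCrit.PSUTorus

/-!
# The rank-one facts for `PSU₃(2^n)` in coordinates

The set-up of `WeakTI.BenderModel.exists_facts` with the coordinates `Heis σ` on the Sylow 2-subgroup and
all the diagonal elements.
-/

set_option autoImplicit false

namespace Cfsg.Agent.UGT.End.PSUCoord

open Subgroup Pointwise Matrix
open Cfsg.Agent.LieRecognition Cfsg.Agent.LieRecognition.HermHeis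
  Cfsg.Agent.SuzukiRankOne.PSUModel Cfsg.Agent.LieRecognition.PSUThreeSylow
  Cfsg.Agent.WeakTI.BenderAct Cfsg.Agent.AschCrit.PSUTorus
open MulAction (stabilizer)

variable {F : Type*} [Field F] [Finite F] [CharP F 2] {σ : F →+* F}
  [hσ : Fact (∀ x, σ (σ x) = x)] {n : ℕ}

omit [Finite F] [CharP F 2] hσ in
theorem dia_det (α : F) (h0 : α ≠ 0) :
    (!![α, 0, 0; 0, σ α / α, 0; 0, 0, (σ α)⁻¹] : Matrix (Fin 3) (Fin 3) F).det = 1 := by
  have h1 : σ α ≠ 0 := (map_ne_zero σ).mpr h0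
  rw [Matrix.det_fin_three]
  simp
  field_simp

/-- The element `diag (α, σ α / α, (σ α)⁻¹)`. -/
def dia (α : F) (h0 : α ≠ 0) : SUJ σ :=
  ⟨⟨!![α, 0, 0; 0, σ α / α, 0; 0, 0, (σ α)⁻¹], dia_det α h0⟩, by
    have h1 : σ α ≠ 0 := (map_ne_zero σ).mpr h0
    change (!![α, 0, 0; 0, σ α / α, 0; 0, 0, (σ α)⁻¹] : Matrix (Fin 3) (Fin 3) F)ᵀ * Jm F *
      (!![α, 0, 0; 0, σ α / α, 0; 0, 0, (σ α)⁻¹] : Matrix (Fin 3) (Fin 3) F).map σ = Jm F
    ext i j
    fin_cases i <;> fin_cases j <;>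
      simp [Jm, Matrix.mul_apply, Fin.sum_univ_three, Matrix.transpose_apply, h0, h1, hσ.out]⟩

omit [Finite F] [CharP F 2] in
theorem dia_mem_borel (α : F) (h0 : α ≠ 0) : dia (σ := σ) α h0 ∈ borel σ := by
  rw [mem_borel]
  constructor <;> simp [dia]

theorem dia_mem_torus (α : F) (h0 : α ≠ 0) : dia (σ := σ) α h0 ∈ torus σ := by
  rw [mem_torus]
  refine ⟨dia_mem_borel α h0, ?_⟩
  rw [wel_inv, mem_borel, coe_mul_SUJ, coe_mul_SUJ, wel_val]
  rw [(mul_Jm_apply _ 1).1, (Jm_mul_apply _ 2).2.1, (mul_Jm_apply _ 2).1, (Jm_mul_apply _ 2).2.2]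
  constructor <;> simp [dia]

theorem dia_mul_emb (α : F) (h0 : α ≠ 0) (x : Heis σ) :
    dia (σ := σ) α h0 * emb σ x = emb σ (scal α h0 x) * dia α h0 := by
  obtain ⟨β, hβ, e, -, -, h⟩ := exists_scal (dia_mem_torus (σ := σ) α h0)
  have : β = α := e.symm
  subst this
  exact h x

theorem exists_coord (hn : 1 ≤ n) (hs : ∀ x, σ x = x ^ (2 ^ n)) (hF : Nat.card F = (2 ^ n) ^ 2) :
    ∃ (H S : Subgroup (Cfsg.PSU 3 F (2 ^ n))) (w : Cfsg.PSU 3 F (2 ^ n)) (ψ : Heis σ ≃* S),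
      Facts (Cfsg.PSU 3 F (2 ^ n)) (Cfsg.PSU 3 F (2 ^ n) ⧸ H) (QuotientGroup.mk 1) w S 3 ∧
      (∀ (α : F) (h0 : α ≠ 0), ∃ y ∈ H, w⁻¹ * y * w ∈ H ∧
        ∀ x : Heis σ, y * (ψ x : Cfsg.PSU 3 F (2 ^ n)) = ψ (scal α h0 x) * y) ∧
      (∀ y ∈ H, w⁻¹ * y * w ∈ H → ∃ (α : F) (h0 : α ≠ 0),
        ∀ x : Heis σ, y * (ψ x : Cfsg.PSU 3 F (2 ^ n)) = ψ (scal α h0 x) * y) := by
  have hq : 1 < 2 ^ n := Nat.one_lt_two_pow (by omega)
  obtain ⟨x₀, hx₀⟩ := HermHeis.exists_heis_a (σ := σ) hq hs hF 1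
  have hx : ∃ x : Heis σ, x.a ≠ 0 := ⟨x₀, by rw [hx₀]; exact one_ne_zero⟩
  obtain ⟨c, hc⟩ := HermHeis.exists_not_fixed (σ := σ) hq hs hF
  obtain ⟨T, T', hTT', hT⟩ := exists_T hc
  let e : SUJ σ ≃* Cfsg.SU 3 F (2 ^ n) :=
    ((conjT hTT').subgroupMap (SUJ σ)).trans (MulEquiv.subgroupCongr (SU_eq_map hs hTT' hT))
  let π : SUJ σ →* Cfsg.PSU 3 F (2 ^ n) :=
    (QuotientGroup.mk' (Subgroup.center (Cfsg.SU 3 F (2 ^ n)))).comp e.toMonoidHom
  have hπ : Function.Surjective π := (QuotientGroup.mk'_surjective _).comp e.surjective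
  have hker : ∀ g, π g = 1 ↔ g ∈ Subgroup.center (SUJ σ) := by
    intro g
    have h1 : π g = 1 ↔ e g ∈ Subgroup.center (Cfsg.SU 3 F (2 ^ n)) := by
      rw [← QuotientGroup.eq_one_iff]
      exact Iff.rfl
    rw [h1, Subgroup.mem_center_iff, Subgroup.mem_center_iff]
    constructor
    · intro h k
      apply e.injective
      rw [map_mul, map_mul]
      exact h (e k)
    · intro h k
      obtain ⟨k, rfl⟩ := e.surjective k
      rw [← map_mul, ← map_mul, h k]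
  have hkB : π.ker ≤ borel σ := by
    intro g hg
    exact center_le_borel hx ((hker g).mp hg)
  have hD := data_map data_SUJ π hπ hkB
  have hinj : ∀ x : Heis σ, π (emb σ x) = 1 → x = 1 := by
    intro x h
    exact eq_one_of_mem_center ((hker _).mp h)
  have hinj2 : Function.Injective (π.comp (emb σ)) := by
    rw [injective_iff_map_eq_one]
    exact hinj
  have hSr : (π.comp (emb σ)).range = (emb σ).range.map π := by
    rw [MonoidHom.range_comp]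
  let ψ : Heis σ ≃* ((emb σ).range.map π : Subgroup (Cfsg.PSU 3 F (2 ^ n))) :=
    (MonoidHom.ofInjective hinj2).trans (MulEquiv.subgroupCongr hSr)
  have hψ : ∀ x, (ψ x : Cfsg.PSU 3 F (2 ^ n)) = π (emb σ x) := fun _ => rfl
  have htor : ∀ g' : Cfsg.PSU 3 F (2 ^ n), g' ∈ (torus σ).map π ↔
      g' ∈ (borel σ).map π ∧ (π (wel σ))⁻¹ * g' * π (wel σ) ∈ (borel σ).map π := by
    intro g'
    obtain ⟨g, rfl⟩ := hπ g'
    constructor
    · rintro ⟨k, hk, hkg⟩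
      obtain ⟨h1, h2⟩ := mem_torus.mp hk
      rw [← hkg]
      exact ⟨⟨k, h1, rfl⟩, ⟨_, h2, by simp⟩⟩
    · rintro ⟨h1, h2⟩
      refine ⟨g, mem_torus.mpr ⟨mem_of_map_mem π hkB h1, mem_of_map_mem π hkB ?_⟩, rfl⟩
      simpa using h2
  have hpar : ∀ x ∈ (emb σ).range.map π, ∃ y : Heis σ, (ψ y : Cfsg.PSU 3 F (2 ^ n)) = x := by
    intro x hx
    obtain ⟨y, hy⟩ := ψ.surjective ⟨x, hx⟩
    exact ⟨y, by rw [hy]⟩
  have hψm : ∀ x y : Heis σ, (ψ x : Cfsg.PSU 3 F (2 ^ n)) * (ψ y : Cfsg.PSU 3 F (2 ^ n)) =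
      (ψ (x * y) : Cfsg.PSU 3 F (2 ^ n)) := by
    intro x y
    rw [map_mul]; rfl
  have hψ1 : ∀ x : Heis σ, (ψ x : Cfsg.PSU 3 F (2 ^ n)) = 1 ↔ x = 1 := by
    intro x
    constructor
    · intro h
      exact ψ.injective (Subtype.ext (by rw [h, map_one]; rfl))
    · rintro rfl
      rw [map_one]; rfl
  refine ⟨(borel σ).map π, (emb σ).range.map π, π (wel σ), ψ, ⟨?_, ?_, ?_, ?_, ?_⟩, ?_, ?_⟩
  · refine setup_of_data hD ?_ ?_ (T := (torus σ).map π) htor ?_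
    · rw [← map_mul, wel_mul_wel, map_one]
    · rw [← Nat.card_congr ψ.toEquiv, HermHeis.card_heis hq hs hF]
      exact (Nat.even_pow' (by norm_num)).mpr ((Nat.even_pow' (by omega)).mpr even_two)
    · have h1 : Nat.card ((torus σ).map π) ∣ Nat.card (torus σ) := Subgroup.card_map_dvd _ _
      have h2 := h1.trans (card_torus_dvd (σ := σ))
      refine Odd.of_dvd_nat ?_ h2
      rw [Nat.card_units, hF]
      refine Nat.Even.sub_odd ?_ ?_ odd_one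
      · exact Nat.one_le_pow _ _ (by omega)
      · exact (Nat.even_pow' (by norm_num)).mpr ((Nat.even_pow' (by omega)).mpr even_two)
  · intro x hx
    obtain ⟨y, rfl⟩ := hpar x hx
    rw [hψm, hψm, hψ1, HermHeis.mul_self_eq_one_iff, mul_a, CharTwo.add_self_eq_zero]
  · intro x hx hxx y hy
    obtain ⟨x, rfl⟩ := hpar x hx
    obtain ⟨y, rfl⟩ := hpar y hy
    rw [hψm, hψ1, HermHeis.mul_self_eq_one_iff] at hxx
    rw [hψm, hψm]
    congr 2
    rw [HermHeis.commute_iff, hxx, map_zero, zero_mul, mul_zero]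
  · intro x hx y hy
    have key : ∀ x : Cfsg.PSU 3 F (2 ^ n), x ∈ stabilizer (Cfsg.PSU 3 F (2 ^ n))
        (QuotientGroup.mk 1 : Cfsg.PSU 3 F (2 ^ n) ⧸ (borel σ).map π) ⊓
        stabilizer (Cfsg.PSU 3 F (2 ^ n))
          (π (wel σ) • (QuotientGroup.mk 1 : Cfsg.PSU 3 F (2 ^ n) ⧸ (borel σ).map π)) →
        ∃ k ∈ torus σ, π k = x := by
      intro x hx
      obtain ⟨h1, h2⟩ := mem_inf.mp hx
      rw [stab_one] at h1
      rw [mem_stab_smul] at h2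
      exact (htor x).mpr ⟨h1, h2⟩
    obtain ⟨k, hk, rfl⟩ := key x hx
    obtain ⟨l, hl, rfl⟩ := key y hy
    rw [← map_mul, ← map_mul]
    congr 1
    have h1 : (⟨k, hk⟩ : torus σ) * ⟨l, hl⟩ = ⟨l, hl⟩ * ⟨k, hk⟩ := by
      apply torusHom_injective
      rw [map_mul, map_mul, mul_comm]
    exact congrArg Subtype.val h1
  · have h1 : Nat.card ((emb σ).range.map π : Subgroup (Cfsg.PSU 3 F (2 ^ n))) = (2 ^ n) ^ 3 := by
      rw [← Nat.card_congr ψ.toEquiv, HermHeis.card_heis hq hs hF]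
    have h2 : Nat.card {x : Cfsg.PSU 3 F (2 ^ n) // x ∈ (emb σ).range.map π ∧ x * x = 1} = 2 ^ n := by
      refine Eq.trans ?_ (HermHeis.card_fixed (σ := σ) hq hs hF).1
      symm
      refine Nat.card_congr (Equiv.ofBijective
        (fun b : {x : F // σ x = x} => (⟨(ψ (zet b.1 b.2) : Cfsg.PSU 3 F (2 ^ n)),
          (ψ (zet b.1 b.2)).2, by
            rw [hψm, hψ1, HermHeis.mul_self_eq_one_iff, zet_a]⟩ :
          {x : Cfsg.PSU 3 F (2 ^ n) // x ∈ (emb σ).range.map π ∧ x * x = 1})) ⟨?_, ?_⟩)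
      · intro b c hbc
        have h4 : (ψ (zet b.1 b.2) : Cfsg.PSU 3 F (2 ^ n)) = ψ (zet c.1 c.2) :=
          congrArg (fun z : {x : Cfsg.PSU 3 F (2 ^ n) // x ∈ (emb σ).range.map π ∧ x * x = 1} =>
            (z : Cfsg.PSU 3 F (2 ^ n))) hbc
        have h3 := ψ.injective (Subtype.ext h4)
        exact Subtype.ext (congrArg Heis.b h3)
      · rintro ⟨x, hx, hxx⟩
        obtain ⟨y, rfl⟩ := hpar x hx
        have hy : y.a = 0 := by
          rwa [hψm, hψ1, HermHeis.mul_self_eq_one_iff] at hxx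
        refine ⟨⟨y.b, b_fixed_of_a_eq_zero hy⟩, ?_⟩
        apply Subtype.ext
        show (ψ (zet y.b _) : Cfsg.PSU 3 F (2 ^ n)) = ψ y
        congr 2
        exact Heis.ext hy.symm rfl
    rw [h1, h2]
  · intro α h0
    refine ⟨π (dia α h0), ⟨_, dia_mem_borel α h0, rfl⟩,
      ⟨_, (mem_torus.mp (dia_mem_torus (σ := σ) α h0)).2, by simp⟩, fun x => ?_⟩
    rw [hψ, hψ, ← map_mul, ← map_mul, dia_mul_emb]
  · intro y hy hwy
    obtain ⟨g, hg, rfl⟩ := (htor y).mpr ⟨hy, hwy⟩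
    obtain ⟨α, h0, -, -, -, hα⟩ := exists_scal hg
    refine ⟨α, h0, fun x => ?_⟩
    rw [hψ, hψ, ← map_mul, ← map_mul, hα]

end Cfsg.Agent.UGT.End.PSUCoord
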