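import Cfsg.Agent.UGT.End.CharTwo
import Cfsg.Agent.OddHalf.Small.PslChar
import Cfsg.Agent.LieClassical.SLGen
import Cfsg.Agent.UGT.C.Iface

/-!
# The node END for `PSL_n(F)`, `n ≥ 3`, in characteristic two

* `no_strong`: `PSL_n(F)`, `n ≥ 3`, `F` of characteristic two, has no strongly embedded subgroup;
* `not_rank`: the sectional 2-rank of `PSL_n(F)` is at least 5 if `|F| ^ (n - 1) ≥ 32`;
* `lb`: the node `LB X` for `X ≅ PSL_n(F)`.
-/

set_option autoImplicit false
set_option linter.unusedSectionVars false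

namespace Cfsg.Agent.UGT.End.PslTwo

open Subgroup Cfsg Matrix Module Cfsg.Agent.LieClassical.SLGen

universe u v

variable {ι : Type*} [Fintype ι] [DecidableEq ι] {F : Type v} [Field F] [Finite F]

/-- Root elements of `PSL`. -/
def X {i j : ι} (h : i ≠ j) (a : F) : ProjectiveSpecialLinearGroup ι F :=
  QuotientGroup.mk' _ (SpecialLinearGroup.transvection h a)

theorem X_comm {i j k l : ι} (h : i ≠ j) (h' : k ≠ l) (h1 : i ≠ l) (h2 : k ≠ j) (a b : F) :
    Commute (X (F := F) h a) (X h' b) := by
  show X h a * X h' b = X h' b * X h a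
  unfold X
  rw [← map_mul, ← map_mul]
  congr 1
  apply smul_ext
  intro v
  rw [mul_smul, mul_smul, transvection_smul, transvection_smul, transvection_smul, transvection_smul]
  simp only [Pi.add_apply, Pi.smul_apply, Pi.single_eq_of_ne h1.symm, Pi.single_eq_of_ne h2.symm, smul_zero, add_zero]
  abel

variable [CharP F 2]

theorem orderOf_X {i j : ι} (h : i ≠ j) {a : F} (ha : a ≠ 0) : orderOf (X h a) = 2 := by
  refine orderOf_eq_prime ?_ ?_
  · rw [pow_two]
    unfold X
    rw [← map_mul]
    have h1 : SpecialLinearGroup.transvection h a * SpecialLinearGroup.transvection h a = 1 := by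
      apply smul_ext
      intro v
      rw [mul_smul, transvection_smul, transvection_smul, one_smul]
      simp only [Pi.add_apply, Pi.smul_apply, Pi.single_eq_of_ne h.symm, smul_zero, add_zero]
      rw [add_assoc, ← add_smul, CharTwo.add_self_eq_zero, zero_smul, add_zero]
    rw [h1, map_one]
  · intro h1
    have h2 : SpecialLinearGroup.transvection h a ∈ center (SpecialLinearGroup ι F) :=
      (QuotientGroup.eq_one_iff _).1 h1
    rw [SpecialLinearGroup.transvection_mem_center_iff] at h2
    exact ha h2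

/-- A strongly embedded subgroup containing a root element contains everything. -/
theorem false_of_mem (hn : 3 ≤ Fintype.card ι) {H : Subgroup (ProjectiveSpecialLinearGroup ι F)}
    (hH : IsStronglyEmbedded H) {i j : ι} (h : i ≠ j) {a : F} (ha : a ≠ 0) (hX : X h a ∈ H) : False := by
  have hf : Finite (SpecialLinearGroup ι F) := inferInstance
  have key : ∀ {i j k l : ι} (h : i ≠ j) (h' : k ≠ l) (_ : i ≠ l) (_ : k ≠ j),
      (∃ a : F, a ≠ 0 ∧ X h a ∈ H) → ∀ b : F, X h' b ∈ H := by
    rintro i j k l h h' h1 h2 ⟨a, ha, haH⟩ b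
    exact TwoFusion.StronglyEmbeddedBasic.mem_of_commute hH haH (orderOf_X h ha) (X_comm h' h h2 h1 b a)
  have hall : ∀ (k l : ι) (h' : k ≠ l) (b : F), X h' b ∈ H := by
    intro k l h' b
    obtain ⟨m, hm⟩ : ∃ m, m ∉ ({i, k} : Finset ι) := by
      by_contra hcon
      push Not at hcon
      have h1 : (Finset.univ : Finset ι) ⊆ {i, k} := fun x _ => hcon x
      have h2 := Finset.card_le_card h1
      have h3 : ({i, k} : Finset ι).card ≤ 2 := Finset.card_le_two
      rw [Finset.card_univ] at h2
      omega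
    rw [Finset.mem_insert, Finset.mem_singleton, not_or] at hm
    have h1 : X (Ne.symm hm.1) (1 : F) ∈ H := key h (Ne.symm hm.1) (Ne.symm hm.1) h ⟨a, ha, hX⟩ 1
    have h2 : X (Ne.symm hm.2) (1 : F) ∈ H :=
      key (Ne.symm hm.1) (Ne.symm hm.2) (Ne.symm hm.1) (Ne.symm hm.2) ⟨1, one_ne_zero, h1⟩ 1
    exact key (Ne.symm hm.2) h' h' (Ne.symm hm.2) ⟨1, one_ne_zero, h2⟩ b
  apply hH.1
  rw [eq_top_iff]
  rintro y -
  obtain ⟨s, rfl⟩ := QuotientGroup.mk'_surjective _ y
  have h1 : s ∈ H.comap (QuotientGroup.mk' (center (SpecialLinearGroup ι F))) := by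
    have h2 : Subgroup.closure (transvections ι F) ≤ H.comap (QuotientGroup.mk' (center (SpecialLinearGroup ι F))) := by
      rw [closure_le]
      rintro _ ⟨k, l, h', c, rfl⟩
      exact hall k l h' c
    rw [closure_transvections] at h2
    exact h2 (mem_top s)
  exact h1

/-- `PSL_n(F)` has no strongly embedded subgroup. -/
theorem no_strong (hn : 3 ≤ Fintype.card ι) (H : Subgroup (ProjectiveSpecialLinearGroup ι F)) :
    ¬ IsStronglyEmbedded H := by
  intro hH
  have hf : Finite (SpecialLinearGroup ι F) := inferInstance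
  obtain ⟨i, j, h⟩ := Fintype.exists_pair_of_one_lt_card (α := ι) (by omega)
  obtain ⟨t, ht, ht2⟩ := TwoFusion.StronglyEmbeddedBasic.exists_involution hH
  obtain ⟨g, hg⟩ := isConj_iff.1 (TwoFusion.StronglyEmbeddedBasic.isConj_of_involutions hH t (X h (1 : F)) ht2
    (orderOf_X h one_ne_zero))
  refine false_of_mem hn (CharTwo.isStronglyEmbedded_comap (MulAut.conj g⁻¹) hH) h (one_ne_zero (α := F)) ?_
  show g⁻¹ * X h (1 : F) * g⁻¹⁻¹ ∈ H
  have e : g⁻¹ * X h (1 : F) * g⁻¹⁻¹ = t := by rw [← hg]; group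
  rw [e]; exact ht

/-! ### the rank -/

/-- The forms vanishing on `w`. -/
abbrev A (w : ι → F) : Type _ := Multiplicative ↥(LinearMap.ker (Module.Dual.eval F (ι → F) w))

omit [Finite F] in
theorem exists_tr (w : ι → F) (f : A w) :
    ∃ g : SpecialLinearGroup ι F, ∀ v, g.1 *ᵥ v = v + (f.toAdd.1 : Module.Dual F (ι → F)) v • w :=
  OddHalf.Small.PslChar.exists_transvection w f.toAdd.1 f.toAdd.2

/-- The transvection with centre `w`. -/
noncomputable def tr (w : ι → F) (f : A w) : SpecialLinearGroup ι F := (exists_tr w f).choose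

omit [Finite F] in
theorem tr_apply (w : ι → F) (f : A w) (v : ι → F) :
    (tr w f).1 *ᵥ v = v + (f.toAdd.1 : Module.Dual F (ι → F)) v • w :=
  (exists_tr w f).choose_spec v

omit [Finite F] in
/-- The transvections with centre `w`. -/
noncomputable def hom (w : ι → F) : A w →* SpecialLinearGroup ι F where
  toFun f := tr w f
  map_one' := by
    apply OddHalf.Small.PslChar.ext_mulVec
    intro v
    rw [tr_apply]
    show v + (0 : Module.Dual F (ι → F)) v • w = (1 : Matrix ι ι F) *ᵥ v
    rw [LinearMap.zero_apply, zero_smul, add_zero, one_mulVec]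
  map_mul' f g := by
    apply OddHalf.Small.PslChar.ext_mulVec
    intro v
    have hf : (f.toAdd.1 : Module.Dual F (ι → F)) w = 0 := f.toAdd.2
    rw [OddHalf.Small.PslChar.act_mul, tr_apply, tr_apply, tr_apply]
    show v + (f.toAdd.1 + g.toAdd.1 : Module.Dual F (ι → F)) v • w = _
    rw [LinearMap.add_apply, map_add, map_smul, hf, smul_zero, add_zero, add_smul]
    abel

omit [Finite F] in
theorem hom_apply (w : ι → F) (f : A w) (v : ι → F) :
    (hom w f).1 *ᵥ v = v + (f.toAdd.1 : Module.Dual F (ι → F)) v • w := tr_apply w f v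

omit [Finite F] in
theorem hom_injective {w : ι → F} (hw : w ≠ 0) : Function.Injective (hom w) := by
  rw [injective_iff_map_eq_one]
  intro f hf
  have h1 : (f.toAdd.1 : Module.Dual F (ι → F)) = 0 := by
    apply LinearMap.ext
    intro v
    have h2 := hom_apply w f v
    rw [hf] at h2
    have h3 : ((1 : SpecialLinearGroup ι F).1) *ᵥ v = v := one_mulVec v
    rw [h3] at h2
    have h4 : (f.toAdd.1 : Module.Dual F (ι → F)) v • w = 0 := by
      have h5 : v + 0 = v + (f.toAdd.1 : Module.Dual F (ι → F)) v • w := by rw [add_zero]; exact h2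
      exact (add_left_cancel h5).symm
    exact (smul_eq_zero.1 h4).resolve_right hw
  exact Multiplicative.toAdd.injective (Subtype.ext h1)

omit [Finite F] in
theorem sq_hom (w : ι → F) (f : A w) : f * f = 1 := by
  apply Multiplicative.toAdd.injective
  show f.toAdd + f.toAdd = 0
  rw [← two_smul F, CharTwo.two_eq_zero, zero_smul]

/-- The sectional 2-rank. -/
theorem not_rank (hn : 1 ≤ Fintype.card ι) (hq : 32 ≤ Nat.card F ^ (Fintype.card ι - 1)) :
    ¬ SectionalPRankLE 2 4 (ProjectiveSpecialLinearGroup ι F) := by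
  intro hr
  have hf : Finite (SpecialLinearGroup ι F) := inferInstance
  obtain ⟨i⟩ : Nonempty ι := Fintype.card_pos_iff.1 (by omega)
  obtain ⟨w, hw⟩ : ∃ w : ι → F, w ≠ 0 := by
    refine ⟨Pi.single i 1, fun h => ?_⟩
    have := congrFun h i
    rw [Pi.single_eq_same] at this
    exact one_ne_zero this
  let f : A w →* ProjectiveSpecialLinearGroup ι F := (QuotientGroup.mk' _).comp (hom w)
  have hfi : Function.Injective f := by
    rw [injective_iff_map_eq_one]
    intro a ha
    have h1 : hom w a ∈ center (SpecialLinearGroup ι F) := (QuotientGroup.eq_one_iff _).1 ha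
    have h2 : hom w a * hom w a = 1 := by rw [← map_mul, sq_hom, map_one]
    have h3 := OddHalf.Small.PslChar.center_sq h1 h2
    exact hom_injective hw (h3.trans (map_one _).symm)
  have hfin : Finite (A w) := Finite.of_injective f hfi
  have h1 : SectionalPRankLE 2 4 (A w) := GH.Rank.of_injective hr f hfi
  have h2 := GH.Rank.card_le h1 (fun a b => mul_comm a b) (fun a => by rw [pow_two, sq_hom])
  have h3 : Nat.card (A w) =
      Nat.card F ^ finrank F ↥(LinearMap.ker (Module.Dual.eval F (ι → F) w)) :=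
    Module.natCard_eq_pow_finrank (K := F) (V := ↥(LinearMap.ker (Module.Dual.eval F (ι → F) w)))
  have h5 := LinearMap.finrank_range_add_finrank_ker (Module.Dual.eval F (ι → F) w)
  have h6 : finrank F (LinearMap.range (Module.Dual.eval F (ι → F) w)) ≤ 1 := by
    have := Submodule.finrank_le (LinearMap.range (Module.Dual.eval F (ι → F) w))
    rwa [finrank_self] at this
  rw [Subspace.dual_finrank_eq, finrank_fintype_fun_eq_card] at h5
  have h7 : 1 < Nat.card F := Finite.one_lt_card
  have h8 : Nat.card F ^ (Fintype.card ι - 1) ≤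
      Nat.card F ^ finrank F ↥(LinearMap.ker (Module.Dual.eval F (ι → F) w)) :=
    Nat.pow_le_pow_right h7.le (by omega)
  rw [h3] at h2
  have h9 : 2 ^ 4 = 16 := by norm_num
  omega

/-- The node `LB X` for `X ≅ PSL_n(F)`. -/
theorem lb {n : ℕ} (hn : 3 ≤ n) (hq : 32 ≤ Nat.card F ^ (n - 1)) {X : Type u} [Group X]
    (e : X ≃* ProjectiveSpecialLinearGroup (Fin n) F) : LB X := by
  have := Fintype.ofFinite F
  have hf : Finite (SpecialLinearGroup (Fin n) F) := inferInstance
  have hfin : Finite X := Finite.of_equiv _ e.symm.toEquiv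
  refine CharTwo.lb (OddHalf.Small.PslChar.psl (F := F) (ringChar.eq F 2) (by omega) e) ?_ ?_
  · intro h
    exact not_rank (ι := Fin n) (F := F) (by rw [Fintype.card_fin]; omega) (by rw [Fintype.card_fin]; exact hq)
      (GH.Rank.of_equiv h e)
  · intro H hH
    exact no_strong (ι := Fin n) (F := F) (by rw [Fintype.card_fin]; exact hn) _ (CharTwo.isStronglyEmbedded_comap e.symm hH)

/-- `PSL₃(q)`, `q ≥ 8` even. -/
theorem lb_three {F : Type v} [Field F] [Fintype F] (hF : Even (Fintype.card F)) (h8 : 8 ≤ Fintype.card F)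
    {X : Type u} [Group X] (e : X ≃* ProjectiveSpecialLinearGroup (Fin 3) F) : LB X := by
  obtain ⟨p, hp⟩ := CharP.exists F
  have hpp : p.Prime := (CharP.char_is_prime_or_zero F p).resolve_right (fun h0 => by
    subst h0
    exact CharP.char_ne_zero_of_finite F 0 rfl)
  obtain ⟨n, -, hn⟩ := FiniteField.card F p
  have h2 : 2 ∣ p := by
    have h3 : 2 ∣ p ^ (n : ℕ) := by rw [← hn]; exact even_iff_two_dvd.1 hF
    exact Nat.prime_two.dvd_of_dvd_pow h3
  have h3 : p = 2 := ((Nat.prime_dvd_prime_iff_eq Nat.prime_two hpp).1 h2).symm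
  subst h3
  refine lb (le_refl 3) ?_ e
  rw [Nat.card_eq_fintype_card]
  calc 32 ≤ 8 ^ 2 := by norm_num
    _ ≤ Fintype.card F ^ 2 := Nat.pow_le_pow_left h8 2

/-- `PSL₃(4^(2^k))`, `k ≥ 1`. -/
theorem lb_big {X : Type u} [Group X] (h : C.IsL3Big X) : LB X := by
  obtain ⟨F, _, _, k, hk, hF, ⟨e⟩⟩ := h
  have h1 : 2 ≤ 2 ^ k := by
    calc 2 = 2 ^ 1 := (pow_one 2).symm
      _ ≤ 2 ^ k := Nat.pow_le_pow_right (by norm_num) hk
  refine lb_three (F := F) ?_ ?_ e
  · rw [hF]
    exact Even.pow_of_ne_zero (by decide) (by positivity)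
  · rw [hF]
    calc 8 ≤ 4 ^ 2 := by norm_num
      _ ≤ 4 ^ (2 ^ k) := Nat.pow_le_pow_right (by norm_num) h1

end Cfsg.Agent.UGT.End.PslTwo
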