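import Cfsg.Agent.UGT.End
import Cfsg.Agent.S0028

/-!
# END(X) from pure four-groups

Let `X` be a finite group with trivial centre. An element `w` of `X` is *good* if there is a 2-subgroup `P` invariant under
all automorphisms fixing `w`, which contains its centralizer in `C(w)`, and if no automorphism of odd order centralizes
`C(w)`. If every automorphism `α` of `X` with `α² = 1` fixes involutions `z, v` such that `z`, `v`, `z v` are good, then
`O(C_G(x)) = 1` for all involutions `x` of the groups `G` with `F*(G) = X`: each of `z, v, zv` acts fixed point freely on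
`O(C_G(x))` by the `P × Q` lemma.
-/

set_option autoImplicit false
set_option maxHeartbeats 400000

open Cfsg Subgroup
open Cfsg.Agent.UGT.End
open Cfsg.Agent.Intrinsic.Basic

namespace Cfsg.Agent.UGT.End.PureFour

universe u v

/-- `w` has a constrained centralizer and no automorphism of odd order centralizes `C(w)`. -/
structure Good {X : Type*} [Group X] (w : X) : Prop where
  ex : ∃ P : Subgroup X, IsPGroup 2 P ∧ (∀ α : MulAut X, α w = w → ∀ p ∈ P, α p ∈ P) ∧
    ∀ y, y * w = w * y → (∀ p ∈ P, y * p = p * y) → y ∈ P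
  triv : ∀ α : MulAut X, (∀ c, c * w = w * c → α c = c) → Odd (orderOf α) → α = 1

section

variable {X : Type*} [Group X]

theorem conj_inj (hZ : center X = ⊥) {a b : X} (h : MulAut.conj a = MulAut.conj b) : a = b := by
  have h1 : MulAut.conj (b⁻¹ * a) = 1 := by rw [map_mul, map_inv, h, inv_mul_cancel]
  have h2 : b⁻¹ * a ∈ center X := by
    rw [mem_center_iff]
    intro g
    have h3 := congrArg (fun φ : MulAut X => φ g) h1
    change b⁻¹ * a * g * (b⁻¹ * a)⁻¹ = g at h3
    exact (mul_inv_eq_iff_eq_mul.mp h3).symm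
  rw [hZ, mem_bot] at h2
  exact (inv_mul_eq_one.mp h2).symm

theorem conj_apply_aut (α : MulAut X) (p : X) : α * MulAut.conj p * α⁻¹ = MulAut.conj (α p) := by
  ext g
  change α (p * α⁻¹ g * p⁻¹) = α p * g * (α p)⁻¹
  rw [map_mul, map_mul, map_inv]
  congr 2
  exact α.apply_symm_apply g

/-- being good is invariant under automorphisms -/
theorem Good.map {w : X} (h : Good w) (β : MulAut X) : Good (β w) := by
  obtain ⟨P, hP, hinv, hc⟩ := h.ex
  refine ⟨⟨P.map β.toMonoidHom, hP.map _, ?_, ?_⟩, ?_⟩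
  · rintro α hα _ ⟨p, hp, rfl⟩
    have h1 : (β⁻¹ * α * β) w = w := by
      change β⁻¹ (α (β w)) = w
      rw [hα]; exact β.symm_apply_apply w
    refine ⟨(β⁻¹ * α * β) p, hinv _ h1 p hp, ?_⟩
    change β (β⁻¹ (α (β p))) = α (β p)
    exact β.apply_symm_apply _
  · intro y hy hyP
    refine ⟨β.symm y, hc _ ?_ ?_, β.apply_symm_apply y⟩
    · apply β.injective
      rw [map_mul, map_mul, β.apply_symm_apply, hy]
    · intro p hp
      apply β.injective
      rw [map_mul, map_mul, β.apply_symm_apply]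
      exact hyP _ ⟨p, hp, rfl⟩
  · intro α hα hodd
    have h1 : β⁻¹ * α * β = 1 := by
      apply h.triv
      · intro c hc
        change β⁻¹ (α (β c)) = c
        rw [hα (β c) (by rw [← map_mul, hc, map_mul])]
        exact β.symm_apply_apply c
      · have h2 : orderOf (β⁻¹ * α * β) = orderOf α := by
          have h3 := MulEquiv.orderOf_eq (MulAut.conj β⁻¹) α
          rw [MulAut.conj_apply, inv_inv] at h3
          exact h3
        rwa [h2]
    calc α = β * (β⁻¹ * α * β) * β⁻¹ := by group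
      _ = 1 := by rw [h1, mul_one, mul_inv_cancel]

theorem Good.conj {w : X} (h : Good w) (g : X) : Good (g * w * g⁻¹) := h.map (MulAut.conj g)

theorem Good.of_isConj {w v : X} (h : Good w) (hv : IsConj w v) : Good v := by
  obtain ⟨g, hg⟩ := isConj_iff.mp hv
  rw [← hg]; exact h.conj g

end

section

variable {X : Type*} [Group X] [Finite X]

/-- an element of odd order which is of 2-power order is trivial -/
theorem eq_one_of_odd {A : Type*} [Group A] {a : A} {k : ℕ} (h1 : a ^ 2 ^ k = 1) {n : ℕ} (hn : Odd n) (h2 : a ^ n = 1) :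
    a = 1 := by
  have h3 : Nat.Coprime (2 ^ k) n := (Nat.Coprime.pow_left k (Nat.coprime_two_left.mpr hn))
  have h4 := Nat.dvd_gcd (orderOf_dvd_of_pow_eq_one h1) (orderOf_dvd_of_pow_eq_one h2)
  rw [h3] at h4
  exact orderOf_eq_one_iff.mp (Nat.dvd_one.mp h4)

/-- **Key step**: the elements of `D` fixing a good fixed element of `α` are trivial. -/
theorem key (hZ : center X = ⊥) {α : MulAut X} (hα : α * α = 1) {D : Subgroup (MulAut X)}
    (hD : Odd (Nat.card D)) (hDα : ∀ d ∈ D, d * α = α * d)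
    (hDn : ∀ y, α y = y → ∀ d ∈ D, MulAut.conj y * d * (MulAut.conj y)⁻¹ ∈ D) {w : X} (hw : Good w)
    {d : MulAut X} (hd : d ∈ D) (hdw : d w = w) (hαw : α w = w) : d = 1 := by
  have hfin : Finite (MulAut X) := Finite.of_injective (fun a : MulAut X => (a : X → X)) DFunLike.coe_injective
  obtain ⟨P, hP, hinv, hc⟩ := hw.ex
  have hdo : Odd (orderOf d) := by
    have h1 : orderOf (⟨d, hd⟩ : D) ∣ Nat.card D := orderOf_dvd_natCard _
    rw [Subgroup.orderOf_mk] at h1
    exact Odd.of_dvd_nat hD h1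
  have hcommute : ∀ p, α p = p → p ∈ P → d p = p := by
    intro p hp hpP
    have h1 : MulAut.conj (p * (d p)⁻¹) ∈ D := by
      have h2 := D.mul_mem (hDn p hp d hd) (D.inv_mem hd)
      have h3 : MulAut.conj p * d * (MulAut.conj p)⁻¹ * d⁻¹ = MulAut.conj (p * (d p)⁻¹) := by
        rw [map_mul, ← map_inv, ← map_inv, ← conj_apply_aut]; group
      rwa [h3] at h2
    have h2 : p * (d p)⁻¹ ∈ P := P.mul_mem hpP (P.inv_mem (hinv d hdw p hpP))
    obtain ⟨k, hk⟩ := hP ⟨_, h2⟩
    have hk' : (p * (d p)⁻¹) ^ 2 ^ k = 1 := congrArg Subtype.val hk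
    have h3 : MulAut.conj (p * (d p)⁻¹) = 1 := by
      refine eq_one_of_odd (k := k) ?_ hD ?_
      · rw [← map_pow, hk', map_one]
      · have h4 : (⟨_, h1⟩ : D) ^ Nat.card D = 1 := pow_card_eq_one'
        exact congrArg Subtype.val h4
    have h4 : p * (d p)⁻¹ = 1 := conj_inj hZ (by rw [h3, map_one])
    exact (mul_inv_eq_one.mp h4).symm
  -- the `P × Q` lemma
  have hPQ : ∀ p ∈ P, d p = p := by
    have : Fact (Nat.Prime 2) := ⟨Nat.prime_two⟩
    have h1 := Cfsg.Agent.S0028.result 2 (zpowers α) (zpowers d) (P.map MulAut.conj) ?_ ?_ (hP.map _) ?_ ?_ ?_ ?_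
    · intro p hp
      have h2 := mem_centralizer_iff.mp (h1 (mem_zpowers d)) (MulAut.conj p) ⟨p, hp, rfl⟩
      have h3 : d * MulAut.conj p * d⁻¹ = MulAut.conj p := by rw [← h2]; group
      rw [conj_apply_aut] at h3
      exact conj_inj hZ h3
    · rw [IsPGroup]
      rintro ⟨g, hg⟩
      obtain ⟨i, rfl⟩ := mem_zpowers_iff.mp hg
      refine ⟨1, Subtype.ext ?_⟩
      change (α ^ i) ^ 2 ^ 1 = 1
      rw [pow_one, ← zpow_natCast, ← zpow_mul, mul_comm, zpow_mul]
      have : α ^ ((2 : ℕ) : ℤ) = 1 := by rw [zpow_natCast, pow_two, hα]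
      rw [this, one_zpow]
    · rw [Nat.card_zpowers]
      exact Nat.coprime_two_right.mpr hdo
    · rw [zpowers_le, mem_centralizer_iff]
      intro g hg
      obtain ⟨i, rfl⟩ := mem_zpowers_iff.mp hg
      have : Commute d α := hDα d hd
      exact (this.zpow_left i)
    · rw [zpowers_le, mem_normalizer_iff]
      intro g
      constructor
      · rintro ⟨p, hp, rfl⟩
        rw [conj_apply_aut]
        exact ⟨_, hinv α hαw p hp, rfl⟩
      · rintro ⟨p, hp, hpg⟩
        have h2 : g = α⁻¹ * MulAut.conj p * α⁻¹⁻¹ := by rw [hpg]; group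
        rw [h2, conj_apply_aut]
        refine ⟨_, hinv α⁻¹ ?_ p hp, rfl⟩
        nth_rw 1 [← hαw]
        exact α.symm_apply_apply w
    · rw [zpowers_le, mem_normalizer_iff]
      intro g
      constructor
      · rintro ⟨p, hp, rfl⟩
        rw [conj_apply_aut]
        exact ⟨_, hinv d hdw p hp, rfl⟩
      · rintro ⟨p, hp, hpg⟩
        have h2 : g = d⁻¹ * MulAut.conj p * d⁻¹⁻¹ := by rw [hpg]; group
        rw [h2, conj_apply_aut]
        refine ⟨_, hinv d⁻¹ ?_ p hp, rfl⟩
        nth_rw 1 [← hdw]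
        exact d.symm_apply_apply w
    · rintro _ ⟨⟨p, hp, rfl⟩, hpc⟩
      have h2 := mem_centralizer_iff.mp hpc α (mem_zpowers α)
      have h3 : α * MulAut.conj p * α⁻¹ = MulAut.conj p := by
        rw [h2]
        exact mul_inv_cancel_right _ _
      rw [conj_apply_aut] at h3
      have h4 := hcommute p (conj_inj hZ h3) hp
      have h5 : d * MulAut.conj p = MulAut.conj p * d := by
        have := conj_apply_aut d p
        rw [h4] at this
        exact mul_inv_eq_iff_eq_mul.mp this
      rw [mem_centralizer_iff]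
      intro g hg
      obtain ⟨i, rfl⟩ := mem_zpowers_iff.mp hg
      have : Commute d (MulAut.conj p) := h5
      exact this.zpow_left i
  -- `d` centralizes `C(w)`
  apply hw.triv d _ hdo
  intro g hg
  have h1 : ∀ p ∈ P, (g⁻¹ * d g) * p = p * (g⁻¹ * d g) := by
    intro p hp
    have h2 : g * p * g⁻¹ ∈ P := hinv (MulAut.conj g) (by
      change g * w * g⁻¹ = w
      rw [hg]; group) p hp
    have h3 := hPQ _ h2
    rw [map_mul, map_mul, hPQ p hp, map_inv] at h3
    calc g⁻¹ * d g * p = g⁻¹ * (d g * p * (d g)⁻¹) * d g := by group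
      _ = p * (g⁻¹ * d g) := by rw [h3]; group
  have hdg : d g * w = w * d g := by
    have := congrArg d hg
    rwa [map_mul, map_mul, hdw] at this
  have h2 : g⁻¹ * d g ∈ P := by
    apply hc _ _ h1
    have h3 : g⁻¹ * w = w * g⁻¹ := by
      rw [inv_mul_eq_iff_eq_mul, ← mul_assoc, hg, mul_inv_cancel_right]
    rw [mul_assoc, hdg, ← mul_assoc, h3, mul_assoc]
  have h3 : ∀ n : ℕ, (d ^ n) g = g * (g⁻¹ * d g) ^ n := by
    intro n
    induction n with
    | zero => simp
    | succ n ih =>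
      rw [pow_succ']
      change d ((d ^ n) g) = _
      rw [ih, map_mul, map_pow, hPQ _ h2, pow_succ', ← mul_assoc, mul_inv_cancel_left]
  have h4 := h3 (orderOf d)
  rw [pow_orderOf_eq_one] at h4
  change g = g * _ at h4
  have h5 : (g⁻¹ * d g) ^ orderOf d = 1 := (left_eq_mul.mp h4)
  obtain ⟨k, hk⟩ := hP ⟨_, h2⟩
  have h6 : g⁻¹ * d g = 1 := eq_one_of_odd (congrArg Subtype.val hk) hdo h5
  exact (inv_mul_eq_one.mp h6).symm

/-- `D` is inverted by the good involutions fixed by `α` -/
theorem inverts (hZ : center X = ⊥) {α : MulAut X} (hα : α * α = 1) {D : Subgroup (MulAut X)}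
    (hD : Odd (Nat.card D)) (hDα : ∀ d ∈ D, d * α = α * d)
    (hDn : ∀ y, α y = y → ∀ d ∈ D, MulAut.conj y * d * (MulAut.conj y)⁻¹ ∈ D) {w : X} (hw : Good w) (hw2 : w * w = 1)
    (hαw : α w = w) {d : MulAut X} (hd : d ∈ D) : MulAut.conj w * d * (MulAut.conj w)⁻¹ = d⁻¹ := by
  have hfin : Finite (MulAut X) := Finite.of_injective (fun a : MulAut X => (a : X → X)) DFunLike.coe_injective
  let φ : D →* D :=
    { toFun := fun d => ⟨MulAut.conj w * d * (MulAut.conj w)⁻¹, hDn w hαw d d.2⟩
      map_one' := Subtype.ext (by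
        change MulAut.conj w * 1 * (MulAut.conj w)⁻¹ = 1
        rw [mul_one, mul_inv_cancel])
      map_mul' := fun a b => Subtype.ext (by
        change MulAut.conj w * ((a : MulAut X) * b) * (MulAut.conj w)⁻¹ =
          (MulAut.conj w * a * (MulAut.conj w)⁻¹) * (MulAut.conj w * b * (MulAut.conj w)⁻¹)
        group) }
  have hfix : MonoidHom.FixedPointFree φ := by
    intro a ha
    have h1 : MulAut.conj w * (a : MulAut X) * (MulAut.conj w)⁻¹ = a := congrArg Subtype.val ha
    have h2 : (a : MulAut X) * MulAut.conj w * (a : MulAut X)⁻¹ = MulAut.conj w := by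
      have h3 := mul_inv_eq_iff_eq_mul.mp h1
      rw [← h3, mul_inv_cancel_right]
    rw [conj_apply_aut] at h2
    exact Subtype.ext (key hZ hα hD hDα hDn hw a.2 (conj_inj hZ h2) hαw)
  have hinv : Function.Involutive φ := by
    intro a
    apply Subtype.ext
    change MulAut.conj w * (MulAut.conj w * (a : MulAut X) * (MulAut.conj w)⁻¹) * (MulAut.conj w)⁻¹ = a
    have h1 : MulAut.conj w * MulAut.conj w = 1 := by rw [← map_mul, hw2, map_one]
    have h2 : (MulAut.conj w)⁻¹ = MulAut.conj w := inv_eq_of_mul_eq_one_left h1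
    rw [h2]
    calc MulAut.conj w * (MulAut.conj w * (a : MulAut X) * MulAut.conj w) * MulAut.conj w
        = (MulAut.conj w * MulAut.conj w) * a * (MulAut.conj w * MulAut.conj w) := by group
      _ = a := by rw [h1, one_mul, mul_one]
  have h := MonoidHom.FixedPointFree.coe_eq_inv_of_involutive hfix hinv
  have h3 := congrFun h ⟨d, hd⟩
  exact congrArg Subtype.val h3

/-- **`D = 1`** -/
theorem eq_bot (hZ : center X = ⊥) {α : MulAut X} (hα : α * α = 1) {D : Subgroup (MulAut X)}
    (hD : Odd (Nat.card D)) (hDα : ∀ d ∈ D, d * α = α * d)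
    (hDn : ∀ y, α y = y → ∀ d ∈ D, MulAut.conj y * d * (MulAut.conj y)⁻¹ ∈ D) {z v : X} (hz : Good z) (hv : Good v)
    (hzv : Good (z * v)) (hz2 : z * z = 1) (hv2 : v * v = 1) (hαz : α z = z) (hαv : α v = v) : D = ⊥ := by
  rw [eq_bot_iff]
  intro d hd
  rw [mem_bot]
  have h1 := inverts hZ hα hD hDα hDn hz hz2 hαz (D.inv_mem hd)
  have h2 := inverts hZ hα hD hDα hDn hv hv2 hαv hd
  have h3 : MulAut.conj (z * v) * d * (MulAut.conj (z * v))⁻¹ = d := by
    rw [map_mul]
    calc MulAut.conj z * MulAut.conj v * d * (MulAut.conj z * MulAut.conj v)⁻¹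
        = MulAut.conj z * (MulAut.conj v * d * (MulAut.conj v)⁻¹) * (MulAut.conj z)⁻¹ := by group
      _ = d := by rw [h2, h1, inv_inv]
  have h4 : d * MulAut.conj (z * v) * d⁻¹ = MulAut.conj (z * v) := by
    have h5 := mul_inv_eq_iff_eq_mul.mp h3
    rw [← h5, mul_inv_cancel_right]
  rw [conj_apply_aut] at h4
  exact key hZ hα hD hDα hDn hzv hd (conj_inj hZ h4) (by rw [map_mul, hαz, hαv])

end

/-- **`O(C_G(x)) = 1` from pure four-groups** -/
theorem core_of_pureFour {X : Type v} [Group X] [Finite X] (hZ : center X = ⊥)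
    (h : ∀ α : MulAut X, α * α = 1 → ∃ z v : X, z * z = 1 ∧ v * v = 1 ∧ α z = z ∧ α v = v ∧ Good z ∧ Good v ∧
      Good (z * v)) {G : Type u} [Group G] [Finite G] {N : Subgroup G} (hN : N.Normal) (f : X ≃* ↥N)
    (hc : centralizer (N : Set G) = ⊥) {x : G} (hx : orderOf x = 2) : centralizerPPrimeCore 2 x = ⊥ := by
  change core (centralizer ({x} : Set G)) = ⊥
  obtain ⟨D, hD⟩ : ∃ D, D = core (centralizer ({x} : Set G)) := ⟨_, rfl⟩
  rw [← hD]
  have hDC : D ≤ centralizer ({x} : Set G) := hD ▸ core_le _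
  have hDodd : Odd (Nat.card D) := hD ▸ odd_card_core _
  have hDn : centralizer ({x} : Set G) ≤ normalizer (D : Set G) := hD ▸ le_normalizer_core _
  let ψ : G →* MulAut X := (MulAut.congr f.symm).toMonoidHom.comp MulAut.conjNormal
  have hψ : ∀ (g : G) (y : X), (f (ψ g y) : G) = g * f y * g⁻¹ := by
    intro g y
    change (f (f.symm (MulAut.conjNormal g (f.symm.symm y))) : G) = _
    rw [f.apply_symm_apply, MulAut.conjNormal_apply]
    rfl
  have hψf : ∀ y : X, ψ (f y) = MulAut.conj y := by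
    intro y
    ext g
    apply f.injective
    apply Subtype.ext
    rw [hψ]
    change _ = (f (y * g * y⁻¹) : G)
    rw [map_mul, map_mul, map_inv]
    rfl
  have hker : ∀ g : G, ψ g = 1 → g = 1 := by
    intro g hg
    have h1 : g ∈ centralizer (N : Set G) := by
      rw [mem_centralizer_iff]
      intro n hn
      have h2 := hψ g (f.symm ⟨n, hn⟩)
      rw [hg, MulAut.one_apply, f.apply_symm_apply] at h2
      have h3 : n = g * n * g⁻¹ := h2
      exact (eq_mul_inv_iff_mul_eq.mp h3)
    rwa [hc, mem_bot] at h1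
  have hxx : x * x = 1 := by
    have := pow_orderOf_eq_one x
    rwa [hx, pow_two] at this
  obtain ⟨z, v, hz2, hv2, hαz, hαv, hz, hv, hzv⟩ := h (ψ x) (by rw [← map_mul, hxx, map_one])
  have hbot : D.map ψ = ⊥ := by
    refine eq_bot hZ (α := ψ x) (by rw [← map_mul, hxx, map_one]) ?_ ?_ ?_ hz hv hzv hz2 hv2 hαz hαv
    · exact Odd.of_dvd_nat hDodd (Subgroup.card_map_dvd _ _)
    · rintro _ ⟨d, hd, rfl⟩
      rw [← map_mul, ← map_mul, mem_centralizer_singleton_iff.mp (hDC hd)]
    · rintro y hy _ ⟨d, hd, rfl⟩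
      have h1 : (f y : G) ∈ centralizer ({x} : Set G) := by
        rw [mem_centralizer_singleton_iff]
        have h2 := hψ x y
        rw [hy] at h2
        exact eq_mul_inv_iff_mul_eq.mp h2
      have h2 : (f y : G) * d * (f y : G)⁻¹ ∈ D := (mem_normalizer_iff.mp (hDn h1) d).mp hd
      refine ⟨_, h2, ?_⟩
      rw [map_mul, map_mul, map_inv, hψf]
  rw [eq_bot_iff]
  intro d hd
  rw [mem_bot]
  apply hker
  have : ψ d ∈ D.map ψ := ⟨d, hd, rfl⟩
  rwa [hbot, mem_bot] at this

/-- **END(Y)**, `Y ≅ X`, from pure four-groups -/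
theorem lb_of_pureFour' {X : Type v} [Group X] [Finite X] (hZ : center X = ⊥)
    (h : ∀ α : MulAut X, α * α = 1 → ∃ z v : X, z * z = 1 ∧ v * v = 1 ∧ α z = z ∧ α v = v ∧ Good z ∧ Good v ∧
      Good (z * v)) {Y : Type u} [Group Y] (e : X ≃* Y) : LB Y := by
  intro G _ _ N hN hX hc x hx
  obtain ⟨f⟩ := hX
  exact core_of_pureFour hZ h hN (e.trans f) hc hx

/-- **END(X) from pure four-groups** -/
theorem lb_of_pureFour {X : Type u} [Group X] [Finite X] (hZ : center X = ⊥)
    (h : ∀ α : MulAut X, α * α = 1 → ∃ z v : X, z * z = 1 ∧ v * v = 1 ∧ α z = z ∧ α v = v ∧ Good z ∧ Good v ∧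
      Good (z * v)) : LB X := lb_of_pureFour' hZ h (MulEquiv.refl X)

end Cfsg.Agent.UGT.End.PureFour
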