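import Mathlib
import Cfsg.Prelude.Def_Balance
import Cfsg.Agent.UGT.C.LocBal

/-!
# Groups with TI Sylow 2-subgroups, doubly transitive on them: no cores

`X` normal in `G` with trivial centralizer, the Sylow 2-subgroups of `X` are TI, each of them is transitive on
the others, the action of `X` on them is faithful, and every automorphism of order 2 which normalises a Sylow
2-subgroup centralises a four-group in it.  Then `O(C_G(x)) = 1` for every involution `x` of `G`.
-/

set_option autoImplicit false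

namespace Cfsg.Agent.UGT.End.RankOneTI

open Subgroup Pointwise

/-- TI Sylow 2-subgroups; each is transitive on the others; faithful action. -/
structure TISyl (X : Type*) [Group X] : Prop where
  ti : ∀ S T : Sylow 2 X, ∀ x ∈ S, x ∈ T → x ≠ 1 → S = T
  trans : ∀ S T U : Sylow 2 X, T ≠ S → U ≠ S → ∃ s ∈ S, s • T = U
  faith : ∀ g : X, (∀ T : Sylow 2 X, g • T = T) → g = 1

/-- every automorphism of order at most 2 normalising a Sylow 2-subgroup fixes a four-group of it -/
def FixFour (X : Type*) [Group X] : Prop :=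
  ∀ φ : MulAut X, φ * φ = 1 → ∀ S : Sylow 2 X, φ • S = S →
    ∃ u v : X, u ∈ S ∧ v ∈ S ∧ u ≠ 1 ∧ v ≠ 1 ∧ u ≠ v ∧ u * u = 1 ∧ v * v = 1 ∧ u * v = v * u ∧
      φ u = u ∧ φ v = v

section aut

variable {X : Type*} [Group X]

theorem mem_smul_sylow {φ : MulAut X} {S : Sylow 2 X} {x : X} (hx : x ∈ S) : φ x ∈ φ • S := by
  have h1 : φ • x ∈ φ • (S : Subgroup X) := Subgroup.smul_mem_pointwise_smul x φ _ hx
  exact h1

theorem smul_conj (φ : MulAut X) (g : X) : φ * MulAut.conj g = MulAut.conj (φ g) * φ := by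
  ext x
  simp [MulAut.mul_apply, MulAut.conj_apply, map_mul, map_inv]

theorem smul_eq_of_cent [Finite X] (h : TISyl X) {S : Sylow 2 X} {φ : MulAut X} (ho : Odd (orderOf φ))
    (hS : ∀ s ∈ S, φ s = s) (T : Sylow 2 X) : φ • T = T := by
  have : Fact (Nat.Prime 2) := ⟨Nat.prime_two⟩
  have hSS : φ • S = S := by
    apply Sylow.ext
    rw [Sylow.pointwise_smul_def]
    ext x
    rw [Subgroup.mem_pointwise_smul_iff_inv_smul_mem]
    constructor
    · intro hx
      have h1 := hS _ hx
      have h2 : φ (φ⁻¹ • x) = x := by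
        show φ (φ⁻¹ x) = x
        rw [← MulAut.mul_apply, mul_inv_cancel, MulAut.one_apply]
      rw [h2] at h1
      rw [h1]; exact hx
    · intro hx
      have h1 : φ⁻¹ • x = x := by
        show φ⁻¹ x = x
        have := hS x hx
        nth_rewrite 1 [← this]
        rw [← MulAut.mul_apply, inv_mul_cancel, MulAut.one_apply]
      rw [h1]; exact hx
  by_cases hT : T = S
  · rw [hT, hSS]
  have hφT : φ • T ≠ S := by
    intro h1
    exact hT (smul_left_cancel φ (h1.trans hSS.symm))
  obtain ⟨s, hs, hsT⟩ := h.trans S T _ hT hφT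
  have hcomm : Commute φ (MulAut.conj s) := by
    have := smul_conj φ s
    rw [hS s hs] at this
    exact this
  have hpow : ∀ k : ℕ, φ ^ k • T = (MulAut.conj s) ^ k • T := by
    intro k
    induction k with
    | zero => simp
    | succ k ih =>
      rw [pow_succ', mul_smul, ih, ← mul_smul, (hcomm.pow_right k).eq, mul_smul, ← hsT,
        Sylow.smul_def, ← mul_smul, ← pow_succ]
  obtain ⟨m, hm⟩ : ∃ m : ℕ, s ^ 2 ^ m = 1 := by
    obtain ⟨m, hm⟩ := S.isPGroup' ⟨s, hs⟩
    exact ⟨m, by simpa using congrArg Subtype.val hm⟩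
  have h1 : φ ^ 2 ^ m • T = T := by
    rw [hpow, ← map_pow, hm, map_one, one_smul]
  obtain ⟨k, hk⟩ := exists_pow_eq_self_of_coprime
    (Nat.Coprime.pow_left m (Nat.coprime_two_left.mpr ho))
  have h2 : (φ ^ 2 ^ m) ^ k • T = T := by
    have : φ ^ 2 ^ m ∈ MulAction.stabilizer (MulAut X) T := h1
    exact pow_mem this k
  rwa [hk] at h2

theorem eq_one_of_cent [Finite X] (h : TISyl X) {S : Sylow 2 X} {φ : MulAut X} (ho : Odd (orderOf φ))
    (hS : ∀ s ∈ S, φ s = s) : φ = 1 := by
  have hfix := smul_eq_of_cent h ho hS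
  ext g
  rw [MulAut.one_apply]
  have h1 : ∀ T : Sylow 2 X, (g⁻¹ * φ g) • T = T := by
    intro T
    have h2 : MulAut.conj (φ g) • φ • T = φ • MulAut.conj g • T := by
      rw [← mul_smul, ← mul_smul, smul_conj]
    rw [hfix, hfix] at h2
    rw [mul_smul, inv_smul_eq_iff]
    exact h2
  exact (inv_mul_eq_one.mp (h.faith _ h1)).symm

end aut

variable {G : Type*} [Group G] [Finite G] {X : Subgroup G} [X.Normal]

theorem loc (hC : ∀ g : G, (∀ x ∈ X, g * x = x * g) → g = 1) (h : TISyl ↥X) (S : Sylow 2 ↥X)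
    {z : ↥X} (hz : z ∈ S) (hz1 : z ≠ 1) :
    C.LocBal.Loc (z : G) ((S : Subgroup ↥X).map X.subtype) where
  pg := S.isPGroup'.map _
  norm := by
    intro c hc
    have h1 : MulAut.conjNormal c z = z := by
      apply Subtype.ext
      rw [MulAut.conjNormal_apply, hc, mul_inv_cancel_right]
    have h2 : (MulAut.conjNormal c : MulAut ↥X) • S = S := by
      apply h.ti _ _ z _ hz hz1
      have := mem_smul_sylow (φ := MulAut.conjNormal c) hz
      rwa [h1] at this
    have key : ∀ (c : G), (MulAut.conjNormal c : MulAut ↥X) • S = S →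
        ∀ y, y ∈ (S : Subgroup ↥X).map X.subtype → c * y * c⁻¹ ∈ (S : Subgroup ↥X).map X.subtype := by
      rintro c h2 _ ⟨s, hs, rfl⟩
      refine ⟨MulAut.conjNormal c s, ?_, ?_⟩
      · have := mem_smul_sylow (φ := MulAut.conjNormal c) (S := S) hs
        rw [h2] at this
        exact this
      · rw [Subgroup.subtype_apply, MulAut.conjNormal_apply]; rfl
    have h3 : (MulAut.conjNormal c⁻¹ : MulAut ↥X) • S = S := by
      rw [map_inv, inv_smul_eq_iff, h2]
    rw [mem_normalizer_iff]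
    intro y
    refine ⟨key c h2 y, fun hy => ?_⟩
    have := key c⁻¹ h3 _ hy
    have e : c⁻¹ * (c * y * c⁻¹) * c⁻¹⁻¹ = y := by group
    rwa [e] at this
  cent := by
    intro c hc ho
    apply hC
    have h1 : (MulAut.conjNormal c : MulAut ↥X) = 1 := by
      refine eq_one_of_cent h (S := S) ?_ ?_
      · exact Odd.of_dvd_nat ho (orderOf_map_dvd _ c)
      · intro s hs
        apply Subtype.ext
        rw [MulAut.conjNormal_apply]
        have := mem_centralizer_iff.mp hc (s : G) ⟨s, hs, rfl⟩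
        rw [← this, mul_inv_cancel_right]
    intro x hx
    have h2 := congrArg (fun φ : MulAut ↥X => ((φ ⟨x, hx⟩ : ↥X) : G)) h1
    simp only [MulAut.conjNormal_apply, MulAut.one_apply] at h2
    rwa [mul_inv_eq_iff_eq_mul] at h2

/-- **The theorem.** -/
theorem core_eq_bot (hC : ∀ g : G, (∀ x ∈ X, g * x = x * g) → g = 1) (h : TISyl ↥X) (hF : FixFour ↥X)
    {x : G} (hx : x * x = 1) : Cfsg.centralizerPPrimeCore 2 x = ⊥ := by
  have : Fact (Nat.Prime 2) := ⟨Nat.prime_two⟩
  have hφ : (MulAut.conjNormal x : MulAut ↥X) * MulAut.conjNormal x = 1 := by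
    rw [← map_mul, hx, map_one]
  have hP : IsPGroup 2 (Subgroup.zpowers (MulAut.conjNormal x : MulAut ↥X)) := by
    apply IsPGroup.of_card_dvd_pow (n := 1)
    rw [Nat.card_zpowers, pow_one]
    exact orderOf_dvd_of_pow_eq_one (by rw [pow_two, hφ])
  have hodd : ¬ 2 ∣ Nat.card (Sylow 2 ↥X) := by
    have h1 := card_sylow_modEq_one 2 ↥X
    intro h2
    have h3 : Nat.card (Sylow 2 ↥X) % 2 = 1 % 2 := h1
    omega
  obtain ⟨S, hS⟩ := hP.nonempty_fixed_point_of_prime_not_dvd_card (Sylow 2 ↥X) hodd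
  have hS' : (MulAut.conjNormal x : MulAut ↥X) • S = S := hS ⟨_, Subgroup.mem_zpowers _⟩
  obtain ⟨u, v, hu, hv, hu1, hv1, huv, huu, hvv, hcomm, hxu, hxv⟩ := hF _ hφ S hS'
  have key : ∀ w : ↥X, MulAut.conjNormal x w = w → x * (w : G) = w * x := by
    intro w hw
    have h1 := congrArg Subtype.val hw
    rw [MulAut.conjNormal_apply] at h1
    rwa [mul_inv_eq_iff_eq_mul] at h1
  have huv1 : u * v ≠ 1 := by
    intro h1
    apply huv
    have h2 : u = v⁻¹ := eq_inv_of_mul_eq_one_left h1
    rw [h2]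
    exact inv_eq_of_mul_eq_one_left hvv
  refine C.LocBal.core_eq_bot (z₁ := (u : G)) (z₂ := (v : G))
    (Q₃ := (S : Subgroup ↥X).map X.subtype) hx ?_ ?_ ?_ (key u hxu) (key v hxv)
    (loc hC h S hu hu1) (loc hC h S hv hv1) ?_
  · rw [← Subgroup.coe_mul, huu, Subgroup.coe_one]
  · rw [← Subgroup.coe_mul, hvv, Subgroup.coe_one]
  · rw [← Subgroup.coe_mul, hcomm, Subgroup.coe_mul]
  · have := loc hC h S (mul_mem hu hv) huv1
    rwa [Subgroup.coe_mul] at this

end Cfsg.Agent.UGT.End.RankOneTI
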