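import Cfsg.Agent.WeakTI.BenderAct
import Cfsg.Agent.S1119
import Cfsg.Agent.UGT.End.RankOneTI

/-!
# `TISyl` and `FixFour` from the rank-one facts

`Facts X Ω a t Q i` (rank-one set-up) for simple `X` gives `TISyl X`; if there are at least 8 elements of
order at most 2 in `Q` also `FixFour X`.
-/

set_option autoImplicit false

namespace Cfsg.Agent.UGT.End.RankOneFacts

open Subgroup Pointwise
open Cfsg.Agent.LieRecognition Cfsg.Agent.WeakTI.BenderAct Cfsg.Agent.UGT.End.RankOneTI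
open MulAction (stabilizer)

variable {X Ω : Type*} [Group X] [MulAction X Ω] {a : Ω} {t : X} {Q : Subgroup X} {i : ℕ}

theorem isPGroup (h : Facts X Ω a t Q i) : IsPGroup 2 Q := by
  intro x
  refine ⟨2, ?_⟩
  apply Subtype.ext
  have h1 := h.sq x x.2
  rw [Subgroup.coe_pow, Subgroup.coe_one]
  have : (x : X) ^ 2 ^ 2 = (x : X) * x * (x * x) := by
    simp [pow_succ, mul_assoc]
  rw [this, h1]

theorem exists_facts [Finite X] (h : Facts X Ω a t Q i) (S : Sylow 2 X) :
    ∃ (b : Ω) (u : X), Facts X Ω b u (S : Subgroup X) i := by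
  have : Fact (Nat.Prime 2) := ⟨Nat.prime_two⟩
  obtain ⟨-, -, -, ⟨P, hP⟩, -⟩ := Cfsg.Agent.S1119.result h.base
  have hQP : Q = P := le_antisymm (P.is_maximal' (isPGroup h) hP).le hP
  obtain ⟨g, hg⟩ := MulAction.exists_smul_eq X P S
  have h5 : (S : Subgroup X) = Q.map (MulAut.conj g).toMonoidHom := by
    rw [← hg, hQP]; rfl
  rw [h5]
  exact ⟨_, _, h.conj g⟩

section pts

variable {b c : Ω} {u v : X} {S T : Sylow 2 X}

theorem eq_of_point [Finite X] (hS : Facts X Ω b u (S : Subgroup X) i)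
    (hT : Facts X Ω b v (T : Subgroup X) i) : S = T := by
  have : Fact (Nat.Prime 2) := ⟨Nat.prime_two⟩
  have h4 : (T : Subgroup X) ≤ Subgroup.normalizer (S : Set X) :=
    hT.base.le.trans (RankOneBasic.stabilizer_le_normalizer hS.base)
  have h5 : IsPGroup 2 ((S : Subgroup X) ⊔ T : Subgroup X) :=
    S.isPGroup'.to_sup_of_normal_left' T.isPGroup' h4
  have h6 := S.is_maximal' h5 le_sup_left
  have h7 := T.is_maximal' h5 le_sup_right
  apply Sylow.ext
  rw [← h6, h7]

theorem eq_of_mem [Finite X] (hS : Facts X Ω b u (S : Subgroup X) i)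
    (hT : Facts X Ω c v (T : Subgroup X) i) {x : X} (hx : x ∈ S) (hx' : x ∈ T) (hx1 : x ≠ 1) :
    S = T := by
  have h1 : x • b = b := hS.base.le hx
  have h2 : x • c = c := hT.base.le hx'
  have h3 : c = b := by
    by_contra h
    exact hx1 (RankOneBasic.eq_one_of_smul_eq hS.base hx h h2)
  subst h3
  exact eq_of_point hS hT

end pts

theorem trans [Finite X] (h : Facts X Ω a t Q i) (S T U : Sylow 2 X) (hTS : T ≠ S) (hUS : U ≠ S) :
    ∃ s ∈ S, s • T = U := by
  obtain ⟨b, u, hS⟩ := exists_facts h S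
  obtain ⟨c, v, hT⟩ := exists_facts h T
  obtain ⟨d, w, hU⟩ := exists_facts h U
  have hcb : c ≠ b := by
    rintro rfl
    exact hTS (eq_of_point hT hS)
  have hdb : d ≠ b := by
    rintro rfl
    exact hUS (eq_of_point hU hS)
  obtain ⟨x, hx, hxc⟩ := RankOneBasic.exists_smul_eq_of_ne hS.base hcb hdb
  refine ⟨x, hx, ?_⟩
  have h1 : Facts X Ω d (x * v * x⁻¹) ((x • T : Sylow 2 X) : Subgroup X) i := by
    have := hT.conj x
    rw [hxc] at this
    exact this
  exact eq_of_point h1 hU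

theorem smul_eq_iff [Finite X] {b : Ω} {u : X} {S : Sylow 2 X} (hS : Facts X Ω b u (S : Subgroup X) i)
    (g : X) : g • S = S ↔ g ∈ stabilizer X b := by
  have h4 : Facts X Ω (g • b) (g * u * g⁻¹) ((g • S : Sylow 2 X) : Subgroup X) i := hS.conj g
  constructor
  · intro h
    rw [h] at h4
    obtain ⟨s, hs, hs1, -⟩ := RankOneBasic.exists_involution hS.base
    by_contra hne
    have h6 : s • g • b = g • b := h4.base.le hs
    exact hs1 (RankOneBasic.eq_one_of_smul_eq hS.base hs hne h6)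
  · intro h
    have h5 : g • b = b := h
    rw [h5] at h4
    exact eq_of_point h4 hS

theorem tiSyl [Finite X] [IsSimpleGroup X] (h : Facts X Ω a t Q i) : TISyl X where
  ti := by
    intro S T x hx hx' hx1
    obtain ⟨b, u, hS⟩ := exists_facts h S
    obtain ⟨c, v, hT⟩ := exists_facts h T
    exact eq_of_mem hS hT hx hx' hx1
  trans := trans h
  faith := by
    have hfin := RankOneBasic.finite_points h.base
    let N : Subgroup X :=
      { carrier := {g | ∀ T : Sylow 2 X, g • T = T}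
        mul_mem' := fun {g k} hg hk T => by rw [mul_smul, hk, hg]
        one_mem' := fun T => one_smul _ T
        inv_mem' := fun {g} hg T => by rw [inv_smul_eq_iff, hg] }
    have hN : N.Normal := by
      refine ⟨fun n hn g T => ?_⟩
      rw [mul_smul, mul_smul, hn, smul_inv_smul]
    intro g hg
    have hgN : g ∈ N := hg
    rcases hN.eq_bot_or_eq_top with h1 | h1
    · rw [h1] at hgN
      exact mem_bot.mp hgN
    · exfalso
      obtain ⟨S⟩ : Nonempty (Sylow 2 X) := inferInstance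
      obtain ⟨b, u, hS⟩ := exists_facts h S
      have h2 : u ∈ N := by rw [h1]; exact mem_top u
      have h3 : u • S = S := h2 S
      have h4 : Facts X Ω (u • b) (u * u * u⁻¹) ((u • S : Sylow 2 X) : Subgroup X) i := hS.conj u
      rw [h3] at h4
      obtain ⟨s, hs, hs1, -⟩ := RankOneBasic.exists_involution hS.base
      have h5 : s • b = b := hS.base.le hs
      have h6 : s • u • b = u • b := h4.base.le hs
      exact hs1 (RankOneBasic.eq_one_of_smul_eq hS.base hs (RankOneBasic.t_smul_ne hS.base) h6)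

/-- one Sylow 2-subgroup is enough -/
theorem fixFour_of_one [Finite X] (P : Sylow 2 X) (h : ∀ φ : MulAut X, φ * φ = 1 → φ • P = P →
    ∃ u v : X, u ∈ P ∧ v ∈ P ∧ u ≠ 1 ∧ v ≠ 1 ∧ u ≠ v ∧ u * u = 1 ∧ v * v = 1 ∧ u * v = v * u ∧
      φ u = u ∧ φ v = v) : FixFour X := by
  have : Fact (Nat.Prime 2) := ⟨Nat.prime_two⟩
  intro φ hφ S hS
  obtain ⟨g, hg⟩ := MulAction.exists_smul_eq X P S
  have hg' : MulAut.conj g • P = S := hg
  let φ₁ : MulAut X := (MulAut.conj g)⁻¹ * φ * MulAut.conj g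
  have hφ₁ : φ₁ * φ₁ = 1 := by
    calc φ₁ * φ₁ = (MulAut.conj g)⁻¹ * (φ * φ) * MulAut.conj g := by
          simp only [φ₁]; group
      _ = 1 := by rw [hφ]; group
  have h1 : φ₁ • P = P := by
    simp only [φ₁]
    rw [mul_smul, mul_smul, hg', hS, ← hg', inv_smul_smul]
  obtain ⟨u, v, hu, hv, hu1, hv1, huv, huu, hvv, hc, h2, h3⟩ := h φ₁ hφ₁ h1
  have key : ∀ u : X, φ₁ u = u → φ (MulAut.conj g u) = MulAut.conj g u := by
    intro u h2
    have h4 : MulAut.conj g (φ₁ u) = φ (MulAut.conj g u) := by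
      simp only [φ₁, MulAut.mul_apply, MulAut.apply_inv_self]
    rw [← h4, h2]
  refine ⟨MulAut.conj g u, MulAut.conj g v, ?_, ?_, ?_, ?_, ?_, ?_, ?_, ?_, key u h2, key v h3⟩
  · rw [← hg']; exact mem_smul_sylow hu
  · rw [← hg']; exact mem_smul_sylow hv
  · rwa [Ne, MulEquiv.map_eq_one_iff]
  · rwa [Ne, MulEquiv.map_eq_one_iff]
  · exact fun h4 => huv ((MulAut.conj g).injective h4)
  · rw [← map_mul, huu, map_one]
  · rw [← map_mul, hvv, map_one]
  · rw [← map_mul, hc, map_mul]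

theorem exists_pair {X : Type*} [Group X] {C : Subgroup X} [Finite C] (h3 : 2 < Nat.card C) :
    ∃ u v : X, u ∈ C ∧ v ∈ C ∧ u ≠ 1 ∧ v ≠ 1 ∧ u ≠ v := by
  have := Fintype.ofFinite C
  rw [Nat.card_eq_fintype_card, Fintype.two_lt_card_iff] at h3
  obtain ⟨a, b, c, hab, hac, hbc⟩ := h3
  have key : ∀ x y : C, x ≠ 1 → y ≠ 1 → x ≠ y → ∃ u v : X, u ∈ C ∧ v ∈ C ∧ u ≠ 1 ∧ v ≠ 1 ∧ u ≠ v := by
    intro x y hx hy hxy
    exact ⟨x, y, x.2, y.2, fun h => hx (Subtype.ext h), fun h => hy (Subtype.ext h),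
      fun h => hxy (Subtype.ext h)⟩
  by_cases ha : a = 1
  · subst ha
    exact key b c hab.symm hac.symm hbc
  · by_cases hb : b = 1
    · subst hb
      exact key a c hab hbc.symm hac
    · exact key a b ha hb hab

/-- an automorphism of order 2 of an elementary abelian 2-group of order at least 8 fixes three elements -/
theorem two_lt_card_fix {Z : Type*} [CommGroup Z] [Finite Z] (hsq : ∀ z : Z, z * z = 1) (hZ : 8 ≤ Nat.card Z)
    (f : Z →* Z) (hf : ∀ z, f (f z) = z) {C : Subgroup Z} (hC : ∀ z, z ∈ C ↔ f z = z) :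
    2 < Nat.card C := by
  let g : Z →* Z := MonoidHom.id Z * f
  have hg : ∀ z, g z = z * f z := fun z => rfl
  have hker : g.ker = C := by
    ext z
    rw [MonoidHom.mem_ker, hg, hC]
    constructor
    · intro h
      have h1 : f z = z⁻¹ := eq_inv_of_mul_eq_one_right h
      rw [h1]
      exact inv_eq_of_mul_eq_one_left (hsq z)
    · intro h
      rw [h, hsq]
  have hran : g.range ≤ C := by
    rintro _ ⟨z, rfl⟩
    rw [hC, hg, map_mul, hf, mul_comm]
  have h1 : Nat.card Z = Nat.card g.ker * Nat.card g.range := by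
    rw [← Subgroup.index_ker, Subgroup.card_mul_index]
  have h2 : Nat.card g.range ≤ Nat.card C := Subgroup.card_le_of_le hran
  rw [hker] at h1
  by_contra h3
  have h4 : Nat.card C * Nat.card g.range ≤ 2 * 2 := Nat.mul_le_mul (by omega) (by omega)
  omega

theorem fixFour [Finite X] (h : Facts X Ω a t Q i) (h8 : 8 ≤ Nat.card {x : X // x ∈ Q ∧ x * x = 1}) :
    FixFour X := by
  intro φ hφ S hS
  obtain ⟨-, -, -, ⟨P, hP⟩, -⟩ := Cfsg.Agent.S1119.result h.base
  have : Fact (Nat.Prime 2) := ⟨Nat.prime_two⟩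
  have hQP : Q = P := le_antisymm (P.is_maximal' (isPGroup h) hP).le hP
  obtain ⟨g, hg⟩ := MulAction.exists_smul_eq X P S
  have h5 : (S : Subgroup X) = Q.map (MulAut.conj g).toMonoidHom := by
    rw [← hg, hQP]; rfl
  have hF := h.conj g
  rw [← h5] at hF
  let Z : Subgroup X :=
    { carrier := {x | x ∈ (S : Subgroup X) ∧ x * x = 1}
      mul_mem' := by
        rintro x y ⟨hx, hxx⟩ ⟨hy, hyy⟩
        refine ⟨mul_mem hx hy, ?_⟩
        have := hF.cent x hx hxx y hy
        rw [mul_assoc, ← mul_assoc y, ← this, mul_assoc x, hyy, mul_one, hxx]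
      one_mem' := ⟨one_mem _, mul_one _⟩
      inv_mem' := by
        rintro x ⟨hx, hxx⟩
        refine ⟨inv_mem hx, ?_⟩
        rw [← mul_inv_rev, hxx, inv_one] }
  have hmem : ∀ x, x ∈ Z ↔ x ∈ (S : Subgroup X) ∧ x * x = 1 := fun _ => Iff.rfl
  have hcomm : ∀ x y : Z, x * y = y * x := fun x y =>
    Subtype.ext (hF.cent x ((hmem x).mp x.2).1 ((hmem x).mp x.2).2 y ((hmem y).mp y.2).1)
  let cg : CommGroup Z := { (inferInstance : Group Z) with mul_comm := hcomm }
  have hZ8 : 8 ≤ Nat.card Z := by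
    refine h8.trans (le_of_eq ?_)
    refine Nat.card_congr ((MulAut.conj g).toEquiv.subtypeEquiv fun x => ?_)
    have e1 : ((MulAut.conj g).toEquiv x) = MulAut.conj g x := rfl
    rw [hmem, e1, ← map_mul, MulEquiv.map_eq_one_iff, h5]
    refine and_congr_left fun _ => ?_
    constructor
    · intro hx
      exact ⟨x, hx, rfl⟩
    · rintro ⟨y, hy, hyx⟩
      have : y = x := (MulAut.conj g).injective hyx
      rw [← this]; exact hy
  have hφZ : ∀ x : Z, φ x ∈ Z := by
    intro x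
    obtain ⟨hx, hxx⟩ := (hmem x).mp x.2
    refine ⟨?_, ?_⟩
    · have := mem_smul_sylow (φ := φ) (S := S) hx
      rw [hS] at this
      exact this
    · rw [← map_mul, hxx, map_one]
  let f : Z →* Z := (φ.toMonoidHom.comp Z.subtype).codRestrict Z hφZ
  have hf : ∀ z : Z, (f z : X) = φ z := fun z => rfl
  have hff : ∀ z : Z, f (f z) = z := by
    intro z
    apply Subtype.ext
    rw [hf, hf, ← MulAut.mul_apply, hφ, MulAut.one_apply]
  let C : Subgroup Z := f.eqLocus (MonoidHom.id Z)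
  have hC : ∀ z : Z, z ∈ C ↔ f z = z := fun z => Iff.rfl
  have hsq : ∀ z : Z, z * z = 1 := fun z => Subtype.ext ((hmem z).mp z.2).2
  obtain ⟨u, v, hu, hv, hu1, hv1, huv⟩ := exists_pair (two_lt_card_fix hsq hZ8 f hff hC)
  refine ⟨u, v, ((hmem u).mp u.2).1, ((hmem v).mp v.2).1, ?_, ?_, ?_, ((hmem u).mp u.2).2,
    ((hmem v).mp v.2).2, congrArg Subtype.val (hcomm u v), ?_, ?_⟩
  · exact fun h1 => hu1 (Subtype.ext h1)
  · exact fun h1 => hv1 (Subtype.ext h1)
  · exact fun h1 => huv (Subtype.ext h1)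
  · rw [← hf, (hC u).mp hu]
  · rw [← hf, (hC v).mp hv]

end Cfsg.Agent.UGT.End.RankOneFacts
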