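import Cfsg.Agent.UGT.End.Four
import Cfsg.Agent.KFacts.SuzFour

/-!
# The end `Suz` of the Unbalanced Group Theorem (helper399)

`core_eq_bot`: `X ⊴ G`, `X ≅ Suz`, `x² = 1`, `R ≤ X` of odd order, centralised by `x` and normalised by `C_X(x)`: `R = 1`.
Inner and outer involutions `x` at once.
-/

set_option autoImplicit false

namespace Cfsg.Agent.UGT.End.Suz

open Cfsg.Spor Cfsg.Agent.SuzThree.CentA Cfsg.Agent.SuzThree.QZero Cfsg.Agent.KFacts.SuzLarge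
  Cfsg.Agent.KFacts.SuzOut Cfsg.Agent.KFacts.SuzFour Cfsg.Agent.UGT.End.Four

section

variable {G : Type*} [Group G] {X : Subgroup G} [hX : X.Normal]

/-- the automorphism of `Suz` induced by `x` -/
noncomputable def tau (e : X ≃* Suz) (x : G) : MulAut Suz := MulAut.congr e (MulAut.conjNormal x)

theorem tau_apply (e : X ≃* Suz) (x : G) (y : Suz) :
    (e.symm (tau e x y) : G) = x * (e.symm y : G) * x⁻¹ := by
  unfold tau
  rw [MulAut.congr_apply]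
  simp

theorem tau_tau (e : X ≃* Suz) {x : G} (hx : x * x = 1) : tau e x * tau e x = 1 := by
  unfold tau
  rw [← map_mul, ← map_mul, hx, map_one, map_one]

theorem tau_fix (e : X ≃* Suz) {x : G} {y : Suz} (h : tau e x y = y) : (e.symm y : G) * x = x * (e.symm y : G) := by
  have h1 := tau_apply e x y
  rw [h] at h1
  exact (mul_inv_eq_iff_eq_mul.1 h1.symm).symm

theorem charTwoAt (e : X ≃* Suz) {x : G} {k : Suz} (hk : tau e x (k * z0 * k⁻¹) = k * z0 * k⁻¹) :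
    CharTwoAt X x (e.symm (k * z0 * k⁻¹) : G) := by
  set ι : Suz →* G := X.subtype.comp e.symm.toMonoidHom with hι
  have hιa : ∀ y, ι y = (e.symm y : G) := fun y => rfl
  have hιinj : Function.Injective ι := fun a b h => e.symm.injective (Subtype.ext h)
  refine ⟨(Q0.map (MulAut.conj k).toMonoidHom).map ι, ?_, ?_, ?_, ?_, ?_⟩
  · rintro _ ⟨y, _, rfl⟩
    exact (e.symm y).2
  · exact (isPGroup_Q0.map _).map _
  · rintro g hg hgv _ ⟨_, ⟨q, hq, rfl⟩, rfl⟩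
    obtain ⟨g', rfl⟩ : ∃ g' : Suz, ι g' = g := ⟨e ⟨g, hg⟩, by rw [hιa, MulEquiv.symm_apply_apply]⟩
    have h1 : g' * (k * z0 * k⁻¹) = (k * z0 * k⁻¹) * g' := hιinj (by
      rw [map_mul ι g', map_mul ι _ g']; exact hgv)
    have h2 : (k⁻¹ * g' * k) * z0 = z0 * (k⁻¹ * g' * k) := by
      calc (k⁻¹ * g' * k) * z0 = k⁻¹ * (g' * (k * z0 * k⁻¹)) * k := by group
        _ = k⁻¹ * ((k * z0 * k⁻¹) * g') * k := by rw [h1]
        _ = z0 * (k⁻¹ * g' * k) := by group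
    refine ⟨g' * (k * q * k⁻¹) * g'⁻¹, ⟨(k⁻¹ * g' * k) * q * (k⁻¹ * g' * k)⁻¹, large.conj_mem _ h2 q hq, ?_⟩, ?_⟩
    · show k * ((k⁻¹ * g' * k) * q * (k⁻¹ * g' * k)⁻¹) * k⁻¹ = g' * (k * q * k⁻¹) * g'⁻¹
      group
    · rw [map_mul, map_mul, map_inv]; rfl
  · rintro _ ⟨_, ⟨q, hq, rfl⟩, rfl⟩
    -- the automorphism `conj(k)⁻¹ τ conj(k)` fixes `z0`
    set σ : MulAut Suz := (MulAut.conj k)⁻¹ * tau e x * MulAut.conj k with hσ
    have hσa : ∀ y, σ y = k⁻¹ * tau e x (k * y * k⁻¹) * k := by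
      intro y
      rw [hσ, MulAut.mul_apply, MulAut.mul_apply, ← map_inv, MulAut.conj_apply, MulAut.conj_apply, inv_inv]
    have hσz : σ z0 = z0 := by rw [hσa, hk]; group
    have h1 := Cfsg.Agent.KFacts.AutLarge.map_mem large irr' exists_nc hσz hq
    refine ⟨tau e x (k * q * k⁻¹), ⟨σ q, h1, ?_⟩, ?_⟩
    · show k * σ q * k⁻¹ = tau e x (k * q * k⁻¹)
      rw [hσa]; group
    · rw [hιa, tau_apply]; rfl
  · rintro g hg hgc
    obtain ⟨g', rfl⟩ : ∃ g' : Suz, ι g' = g := ⟨e ⟨g, hg⟩, by rw [hιa, MulEquiv.symm_apply_apply]⟩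
    have h1 : ∀ q ∈ Q0, (k⁻¹ * g' * k) * q = q * (k⁻¹ * g' * k) := by
      intro q hq
      have h2 := hgc (ι (k * q * k⁻¹)) ⟨_, ⟨q, hq, rfl⟩, rfl⟩
      rw [← map_mul, ← map_mul] at h2
      have h3 : g' * (k * q * k⁻¹) = (k * q * k⁻¹) * g' := hιinj h2
      calc (k⁻¹ * g' * k) * q = k⁻¹ * (g' * (k * q * k⁻¹)) * k := by group
        _ = k⁻¹ * ((k * q * k⁻¹) * g') * k := by rw [h3]
        _ = q * (k⁻¹ * g' * k) := by group
    have h4 : k⁻¹ * g' * k ∈ Q0 := large.self _ (h1 z0 z_mem) h1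
    refine ⟨g', ⟨k⁻¹ * g' * k, h4, ?_⟩, rfl⟩
    show k * (k⁻¹ * g' * k) * k⁻¹ = g'
    group

/-- **END(Suz).** -/
theorem core_eq_bot [Finite G] (e : X ≃* Suz) {x : G} (hx : x * x = 1) {R : Subgroup G} (hRX : R ≤ X)
    (hodd : Odd (Nat.card R)) (hRx : ∀ r ∈ R, r * x = x * r)
    (hn : ∀ g ∈ X, g * x = x * g → ∀ r ∈ R, g * r * g⁻¹ ∈ R) : R = ⊥ := by
  obtain ⟨g, y, hy, hy1, hyz, hyy, hgz, hgy⟩ := exists_four (tau e x) (tau_tau e hx)
  have hyz' : y * z0 = z0 * y := large.comm_z y hy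
  have hzz : z0 * z0 = 1 := large.z_sq
  -- `y` and `z0 y` are conjugate to `z0`
  obtain ⟨k₁, hk₁⟩ := conj_z hy hy1 hyy
  have hzy : z0 * y ∈ Q0 := Q0.mul_mem z_mem hy
  obtain ⟨k₂, hk₂⟩ := conj_z hzy (fun h => hyz (by
    calc y = z0 * z0 * y := by rw [hzz, one_mul]
      _ = z0 * (z0 * y) := by group
      _ = z0 := by rw [h, mul_one])) (by
    calc z0 * y * (z0 * y) = z0 * (y * z0) * y := by group
      _ = z0 * (z0 * y) * y := by rw [hyz']
      _ = (z0 * z0) * (y * y) := by group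
      _ = 1 := by rw [hzz, hyy, one_mul])
  have e1 : g * y * g⁻¹ = (g * k₁) * z0 * (g * k₁)⁻¹ := by rw [← hk₁]; group
  have e2 : (g * z0 * g⁻¹) * (g * y * g⁻¹) = (g * k₂) * z0 * (g * k₂)⁻¹ := by
    calc (g * z0 * g⁻¹) * (g * y * g⁻¹) = g * (z0 * y) * g⁻¹ := by group
      _ = (g * k₂) * z0 * (g * k₂)⁻¹ := by rw [← hk₂]; group
  have hv := charTwoAt e hgz
  have hw : CharTwoAt X x (e.symm (g * y * g⁻¹) : G) := by
    rw [e1]
    apply charTwoAt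
    rw [← e1]; exact hgy
  have hvw : CharTwoAt X x ((e.symm (g * z0 * g⁻¹) : G) * (e.symm (g * y * g⁻¹) : G)) := by
    rw [← Subgroup.coe_mul, ← map_mul, e2]
    apply charTwoAt
    rw [← e2, map_mul, hgz, hgy]
  refine core_of_four hx hRX hodd hRx hn (v := (e.symm (g * z0 * g⁻¹) : G)) (w := (e.symm (g * y * g⁻¹) : G))
    (e.symm _).2 (e.symm _).2 ?_ ?_ ?_ (tau_fix e hgz) (tau_fix e hgy) hv hw hvw
  · rw [← Subgroup.coe_mul, ← map_mul]
    have : g * z0 * g⁻¹ * (g * z0 * g⁻¹) = 1 := by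
      calc g * z0 * g⁻¹ * (g * z0 * g⁻¹) = g * (z0 * z0) * g⁻¹ := by group
        _ = 1 := by rw [hzz]; group
    rw [this, map_one]; rfl
  · rw [← Subgroup.coe_mul, ← map_mul]
    have : g * y * g⁻¹ * (g * y * g⁻¹) = 1 := by
      calc g * y * g⁻¹ * (g * y * g⁻¹) = g * (y * y) * g⁻¹ := by group
        _ = 1 := by rw [hyy]; group
    rw [this, map_one]; rfl
  · rw [← Subgroup.coe_mul, ← Subgroup.coe_mul, ← map_mul, ← map_mul]
    congr 2
    calc g * z0 * g⁻¹ * (g * y * g⁻¹) = g * (z0 * y) * g⁻¹ := by group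
      _ = g * (y * z0) * g⁻¹ := by rw [hyz']
      _ = g * y * g⁻¹ * (g * z0 * g⁻¹) := by group

/-- **TwoFix(Suz)** (form of bb UGT 9415). -/
theorem twoFix (t : MulAut Suz) (ht : t * t = 1) : ∃ a b : Suz, a ≠ b ∧ orderOf a = 2 ∧ orderOf b = 2 ∧
    a * b = b * a ∧ t a = a ∧ t b = b := by
  obtain ⟨g, y, hy, hy1, hyz, hyy, hgz, hgy⟩ := exists_four t ht
  have hyz' : y * z0 = z0 * y := large.comm_z y hy
  have hord : ∀ u : Suz, u ≠ 1 → u * u = 1 → orderOf (g * u * g⁻¹) = 2 := by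
    intro u hu huu
    rw [orderOf_eq_prime_iff]
    constructor
    · rw [pow_two]
      calc g * u * g⁻¹ * (g * u * g⁻¹) = g * (u * u) * g⁻¹ := by group
        _ = 1 := by rw [huu]; group
    · intro h
      apply hu
      calc u = g⁻¹ * (g * u * g⁻¹) * g := by group
        _ = 1 := by rw [h]; group
  refine ⟨g * z0 * g⁻¹, g * y * g⁻¹, fun h => hyz ?_, hord z0 large.z_ne large.z_sq, hord y hy1 hyy, ?_, hgz, hgy⟩
  · calc y = g⁻¹ * (g * y * g⁻¹) * g := by group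
      _ = z0 := by rw [← h]; group
  · calc g * z0 * g⁻¹ * (g * y * g⁻¹) = g * (z0 * y) * g⁻¹ := by group
      _ = g * (y * z0) * g⁻¹ := by rw [hyz']
      _ = g * y * g⁻¹ * (g * z0 * g⁻¹) := by group

end

end Cfsg.Agent.UGT.End.Suz
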