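import Cfsg.Agent.UGT.End.PureFour

/-!
# END(X) from a Sylow-invariant good elementary abelian subgroup

`lb_of_elem`: let `S` be a Sylow 2-subgroup of `X`, `E` an elementary abelian 2-subgroup of order at least 8 with all
elements `≠ 1` good, invariant under all automorphisms `β` with `β² = 1` leaving `S` invariant. Then `LB X`.
-/

set_option autoImplicit false
set_option maxHeartbeats 400000

open Cfsg Subgroup
open Cfsg.Agent.UGT.End
open Cfsg.Agent.UGT.End.PureFour

namespace Cfsg.Agent.UGT.End.SylFour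

universe u v

section

variable {X : Type*} [Group X] [Finite X]

/-- an automorphism of order at most two normalizes a Sylow 2-subgroup -/
theorem exists_sylow_fixed {α : MulAut X} (hα : α * α = 1) (S : Sylow 2 X) :
    ∃ g : X, ∀ s ∈ S, g⁻¹ * α (g * s * g⁻¹) * g ∈ S := by
  have : Fact (Nat.Prime 2) := ⟨Nat.prime_two⟩
  have hp : IsPGroup 2 (zpowers α) := by
    rw [IsPGroup]
    rintro ⟨g, hg⟩
    obtain ⟨i, rfl⟩ := mem_zpowers_iff.mp hg
    refine ⟨1, Subtype.ext ?_⟩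
    change (α ^ i) ^ 2 ^ 1 = 1
    rw [pow_one, ← zpow_natCast, ← zpow_mul, mul_comm, zpow_mul]
    have : α ^ ((2 : ℕ) : ℤ) = 1 := by rw [zpow_natCast, pow_two, hα]
    rw [this, one_zpow]
  obtain ⟨S', hS'⟩ := hp.nonempty_fixed_point_of_prime_not_dvd_card (Sylow 2 X) (not_dvd_card_sylow 2 X)
  have h1 := hS' ⟨α, mem_zpowers α⟩
  have h2 : ∀ s ∈ S', α s ∈ S' := by
    intro s hs
    have h3 : α s ∈ ((⟨α, mem_zpowers α⟩ : zpowers α) • S' : Sylow 2 X) := by
      exact ⟨s, hs, rfl⟩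
    rwa [h1] at h3
  obtain ⟨g, hg⟩ := MulAction.exists_smul_eq X S S'
  refine ⟨g, fun s hs => ?_⟩
  have h3 : g * s * g⁻¹ ∈ S' := by
    rw [← hg]
    exact ⟨s, hs, rfl⟩
  have h4 := h2 _ h3
  rw [← hg] at h4
  obtain ⟨t, ht, h5⟩ := h4
  have h6 : g * t * g⁻¹ = α (g * s * g⁻¹) := h5
  rw [← h6]
  have h7 : g⁻¹ * (g * t * g⁻¹) * g = t := by group
  rw [h7]
  exact ht

/-- an automorphism of order at most two of an elementary abelian group of order at least 8 fixes two independent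
elements -/
theorem exists_fixed_pair {E : Subgroup X} (h8 : 8 ≤ Nat.card E) (hsq : ∀ x ∈ E, x * x = 1) {β : MulAut X}
    (hβ : β * β = 1) (hE : ∀ x ∈ E, β x ∈ E) :
    ∃ z ∈ E, ∃ v ∈ E, z ≠ 1 ∧ v ≠ 1 ∧ z ≠ v ∧ β z = z ∧ β v = v := by
  have hinv : ∀ x ∈ E, x⁻¹ = x := fun x hx => inv_eq_of_mul_eq_one_left (hsq x hx)
  have hcomm : ∀ x ∈ E, ∀ y ∈ E, x * y = y * x := by
    intro x hx y hy
    have h1 := hinv _ (E.mul_mem hx hy)
    rw [mul_inv_rev, hinv x hx, hinv y hy] at h1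
    exact h1.symm
  have hββ : ∀ x, β (β x) = x := fun x => congrArg (fun φ : MulAut X => φ x) hβ
  let f : E →* E :=
    { toFun := fun x => ⟨x * β x, E.mul_mem x.2 (hE x x.2)⟩
      map_one' := Subtype.ext (by change (1 : X) * β 1 = 1; rw [map_one, mul_one])
      map_mul' := fun x y => Subtype.ext (by
        change (x : X) * y * β (x * y) = (x * β x) * (y * β y)
        rw [map_mul, mul_assoc, ← mul_assoc (y : X), hcomm y y.2 _ (hE x x.2)]
        group) }
  have hker : ∀ x : E, x ∈ f.ker ↔ β x = x := by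
    intro x
    rw [MonoidHom.mem_ker]
    constructor
    · intro h
      have h1 : (x : X) * β x = 1 := congrArg Subtype.val h
      exact (inv_eq_of_mul_eq_one_right h1).symm.trans (hinv x x.2)
    · intro h
      apply Subtype.ext
      change (x : X) * β x = 1
      rw [h, hsq x x.2]
  have hran : f.range ≤ f.ker := by
    rintro _ ⟨x, rfl⟩
    rw [hker]
    change β ((x : X) * β x) = x * β x
    rw [map_mul, hββ, hcomm _ (hE x x.2) x x.2]
  have hcard : Nat.card f.ker * Nat.card f.range = Nat.card E := by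
    rw [← Subgroup.index_ker, Subgroup.card_mul_index]
  have hle : Nat.card f.range ≤ Nat.card f.ker := Nat.card_le_card_of_injective _ (Subgroup.inclusion_injective hran)
  have h3 : 3 ≤ Nat.card f.ker := by
    by_contra h
    have h4 : Nat.card f.ker ≤ 2 := by omega
    have h5 : Nat.card f.ker * Nat.card f.range ≤ 2 * 2 := Nat.mul_le_mul h4 (hle.trans h4)
    omega
  -- two elements
  have h4 : ∃ z : E, z ∈ f.ker ∧ z ≠ 1 := by
    by_contra hno
    push Not at hno
    have : f.ker = ⊥ := by rw [eq_bot_iff]; intro z hz; rw [mem_bot]; exact hno z hz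
    rw [this, Subgroup.card_bot] at h3
    omega
  obtain ⟨z, hz, hz1⟩ := h4
  have h5 : ∃ v : E, v ∈ f.ker ∧ v ≠ 1 ∧ v ≠ z := by
    by_contra hno
    push Not at hno
    have h6 : ((f.ker : Subgroup E) : Set E) ⊆ {1, z} := by
      intro v hv
      by_cases h1 : v = 1
      · exact Or.inl h1
      · exact Or.inr (hno v hv h1)
    have h7 := Set.ncard_le_ncard h6 (Set.toFinite _)
    have h8 := Set.ncard_insert_le (1 : E) {z}
    rw [Set.ncard_singleton] at h8
    have h9 : Nat.card f.ker = ((f.ker : Subgroup E) : Set E).ncard := rfl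
    omega
  obtain ⟨v, hv, hv1, hvz⟩ := h5
  refine ⟨z, z.2, v, v.2, ?_, ?_, ?_, (hker z).mp hz, (hker v).mp hv⟩
  · intro h; exact hz1 (Subtype.ext h)
  · intro h; exact hv1 (Subtype.ext h)
  · intro h; exact hvz (Subtype.ext h.symm)

end

/-- Reduction to automorphisms leaving a Sylow 2-subgroup invariant: for every automorphism `β`, `β² = 1`, leaving the Sylow 2-subgroup `S` invariant there is a good
four-group fixed by `β` -/
theorem exists_of_sylow {X : Type v} [Group X] [Finite X] (S : Sylow 2 X)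
    (h : ∀ β : MulAut X, β * β = 1 → (∀ s ∈ S, β s ∈ S) → ∃ z v : X, z * z = 1 ∧ v * v = 1 ∧ β z = z ∧ β v = v ∧
      Good z ∧ Good v ∧ Good (z * v)) : ∀ α : MulAut X, α * α = 1 → ∃ z v : X, z * z = 1 ∧ v * v = 1 ∧ α z = z ∧
      α v = v ∧ Good z ∧ Good v ∧ Good (z * v) := by
  intro α hα
  obtain ⟨g, hg⟩ := exists_sylow_fixed hα S
  obtain ⟨β, hβ⟩ : ∃ β : MulAut X, β = (MulAut.conj g)⁻¹ * α * MulAut.conj g := ⟨_, rfl⟩
  have hβx : ∀ x, β x = g⁻¹ * α (g * x * g⁻¹) * g := by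
    intro x
    rw [hβ]
    change (MulAut.conj g)⁻¹ (α (g * x * g⁻¹)) = _
    rw [← map_inv, MulAut.conj_apply, inv_inv]
  have hββ : β * β = 1 := by
    rw [hβ]
    calc (MulAut.conj g)⁻¹ * α * MulAut.conj g * ((MulAut.conj g)⁻¹ * α * MulAut.conj g)
        = (MulAut.conj g)⁻¹ * (α * α) * MulAut.conj g := by group
      _ = 1 := by rw [hα, mul_one, inv_mul_cancel]
  obtain ⟨z, v, hz2, hv2, hz, hv, hgz, hgv, hgzv⟩ := h β hββ (fun s hs => by rw [hβx]; exact hg s hs)
  have hfix : ∀ x, β x = x → α (g * x * g⁻¹) = g * x * g⁻¹ := by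
    intro x hx
    rw [hβx] at hx
    nth_rw 2 [← hx]
    group
  have hsq : ∀ x, x * x = 1 → (g * x * g⁻¹) * (g * x * g⁻¹) = 1 := by
    intro x hx
    calc (g * x * g⁻¹) * (g * x * g⁻¹) = g * (x * x) * g⁻¹ := by group
      _ = 1 := by rw [hx, mul_one, mul_inv_cancel]
  refine ⟨g * z * g⁻¹, g * v * g⁻¹, hsq z hz2, hsq v hv2, hfix z hz, hfix v hv, hgz.conj g, hgv.conj g, ?_⟩
  have : g * z * g⁻¹ * (g * v * g⁻¹) = g * (z * v) * g⁻¹ := by group
  rw [this]
  exact hgzv.conj g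

/-- **END(Y)**, `Y ≅ X`, if for every automorphism `β` of `X`, `β² = 1`, leaving the Sylow 2-subgroup `S` invariant there is
a good four-group fixed by `β` -/
theorem lb_of_sylow' {X : Type v} [Group X] [Finite X] (hZ : center X = ⊥) (S : Sylow 2 X)
    (h : ∀ β : MulAut X, β * β = 1 → (∀ s ∈ S, β s ∈ S) → ∃ z v : X, z * z = 1 ∧ v * v = 1 ∧ β z = z ∧ β v = v ∧
      Good z ∧ Good v ∧ Good (z * v)) {Y : Type u} [Group Y] (e : X ≃* Y) : LB Y :=
  lb_of_pureFour' hZ (exists_of_sylow S h) e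

/-- **END(X)** if for every automorphism `β`, `β² = 1`, leaving the Sylow 2-subgroup `S` invariant there is a good
four-group fixed by `β` -/
theorem lb_of_sylow {X : Type u} [Group X] [Finite X] (hZ : center X = ⊥) (S : Sylow 2 X)
    (h : ∀ β : MulAut X, β * β = 1 → (∀ s ∈ S, β s ∈ S) → ∃ z v : X, z * z = 1 ∧ v * v = 1 ∧ β z = z ∧ β v = v ∧
      Good z ∧ Good v ∧ Good (z * v)) : LB X := lb_of_sylow' hZ S h (MulEquiv.refl X)

/-- **END(Y)**, `Y ≅ X`, from a Sylow-invariant good elementary abelian subgroup of `X` of order at least 8 -/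
theorem lb_of_elem' {X : Type v} [Group X] [Finite X] (hZ : center X = ⊥) (S : Sylow 2 X) (E : Subgroup X)
    (h8 : 8 ≤ Nat.card E) (hsq : ∀ x ∈ E, x * x = 1) (hgood : ∀ x ∈ E, x ≠ 1 → Good x)
    (h : ∀ β : MulAut X, β * β = 1 → (∀ s ∈ S, β s ∈ S) → ∀ x ∈ E, β x ∈ E) {Y : Type u} [Group Y] (e : X ≃* Y) :
    LB Y := by
  refine lb_of_sylow' hZ S (fun β hβ hS => ?_) e
  obtain ⟨z, hz, v, hv, hz1, hv1, hzv, hβz, hβv⟩ := exists_fixed_pair h8 hsq hβ (h β hβ hS)
  refine ⟨z, v, hsq z hz, hsq v hv, hβz, hβv, hgood z hz hz1, hgood v hv hv1, hgood _ (E.mul_mem hz hv) ?_⟩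
  intro h1
  apply hzv
  have h2 := hsq v hv
  exact mul_right_cancel (h1.trans h2.symm)

/-- **END(X)** from a Sylow-invariant good elementary abelian subgroup of order at least 8 -/
theorem lb_of_elem {X : Type u} [Group X] [Finite X] (hZ : center X = ⊥) (S : Sylow 2 X) (E : Subgroup X)
    (h8 : 8 ≤ Nat.card E) (hsq : ∀ x ∈ E, x * x = 1) (hgood : ∀ x ∈ E, x ≠ 1 → Good x)
    (h : ∀ β : MulAut X, β * β = 1 → (∀ s ∈ S, β s ∈ S) → ∀ x ∈ E, β x ∈ E) : LB X :=
  lb_of_elem' hZ S E h8 hsq hgood h (MulEquiv.refl X)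

end Cfsg.Agent.UGT.End.SylFour
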