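import Cfsg.Agent.UGT.End.RankOneFacts
import Cfsg.Agent.UGT.End.PSUCoord

/-!
# `FixFour` for `PSU₃(4)`

An automorphism of order at most 2 of `PSU₃(4)` which normalises a Sylow 2-subgroup `S` centralises `Z(S)`.
-/

set_option autoImplicit false

namespace Cfsg.Agent.UGT.End.UThreeFour

open Subgroup Pointwise
open Cfsg.Agent.LieRecognition Cfsg.Agent.LieRecognition.HermHeis
  Cfsg.Agent.WeakTI.BenderAct Cfsg.Agent.AschCrit.PSUTorus
  Cfsg.Agent.UGT.End.RankOneTI Cfsg.Agent.UGT.End.RankOneFacts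
open MulAction (stabilizer)

/-! ### the field of order 16 -/

section field

variable {F : Type*} [Field F] [Fintype F] [CharP F 2]

/-- Ring endomorphisms of a finite field of characteristic two. -/
theorem ringHom_eq_pow (p : ℕ) (hF : Fintype.card F = 2 ^ p) (σ : F →+* F) :
    ∃ i < p, ∀ a, σ a = a ^ (2 ^ i) := by
  let _ : Algebra (ZMod 2) F := ZMod.algebra F 2
  have : Fact (Nat.Prime 2) := ⟨Nat.prime_two⟩
  let σ' : F →ₐ[ZMod 2] F :=
    { σ with
      commutes' := fun r => by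
        have h : (σ.comp (algebraMap (ZMod 2) F)) = algebraMap (ZMod 2) F := Subsingleton.elim _ _
        exact RingHom.congr_fun h r }
  obtain ⟨n, hn⟩ := (FiniteField.bijective_frobeniusAlgHom_pow (ZMod 2) F).2 σ'
  have h1 : Fintype.card F = Fintype.card (ZMod 2) ^ Module.finrank (ZMod 2) F :=
    Module.card_eq_pow_finrank
  rw [hF, ZMod.card] at h1
  have h2 : p = Module.finrank (ZMod 2) F := Nat.pow_right_injective (le_refl 2) h1
  refine ⟨n, by rw [h2]; exact n.2, fun a => ?_⟩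
  have h3 := DFunLike.congr_fun hn a
  simp only [AlgHom.coe_pow, FiniteField.coe_frobeniusAlgHom, pow_iterate, ZMod.card] at h3
  exact h3.symm

omit [CharP F 2] in
theorem exists_gen (hF : Fintype.card F = 16) : ∃ g : F, g ≠ 0 ∧ g ^ 5 ≠ 1 ∧ g ^ 4 ≠ g := by
  obtain ⟨u, hu⟩ := IsCyclic.exists_ofOrder_eq_natCard (α := Fˣ)
  have h15 : orderOf u = 15 := by
    rw [hu, Nat.card_units, Nat.card_eq_fintype_card, hF]
  refine ⟨u, u.ne_zero, ?_, ?_⟩
  · intro h
    have h1 : u ^ 5 = 1 := Units.ext (by simpa using h)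
    have := orderOf_dvd_of_pow_eq_one h1
    rw [h15] at this
    omega
  · intro h
    have h1 : u ^ 4 = u := Units.ext (by simpa using h)
    have h2 : u ^ 3 = 1 := by
      have : u ^ 3 * u = 1 * u := by rw [← pow_succ, h1, one_mul]
      exact mul_right_cancel this
    have := orderOf_dvd_of_pow_eq_one h2
    rw [h15] at this
    omega

theorem norm_eq_of_invol (hF : Fintype.card F = 16) (ρ : F →+* F) (hρ : ∀ a, ρ (ρ a) = a) (a : F) :
    (ρ a) ^ 5 = a ^ 5 := by
  have h16 : ∀ x : F, x ^ 16 = x := fun x => by rw [← hF]; exact FiniteField.pow_card x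
  obtain ⟨g, hg0, -, hg⟩ := exists_gen hF
  obtain ⟨i, hi, h⟩ := ringHom_eq_pow 4 (by rw [hF]; norm_num) ρ
  have h2 := hρ g
  rw [h, h] at h2
  rw [h]
  interval_cases i
  · simp
  · exfalso
    apply hg
    norm_num [← pow_mul] at h2
    exact h2
  · norm_num
    rw [← pow_mul]
    calc a ^ (4 * 5) = a ^ 16 * a ^ 4 := by rw [← pow_add]
      _ = a ^ 5 := by rw [h16]; ring
  · exfalso
    apply hg
    norm_num [← pow_mul] at h2
    calc g ^ 4 = (g ^ 16) ^ 4 := by rw [h16]
      _ = g ^ 64 := by rw [← pow_mul]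
      _ = g := h2

/-- an involutory semilinear map of the field of order 16 preserves the norm to the field of order 4 -/
theorem norm_eq (hF : Fintype.card F = 16) (τ : F → F) (hadd : ∀ a b, τ (a + b) = τ a + τ b)
    (hττ : ∀ a, τ (τ a) = a) (hsl : ∀ l : F, l ≠ 0 → ∃ m : F, ∀ a, τ (l * a) = m * τ a) (a : F) :
    (τ a) ^ 5 = a ^ 5 := by
  have h0 : τ 0 = 0 := by
    have := hadd 0 0
    rw [add_zero] at this
    exact left_eq_add.mp this
  set c := τ 1 with hc
  have hc0 : c ≠ 0 := by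
    intro h
    have h1 := hττ 1
    rw [← hc, h, h0] at h1
    exact zero_ne_one h1
  have hmul : ∀ l a, τ (l * a) * c = τ l * τ a := by
    intro l a
    by_cases hl : l = 0
    · rw [hl, zero_mul, h0, zero_mul, zero_mul]
    · obtain ⟨m, hm⟩ := hsl l hl
      have h1 := hm 1
      rw [mul_one, ← hc] at h1
      rw [hm a, h1]
      ring
  let ρ : F →+* F :=
    { toFun := fun a => τ a / c
      map_one' := by rw [← hc, div_self hc0]
      map_zero' := by rw [h0, zero_div]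
      map_add' := fun a b => by rw [hadd, add_div]
      map_mul' := fun a b => by
        have := hmul a b
        field_simp
        linear_combination this }
  have hρ : ∀ a, τ a = c * ρ a := fun a => by
    show τ a = c * (τ a / c)
    field_simp
  have h1 : ∀ a, c * (ρ c * ρ (ρ a)) = a := by
    intro a
    have h2 := hττ a
    rw [hρ a, hρ (c * ρ a), map_mul] at h2
    exact h2
  have h2 : c * ρ c = 1 := by
    have := h1 1
    rwa [map_one, map_one, mul_one] at this
  have h3 : ∀ a, ρ (ρ a) = a := by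
    intro a
    have := h1 a
    rwa [← mul_assoc, h2, one_mul] at this
  have h4 : (ρ c) ^ 5 = c ^ 5 := norm_eq_of_invol hF ρ h3 c
  have h5 : c ^ 5 * c ^ 5 = 1 := by
    nth_rewrite 2 [← h4]
    rw [← mul_pow, h2, one_pow]
  have h6 : c ^ 5 = 1 := by
    have h7 : (c ^ 5 + 1) * (c ^ 5 + 1) = 0 := by
      have h8 : (2 : F) = 0 := CharTwo.two_eq_zero
      linear_combination h5 + (c ^ 5 + 1) * h8
    have h9 := mul_self_eq_zero.mp h7
    rw [CharTwo.add_eq_zero] at h9
    exact h9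
  rw [hρ, mul_pow, h6, one_mul]
  exact norm_eq_of_invol hF ρ h3 a

end field

/-! ### `FixFour` -/

section fix

variable {F : Type*} [Field F] [Fintype F] [CharP F 2] {σ : F →+* F} [hσ : Fact (∀ x, σ (σ x) = x)]
variable {X Ω : Type*} [Group X] [Finite X] [MulAction X Ω] {a : Ω} {w : X} {S : Subgroup X} {i : ℕ}

theorem fixFour_of_coord (hF : Fintype.card F = 16) (hs : ∀ x, σ x = x ^ 4) (h : Facts X Ω a w S i)
    (ψ : Heis σ ≃* S)
    (ht1 : ∀ (α : F) (h0 : α ≠ 0), ∃ y ∈ stabilizer X a ⊓ stabilizer X (w • a),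
      ∀ x : Heis σ, y * (ψ x : X) = ψ (scal α h0 x) * y)
    (ht2 : ∀ y ∈ stabilizer X a ⊓ stabilizer X (w • a), ∃ (α : F) (h0 : α ≠ 0),
      ∀ x : Heis σ, y * (ψ x : X) = ψ (scal α h0 x) * y) : FixFour X := by
  have : Fact (Nat.Prime 2) := ⟨Nat.prime_two⟩
  have hF' : Nat.card F = (2 ^ 2) ^ 2 := by rw [Nat.card_eq_fintype_card, hF]; norm_num
  have hq : 1 < 2 ^ 2 := by norm_num
  have hs' : ∀ x, σ x = x ^ (2 ^ 2) := fun x => by rw [hs]; norm_num
  obtain ⟨-, -, -, ⟨P, hP⟩, -⟩ := Cfsg.Agent.S1119.result h.base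
  have hSP : S = P := le_antisymm (P.is_maximal' (isPGroup h) hP).le hP
  subst hSP
  apply fixFour_of_one P
  intro φ hφ hφP
  have hwa : w • a ≠ a := RankOneBasic.t_smul_ne h.base
  have hT : Facts X Ω (w • a) (w * w * w⁻¹) ((w • P : Sylow 2 X) : Subgroup X) i := h.conj w
  set T : Sylow 2 X := w • P with hTdef
  have hTP : T ≠ P := by
    intro h1
    have h2 : w • P = P := h1
    exact hwa ((smul_eq_iff h w).mp h2)
  have hφTP : φ • T ≠ P := by
    intro h1
    exact hTP (smul_left_cancel φ (h1.trans hφP.symm))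
  obtain ⟨s, hs1, hsT⟩ := trans h P T (φ • T) hTP hφTP
  have hsT' : MulAut.conj s • T = φ • T := hsT
  have hsP : MulAut.conj s • P = P := (smul_eq_iff h s).mpr (h.base.le hs1)
  let φ' : MulAut X := (MulAut.conj s)⁻¹ * φ
  have hφ'P : φ' • P = P := by
    simp only [φ']
    rw [mul_smul, hφP, inv_smul_eq_iff, hsP]
  have hφ'T : φ' • T = T := by
    simp only [φ']
    rw [mul_smul, ← hsT', inv_smul_smul]
  have hφ'mem : ∀ x ∈ (P : Subgroup X), φ' x ∈ (P : Subgroup X) := by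
    intro x hx
    have := mem_smul_sylow (φ := φ') (S := P) hx
    rw [hφ'P] at this
    exact this
  have hφ'φ' : φ' * φ' = 1 := by
    have h1 : φ' * φ' = MulAut.conj (s⁻¹ * φ s⁻¹) := by
      simp only [φ']
      rw [← map_inv, mul_assoc, ← mul_assoc φ, smul_conj, mul_assoc _ φ φ, hφ, mul_one, ← map_mul]
    have h2 : s⁻¹ * φ s⁻¹ ∈ (P : Subgroup X) := by
      refine mul_mem (inv_mem hs1) ?_
      have := mem_smul_sylow (φ := φ) (S := P) (inv_mem hs1)
      rw [hφP] at this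
      exact this
    have h3 : (s⁻¹ * φ s⁻¹) • T = T := by
      show MulAut.conj (s⁻¹ * φ s⁻¹) • T = T
      rw [← h1, mul_smul, hφ'T, hφ'T]
    have h4 : s⁻¹ * φ s⁻¹ ∈ (P : Subgroup X) ⊓ stabilizer X (w • a) :=
      mem_inf.mpr ⟨h2, (smul_eq_iff hT _).mp h3⟩
    rw [h.base.inf_eq_bot, mem_bot] at h4
    rw [h1, h4, map_one]
  -- the map on `Heis σ`
  let θ : Heis σ →* Heis σ := ψ.symm.toMonoidHom.comp
    ((φ'.toMonoidHom.comp ((P : Subgroup X).subtype.comp ψ.toMonoidHom)).codRestrict P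
      (fun x => hφ'mem _ (ψ x).2))
  have hθ : ∀ x, (ψ (θ x) : X) = φ' (ψ x) := by
    intro x
    show ((ψ (ψ.symm ⟨φ' (ψ x), _⟩) : (P : Subgroup X)) : X) = _
    rw [MulEquiv.apply_symm_apply]
  have hψinj : ∀ x y : Heis σ, (ψ x : X) = ψ y → x = y := fun x y hxy =>
    ψ.injective (Subtype.ext hxy)
  have hθθ : ∀ x, θ (θ x) = x := by
    intro x
    apply hψinj
    rw [hθ, hθ, ← MulAut.mul_apply, hφ'φ', MulAut.one_apply]
  have hwd : ∀ x y : Heis σ, x.a = y.a → (θ x).a = (θ y).a := by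
    intro x y hxy
    have h1 : (x * y).a = 0 := by
      rw [mul_a, hxy, CharTwo.add_self_eq_zero]
    have h2 : (x * y) * (x * y) = 1 := (mul_self_eq_one_iff _).mpr h1
    have h3 : θ (x * y) * θ (x * y) = 1 := by rw [← map_mul, h2, map_one]
    have h4 := (mul_self_eq_one_iff _).mp h3
    rw [map_mul, mul_a, CharTwo.add_eq_zero] at h4
    exact h4
  choose sec hsec using fun b : F => exists_heis_a (σ := σ) hq hs' hF' b
  let τ : F → F := fun b => (θ (sec b)).a
  have hτ : ∀ x : Heis σ, (θ x).a = τ x.a := fun x => hwd _ _ (hsec x.a).symm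
  have hadd : ∀ b c, τ (b + c) = τ b + τ c := by
    intro b c
    have h1 := hτ (sec b * sec c)
    rw [mul_a, hsec, hsec, map_mul, mul_a, hτ, hτ, hsec, hsec] at h1
    exact h1.symm
  have hττ : ∀ b, τ (τ b) = b := by
    intro b
    have h1 := hτ (θ (sec b))
    rw [hθθ, hsec] at h1
    exact h1.symm
  have h16 : ∀ x : F, x ^ 16 = x := fun x => by rw [← hF]; exact FiniteField.pow_card x
  have hsl : ∀ l : F, l ≠ 0 → ∃ m : F, ∀ b, τ (l * b) = m * τ b := by
    intro l hl
    have hα0 : (l⁻¹) ^ 8 ≠ 0 := pow_ne_zero _ (inv_ne_zero hl)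
    have hα : ((l⁻¹) ^ 8) ^ 2 / σ ((l⁻¹) ^ 8) = l := by
      rw [hs, ← pow_mul, ← pow_mul]
      have h1 : (l⁻¹) ^ (8 * 2) = l⁻¹ := h16 _
      have h2 : (l⁻¹) ^ (8 * 4) = l⁻¹ ^ 2 := by
        rw [show 8 * 4 = 16 * 2 from rfl, pow_mul, h16]
      rw [h1, h2]
      field_simp
    obtain ⟨y, hy, hyψ⟩ := ht1 _ hα0
    obtain ⟨hya, hyw⟩ := mem_inf.mp hy
    have hfix : ∀ (b : Ω) (u : X) (R : Sylow 2 X), Facts X Ω b u (R : Subgroup X) i → φ' • R = R →
        y ∈ stabilizer X b → φ' y ∈ stabilizer X b := by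
      intro b u R hR hφR hyb
      rw [← smul_eq_iff hR] at hyb ⊢
      show MulAut.conj (φ' y) • R = R
      have h1 : MulAut.conj (φ' y) * φ' = φ' * MulAut.conj y := (smul_conj φ' y).symm
      have h2 : MulAut.conj y • R = R := hyb
      calc MulAut.conj (φ' y) • R = MulAut.conj (φ' y) • φ' • R := by rw [hφR]
        _ = φ' • MulAut.conj y • R := by rw [← mul_smul, h1, mul_smul]
        _ = R := by rw [h2, hφR]
    obtain ⟨β, hβ0, hβ⟩ := ht2 (φ' y) (mem_inf.mpr ⟨hfix a w P h hφ'P hya, hfix _ _ T hT hφ'T hyw⟩)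
    refine ⟨β ^ 2 / σ β, fun b => ?_⟩
    have h1 := congrArg φ' (hyψ (sec b))
    rw [map_mul, map_mul, ← hθ, ← hθ, hβ] at h1
    have h2 := hψinj _ _ (mul_right_cancel h1)
    have h3 := congrArg Heis.a h2
    rw [hτ] at h3
    have h4 : (scal ((l⁻¹) ^ 8) hα0 (sec b)).a = l * b := by
      show ((l⁻¹) ^ 8) ^ 2 / σ ((l⁻¹) ^ 8) * (sec b).a = l * b
      rw [hα, hsec]
    have h5 : (scal β hβ0 (θ (sec b))).a = β ^ 2 / σ β * τ b := rfl
    rw [h4, h5] at h3
    exact h3.symm
  have hnorm := norm_eq hF τ hadd hττ hsl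
  -- squares are fixed
  have hsq : ∀ x : Heis σ, θ (x * x) = x * x := by
    intro x
    rw [map_mul]
    ext
    · rw [mul_a, mul_a, CharTwo.add_self_eq_zero, CharTwo.add_self_eq_zero]
    · rw [mul_b, mul_b, CharTwo.add_self_eq_zero, CharTwo.add_self_eq_zero, hτ, hs, hs]
      have := hnorm x.a
      ring_nf
      ring_nf at this
      exact this
  have hfix : ∀ x : Heis σ, φ (ψ (x * x) : X) = (ψ (x * x) : X) := by
    intro x
    have h1 : φ' (ψ (x * x) : X) = (ψ (x * x) : X) := by rw [← hθ, hsq]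
    have h2 : φ (ψ (x * x) : X) = MulAut.conj s (φ' (ψ (x * x) : X)) := by
      simp only [φ', MulAut.mul_apply, MulAut.apply_inv_self]
    rw [h2, h1, MulAut.conj_apply]
    have h3 : (ψ (x * x) : X) * (ψ (x * x) : X) = 1 := by
      have h4 : (x * x) * (x * x) = 1 := by
        rw [HermHeis.mul_self_eq_one_iff, mul_a, CharTwo.add_self_eq_zero]
      rw [← Subgroup.coe_mul, ← map_mul, h4, map_one, Subgroup.coe_one]
    rw [← h.cent _ (ψ (x * x)).2 h3 s hs1, mul_inv_cancel_right]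
  obtain ⟨g, hg0, hg5, -⟩ := exists_gen hF
  have hb : ∀ x : Heis σ, (x * x).b = x.a ^ 5 := by
    intro x
    rw [mul_b, CharTwo.add_self_eq_zero, zero_add, hs]
    ring
  have hne1 : ∀ x : Heis σ, x.a ≠ 0 → (ψ (x * x) : X) ≠ 1 := by
    intro x hx h1
    have h2 : x * x = 1 := hψinj _ _ (by rw [h1, map_one, Subgroup.coe_one])
    exact hx ((mul_self_eq_one_iff x).mp h2)
  have hinv : ∀ x : Heis σ, (ψ (x * x) : X) * ψ (x * x) = 1 := by
    intro x
    have h4 : (x * x) * (x * x) = 1 := by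
      rw [HermHeis.mul_self_eq_one_iff, mul_a, CharTwo.add_self_eq_zero]
    rw [← Subgroup.coe_mul, ← map_mul, h4, map_one, Subgroup.coe_one]
  refine ⟨ψ (sec 1 * sec 1), ψ (sec g * sec g), (ψ _).2, (ψ _).2, ?_, ?_, ?_, hinv _, hinv _, ?_,
    hfix _, hfix _⟩
  · apply hne1
    rw [hsec]
    exact one_ne_zero
  · apply hne1
    rw [hsec]
    exact hg0
  · intro h1
    have h2 := congrArg Heis.b (hψinj _ _ h1)
    rw [hb, hb, hsec, hsec, one_pow] at h2
    exact hg5 h2.symm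
  · exact h.cent _ (ψ _).2 (hinv _) _ (ψ _).2

end fix

end Cfsg.Agent.UGT.End.UThreeFour
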